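import Groth.Prelude.Def_ArtFun3
import Mathlib

/-!
# The category `ArtFun.Art Λ k`: constructions (factorisations, sub-objects, fibre products)
-/

set_option autoImplicit false

universe u

open CategoryTheory ArtFun ArtFun.Art

noncomputable section

namespace Groth.Agent.ArtFunLib

variable {Λ k : Type u} [CommRing Λ] [Field k] [Algebra Λ k]

variable {A B C D : Art Λ k}

lemma hom_ext' {f g : A ⟶ B} (h : ∀ a, f a = g a) : f = g := Art.hom_ext (AlgHom.ext h)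

lemma congr_hom {f g : A ⟶ B} (h : f = g) (a : A) : f a = g a := by rw [h]

lemma isNilpotent_of_res {a : A} (h : A.res a = 0) : IsNilpotent a := by
  obtain ⟨n, hn⟩ := IsArtinianRing.isNilpotent_jacobson_bot (R := A)
  refine ⟨n, ?_⟩
  have : a ^ n ∈ (⊥ : Ideal A).jacobson ^ n := Ideal.pow_mem_pow
    (by rw [IsLocalRing.jacobson_eq_maximalIdeal _ bot_ne_top, Art.mem_maximalIdeal_iff]; exact h) n
  rwa [hn] at this

lemma isNilpotent_maximalIdeal (A : Art Λ k) : ∃ n : ℕ, IsLocalRing.maximalIdeal A ^ n = ⊥ := by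
  obtain ⟨n, hn⟩ := IsArtinianRing.isNilpotent_jacobson_bot (R := A)
  rw [IsLocalRing.jacobson_eq_maximalIdeal _ bot_ne_top] at hn
  exact ⟨n, hn⟩

lemma map_mem_maximalIdeal (f : A ⟶ B) {a : A} (ha : a ∈ IsLocalRing.maximalIdeal A) :
    f a ∈ IsLocalRing.maximalIdeal B := by
  rw [Art.mem_maximalIdeal_iff] at ha ⊢
  rw [Art.res_app, ha]

lemma ker_le_maximalIdeal (f : A ⟶ B) : RingHom.ker f.toAlgHom ≤ IsLocalRing.maximalIdeal A :=
  IsLocalRing.le_maximalIdeal (RingHom.ker_ne_top _)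

lemma injective_iff_ker (f : A ⟶ B) : Function.Injective f ↔ RingHom.ker f.toAlgHom = ⊥ :=
  (RingHom.injective_iff_ker_eq_bot f.toAlgHom.toRingHom)

/-- The inverse of a bijective morphism. -/
def homInv (f : A ⟶ B) (hf : Function.Bijective f) : B ⟶ A :=
  ⟨(AlgEquiv.ofBijective f.toAlgHom hf).symm.toAlgHom, AlgHom.ext fun b => by
    obtain ⟨a, rfl⟩ := hf.2 b
    change A.res ((AlgEquiv.ofBijective f.toAlgHom hf).symm (AlgEquiv.ofBijective f.toAlgHom hf a)) = _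
    rw [AlgEquiv.symm_apply_apply]
    exact (Art.res_app f a).symm⟩

lemma homInv_apply (f : A ⟶ B) (hf : Function.Bijective f) (a : A) : homInv f hf (f a) = a :=
  (AlgEquiv.ofBijective f.toAlgHom hf).symm_apply_apply a

lemma apply_homInv (f : A ⟶ B) (hf : Function.Bijective f) (b : B) : f (homInv f hf b) = b :=
  (AlgEquiv.ofBijective f.toAlgHom hf).apply_symm_apply b

lemma comp_homInv (f : A ⟶ B) (hf : Function.Bijective f) : f ≫ homInv f hf = 𝟙 A :=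
  hom_ext' fun a => homInv_apply f hf a

lemma homInv_comp (f : A ⟶ B) (hf : Function.Bijective f) : homInv f hf ≫ f = 𝟙 B :=
  hom_ext' fun b => apply_homInv f hf b

lemma isIso_of_bijective (f : A ⟶ B) (hf : Function.Bijective f) : IsIso f :=
  ⟨homInv f hf, comp_homInv f hf, homInv_comp f hf⟩

lemma bijective_of_isIso (f : A ⟶ B) [IsIso f] : Function.Bijective f :=
  Function.bijective_iff_has_inverse.mpr ⟨inv f, fun a => congr_hom (IsIso.hom_inv_id f) a,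
    fun b => congr_hom (IsIso.inv_hom_id f) b⟩

/-- Factor `g` through a surjection whose kernel it kills. -/
def factor (q : A ⟶ B) (hq : Function.Surjective q) (g : A ⟶ C)
    (h : RingHom.ker q.toAlgHom ≤ RingHom.ker g.toAlgHom) : B ⟶ C :=
  ⟨(Ideal.Quotient.liftₐ _ g.toAlgHom fun _ ha => h ha).comp
      (Ideal.quotientKerAlgEquivOfSurjective hq).symm.toAlgHom, AlgHom.ext fun b => by
    obtain ⟨a, rfl⟩ := hq b
    change C.res (Ideal.Quotient.liftₐ _ g.toAlgHom (fun _ ha => h ha) ((Ideal.quotientKerAlgEquivOfSurjective hq).symm (q a))) = _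
    rw [show (Ideal.quotientKerAlgEquivOfSurjective hq).symm (q a) = Ideal.Quotient.mk _ a from
      (AlgEquiv.symm_apply_eq _).mpr rfl]
    exact (Art.res_app g a).trans (Art.res_app q a).symm⟩

lemma factor_apply (q : A ⟶ B) (hq : Function.Surjective q) (g : A ⟶ C)
    (h : RingHom.ker q.toAlgHom ≤ RingHom.ker g.toAlgHom) (a : A) :
    factor q hq g h (q a) = g a := by
  change Ideal.Quotient.liftₐ _ g.toAlgHom (fun _ ha => h ha) ((Ideal.quotientKerAlgEquivOfSurjective hq).symm (q a)) = _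
  rw [show (Ideal.quotientKerAlgEquivOfSurjective hq).symm (q a) = Ideal.Quotient.mk _ a from
      (AlgEquiv.symm_apply_eq _).mpr rfl]
  rfl

lemma comp_factor (q : A ⟶ B) (hq : Function.Surjective q) (g : A ⟶ C)
    (h : RingHom.ker q.toAlgHom ≤ RingHom.ker g.toAlgHom) : q ≫ factor q hq g h = g :=
  hom_ext' fun a => factor_apply q hq g h a

lemma ker_quotMk (A : Art Λ k) (K : Ideal A) (hK : K ≤ IsLocalRing.maximalIdeal A) :
    RingHom.ker (quotMk A K hK).toAlgHom = K := Ideal.mk_ker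

/-! ## Finiteness over `Λ` -/

section Finite

variable [IsNoetherianRing Λ] [Module.Finite Λ k]

instance finite_carrier (A : Art Λ k) : Module.Finite Λ A :=
  Module.finite_of_surjective_of_ker_le_nilradical A.res A.res_surjective
    (fun _ ha => mem_nilradical.mpr (isNilpotent_of_res ha)) (IsNoetherian.noetherian _)

/-- A finite augmented algebra with nilpotent augmentation ideal is an object. -/
def mkArt (R : Type u) [CommRing R] [Algebra Λ R] [Module.Finite Λ R] (res : R →ₐ[Λ] k)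
    (hres : Function.Surjective res) (hnil : ∀ r, res r = 0 → IsNilpotent r) : Art Λ k :=
  haveI : IsNoetherianRing R :=
    isNoetherian_of_tower (M := R) Λ (S := R) (isNoetherian_of_isNoetherianRing_of_finite Λ R)
  haveI : Nontrivial R := (res : R →+* k).domain_nontrivial
  haveI : IsLocalRing R := IsLocalRing.of_isUnit_or_isUnit_one_sub_self fun r => by
    by_cases h : res r = 0
    · exact .inr (hnil r h).isUnit_one_sub
    · obtain ⟨s, hs⟩ := hres (res r)⁻¹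
      have h1 : IsNilpotent (r * s - 1) := hnil _ (by
        rw [map_sub, map_mul, map_one, hs, mul_inv_cancel₀ h, sub_self])
      have h2 : IsUnit (r * s) := by
        have := h1.isUnit_one_add
        rwa [add_sub_cancel] at this
      exact .inl (isUnit_of_mul_isUnit_left h2)
  haveI : IsArtinianRing R := by
    rw [isArtinianRing_iff_isNilpotent_maximalIdeal,
      Ideal.FG.isNilpotent_iff_le_nilradical (IsNoetherian.noetherian _)]
    intro r hr
    refine mem_nilradical.mpr (hnil r ?_)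
    have : (RingHom.ker (res : R →+* k)).IsMaximal := RingHom.ker_isMaximal_of_surjective _ hres
    rw [← IsLocalRing.eq_maximalIdeal this] at hr
    exact hr
  Art.of R res hres

/-- Fibre products exist when pairs with the same image surject onto the residue field. -/
lemma exists_fibreProd_of_res {A₁ A₂ : Art Λ k} (f₁ : A₁ ⟶ A) (f₂ : A₂ ⟶ A)
    (h : ∀ c : k, ∃ a₁ a₂, f₁ a₁ = f₂ a₂ ∧ A₁.res a₁ = c) :
    ∃ (P : Art Λ k) (p₁ : P ⟶ A₁) (p₂ : P ⟶ A₂), IsFibreProd p₁ p₂ f₁ f₂ := by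
  let S : Subalgebra Λ (A₁ × A₂) :=
    AlgHom.equalizer (f₁.toAlgHom.comp (AlgHom.fst Λ A₁ A₂)) (f₂.toAlgHom.comp (AlgHom.snd Λ A₁ A₂))
  have : Module.Finite Λ S :=
    have : IsNoetherian Λ (A₁ × A₂) := isNoetherian_of_isNoetherianRing_of_finite Λ _
    inferInstanceAs (Module.Finite Λ (Subalgebra.toSubmodule S))
  let res : S →ₐ[Λ] k := (A₁.res.comp (AlgHom.fst Λ A₁ A₂)).comp S.val
  have hres : Function.Surjective res := fun c => by
    obtain ⟨a₁, a₂, he, hc⟩ := h c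
    exact ⟨⟨(a₁, a₂), he⟩, hc⟩
  have hres' : ∀ s : S, A₂.res s.1.2 = res s := fun s => by
    rw [← Art.res_app f₂, ← show f₁ s.1.1 = f₂ s.1.2 from s.2, Art.res_app]; rfl
  have hnil : ∀ s : S, res s = 0 → IsNilpotent s := fun s hs => by
    obtain ⟨m, hm⟩ := isNilpotent_of_res (A := A₁) (a := s.1.1) hs
    obtain ⟨n, hn⟩ := isNilpotent_of_res (A := A₂) (a := s.1.2) ((hres' s).trans hs)
    exact ⟨m + n, Subtype.ext (Prod.ext (by simp [pow_add, hm]) (by simp [pow_add, hn]))⟩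
  refine ⟨mkArt S res hres hnil, ⟨(AlgHom.fst Λ A₁ A₂).comp S.val, rfl⟩,
    ⟨(AlgHom.snd Λ A₁ A₂).comp S.val, AlgHom.ext hres'⟩, ?_, ?_, ?_⟩
  · exact hom_ext' fun s => s.2
  · exact fun b₁ b₂ h₁ h₂ => Subtype.ext (Prod.ext h₁ h₂)
  · exact fun a₁ a₂ he => ⟨⟨(a₁, a₂), he⟩, rfl, rfl⟩

/-- Fibre products exist when one of the maps is surjective. -/
lemma exists_fibreProd {A₁ A₂ : Art Λ k} (f₁ : A₁ ⟶ A) (f₂ : A₂ ⟶ A) (hf : Function.Surjective f₂) :
    ∃ (P : Art Λ k) (p₁ : P ⟶ A₁) (p₂ : P ⟶ A₂), IsFibreProd p₁ p₂ f₁ f₂ := by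
  refine exists_fibreProd_of_res f₁ f₂ fun c => ?_
  obtain ⟨a₁, ha₁⟩ := A₁.res_surjective c
  obtain ⟨a₂, ha₂⟩ := hf (f₁ a₁)
  exact ⟨a₁, a₂, ha₂.symm, ha₁⟩

end Finite

/-! ## Universal property of fibre products -/

section FibreProd

variable {A₁ A₂ P : Art Λ k} {p₁ : P ⟶ A₁} {p₂ : P ⟶ A₂} {f₁ : A₁ ⟶ A} {f₂ : A₂ ⟶ A}
  (h : IsFibreProd p₁ p₂ f₁ f₂)

include h in
lemma fibreProd_hom_ext {g g' : C ⟶ P} (h₁ : g ≫ p₁ = g' ≫ p₁) (h₂ : g ≫ p₂ = g' ≫ p₂) : g = g' :=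
  hom_ext' fun c => h.inj _ _ (congr_hom h₁ c) (congr_hom h₂ c)

include h in
lemma exists_lift_algHom {R : Type u} [CommRing R] [Algebra Λ R] (g₁ : R →ₐ[Λ] A₁) (g₂ : R →ₐ[Λ] A₂)
    (hg : ∀ r, f₁ (g₁ r) = f₂ (g₂ r)) : ∃ g : R →ₐ[Λ] P, ∀ r, p₁ (g r) = g₁ r ∧ p₂ (g r) = g₂ r := by
  choose g hg₁ hg₂ using fun r => h.surj (g₁ r) (g₂ r) (hg r)
  have he : ∀ r b, p₁ b = g₁ r → p₂ b = g₂ r → g r = b := fun r b h₁ h₂ =>
    h.inj _ _ ((hg₁ r).trans h₁.symm) ((hg₂ r).trans h₂.symm)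
  refine ⟨
    { toFun := g
      map_one' := he 1 1 (by simp) (by simp)
      map_mul' := fun x y => he _ _ (by simp [hg₁]) (by simp [hg₂])
      map_zero' := he 0 0 (by simp) (by simp)
      map_add' := fun x y => he _ _ (by simp [hg₁]) (by simp [hg₂])
      commutes' := fun l => he _ _ (by simp) (by simp) }, fun r => ⟨hg₁ r, hg₂ r⟩⟩

include h in
lemma exists_lift {g₁ : C ⟶ A₁} {g₂ : C ⟶ A₂} (hg : g₁ ≫ f₁ = g₂ ≫ f₂) :
    ∃ g : C ⟶ P, g ≫ p₁ = g₁ ∧ g ≫ p₂ = g₂ := by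
  obtain ⟨g, hg'⟩ := exists_lift_algHom h g₁.toAlgHom g₂.toAlgHom fun c => congr_hom hg c
  refine ⟨⟨g, AlgHom.ext fun c => ?_⟩, hom_ext' fun c => (hg' c).1, hom_ext' fun c => (hg' c).2⟩
  change P.res (g c) = _
  rw [← Art.res_app p₁, (hg' c).1]
  exact Art.res_app g₁ c

include h in
lemma exists_homSet_lift {R : Type u} [CommRing R] [Algebra Λ R] {resR : R →ₐ[Λ] k}
    {g₁ : HomSet R resR A₁} {g₂ : HomSet R resR A₂} (hg : HomSet.map f₁ g₁ = HomSet.map f₂ g₂) :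
    ∃ g : HomSet R resR P, HomSet.map p₁ g = g₁ ∧ HomSet.map p₂ g = g₂ := by
  obtain ⟨g, hg'⟩ := exists_lift_algHom h g₁.1 g₂.1 fun r =>
    DFunLike.congr_fun (congrArg Subtype.val hg) r
  refine ⟨⟨g, AlgHom.ext fun r => ?_⟩, Subtype.ext (AlgHom.ext fun r => (hg' r).1),
    Subtype.ext (AlgHom.ext fun r => (hg' r).2)⟩
  change P.res (g r) = _
  rw [← Art.res_app p₁, (hg' r).1]
  exact DFunLike.congr_fun g₁.2 r

include h in
lemma isFibreProd_symm : IsFibreProd p₂ p₁ f₂ f₁ where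
  w := h.w.symm
  inj b₁ b₂ h₁ h₂ := h.inj b₁ b₂ h₂ h₁
  surj a₂ a₁ e := (h.surj a₁ a₂ e.symm).imp fun _ hb => ⟨hb.2, hb.1⟩

include h in
lemma fibreProd_surjective_fst (hf : Function.Surjective f₂) : Function.Surjective p₁ := fun a₁ => by
  obtain ⟨a₂, ha₂⟩ := hf (f₁ a₁)
  obtain ⟨b, hb, -⟩ := h.surj a₁ a₂ ha₂.symm
  exact ⟨b, hb⟩

include h in
lemma fibreProd_bijective_fst (hf : Function.Bijective f₂) : Function.Bijective p₁ :=
  ⟨fun b b' e => h.inj b b' e (hf.1 (by rw [← h.w_apply, ← h.w_apply, e])),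
    fibreProd_surjective_fst h hf.2⟩

end FibreProd

/-- Pasting: a fibre product along a composite is a fibre product over the intermediate fibre
product. -/
lemma exists_paste {P Q A₁ A₂ : Art Λ k} {p₁ : P ⟶ A₁} {p₂ : P ⟶ A₂} {f₁ : A₁ ⟶ A} {q : A₂ ⟶ C}
    {s : C ⟶ A} {d₁ : Q ⟶ A₁} {d₂ : Q ⟶ C} (hP : IsFibreProd p₁ p₂ f₁ (q ≫ s))
    (hQ : IsFibreProd d₁ d₂ f₁ s) :
    ∃ r : P ⟶ Q, r ≫ d₁ = p₁ ∧ r ≫ d₂ = p₂ ≫ q ∧ IsFibreProd r p₂ d₂ q := by
  obtain ⟨r, hr₁, hr₂⟩ := exists_lift hQ (g₁ := p₁) (g₂ := p₂ ≫ q) (by rw [hP.w, Category.assoc])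
  refine ⟨r, hr₁, hr₂, hr₂, fun b b' h₁ h₂ => hP.inj b b' ?_ h₂, fun x a₂ he => ?_⟩
  · rw [← congr_hom hr₁ b, ← congr_hom hr₁ b']
    exact congrArg d₁ h₁
  · obtain ⟨b, hb₁, hb₂⟩ := hP.surj (d₁ x) a₂ (by rw [hQ.w_apply, he]; rfl)
    refine ⟨b, hQ.inj _ _ ((congr_hom hr₁ b).trans hb₁) ?_, hb₂⟩
    exact (congr_hom hr₂ b).trans ((congrArg q hb₂).trans he.symm)

end Groth.Agent.ArtFunLib
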