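import Groth.Agent.ArtFunLib.Limit

/-!
# Completion of an augmented algebra
-/

set_option autoImplicit false

universe u

open CategoryTheory ArtFun ArtFun.Art ArtFun.CRing

noncomputable section

namespace Groth.Agent.ArtFunLib

variable {Λ k : Type u} [CommRing Λ] [Field k] [Algebra Λ k]

/-- Maps into a complete ring agreeing modulo all powers agree. -/
lemma cring_hom_ext {T : Type u} [CommRing T] [Algebra Λ T] (R : CRing Λ k) (g g' : T →ₐ[Λ] R.carrier)
    (h : ∀ n x, Ideal.Quotient.mk (mpow R n) (g x) = Ideal.Quotient.mk (mpow R n) (g' x)) : g = g' := by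
  have := R.isAdicComplete
  refine IsAdicComplete.algHom_ext (IsLocalRing.maximalIdeal R.carrier) fun n => AlgHom.ext fun x => ?_
  exact Ideal.Quotient.eq.mpr (Ideal.pow_le_pow_right n.le_succ (Ideal.Quotient.eq.mp (h n x)))

section

variable {P : Type u} [CommRing P] [Algebra Λ P] {π : P →ₐ[Λ] k}

/-- Restriction of a morphism along `P → S`. -/
def compHomSet {R : CRing Λ k} (ι : P →ₐ[Λ] R.carrier) (hι : R.res.comp ι = π) {A : Art Λ k}
    (ψ : HomSet R.carrier R.res A) : HomSet P π A :=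
  ⟨ψ.1.comp ι, by rw [← AlgHom.comp_assoc, ψ.2, hι]⟩

/-- The universal property of the completion extends to complete rings. -/
lemma existsUnique_completion_hom {S : CRing Λ k} (ι : P →ₐ[Λ] S.carrier) (hι : S.res.comp ι = π)
    (hu : ∀ A : Art Λ k, Function.Bijective (compHomSet ι hι (A := A)))
    (T : CRing Λ k) (g : P →ₐ[Λ] T.carrier) (hg : T.res.comp g = π) :
    ∃! h : S.carrier →ₐ[Λ] T.carrier, T.res.comp h = S.res ∧ h.comp ι = g := by
  let G : ∀ n, HomSet P π (T.trunc n) := fun n => ⟨(T.truncHom n).1.comp g, AlgHom.ext fun x => by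
    exact (homSet_res (T.truncHom n) (g x)).trans (DFunLike.congr_fun hg x)⟩
  choose φ hφ using fun n => (hu (T.trunc n)).2 (G n)
  obtain ⟨h, hh, hmk⟩ := exists_algHom_of_trunc φ fun n => (hu _).1 (by
    rw [hφ n]
    refine Subtype.ext (AlgHom.ext fun x => ?_)
    change T.truncMap n ((φ (n + 1)).1 (ι x)) = _
    rw [show (φ (n + 1)).1 (ι x) = (G (n + 1)).1 x from
      DFunLike.congr_fun (congrArg Subtype.val (hφ (n + 1))) x]
    rfl)
  refine ⟨h, ⟨hh, cring_hom_ext T _ _ fun n x => ?_⟩, fun h' hh' => cring_hom_ext T _ _ fun n x => ?_⟩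
  · exact (hmk n (ι x)).trans (DFunLike.congr_fun (congrArg Subtype.val (hφ n)) x)
  · let φ' : HomSet S.carrier S.res (T.trunc n) := ⟨(T.truncHom n).1.comp h', AlgHom.ext fun x =>
      (homSet_res (T.truncHom n) (h' x)).trans (DFunLike.congr_fun hh'.1 x)⟩
    have : φ' = φ n := (hu _).1 ((Subtype.ext (AlgHom.ext fun x =>
      congrArg (Ideal.Quotient.mk _) (DFunLike.congr_fun hh'.2 x))).trans (hφ n).symm)
    exact (DFunLike.congr_fun (congrArg Subtype.val this) x).trans (hmk n x).symm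

end

variable [IsNoetherianRing Λ] [Module.Finite Λ k]

/-- The completion of an augmented algebra along a finitely generated augmentation ideal. -/
lemma exists_completion (P : Type u) [CommRing P] [Algebra Λ P] (π : P →ₐ[Λ] k)
    (hπ : Function.Surjective π) (hM : (RingHom.ker π).FG) :
    ∃ (S : CRing Λ k) (ι : P →ₐ[Λ] S.carrier) (hι : S.res.comp ι = π),
      ∀ A : Art Λ k, Function.Bijective (compHomSet ι hι (A := A)) := by
  set M := RingHom.ker π
  let res : ∀ n : ℕ, (P ⧸ M ^ (n + 1)) →ₐ[Λ] k := fun n =>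
    Ideal.Quotient.liftₐ (M ^ (n + 1)) π fun x hx => Ideal.pow_le_self n.succ_ne_zero hx
  have hres : ∀ n, Function.Surjective (res n) := fun n c =>
    ⟨Ideal.Quotient.mk _ (hπ c).choose, (hπ c).choose_spec⟩
  have hkres : ∀ n, RingHom.ker (res n) = M.map (Ideal.Quotient.mk (M ^ (n + 1))) := fun n => by
    refine le_antisymm (fun t ht => ?_) (Ideal.map_le_iff_le_comap.mpr fun x hx => hx)
    obtain ⟨x, rfl⟩ := Ideal.Quotient.mk_surjective t
    exact Ideal.mem_map_of_mem _ (show x ∈ M from ht)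
  have hnil : ∀ n t, res n t = 0 → IsNilpotent t := fun n t ht => by
    obtain ⟨x, rfl⟩ := Ideal.Quotient.mk_surjective t
    exact ⟨n + 1, by
      rw [← map_pow, Ideal.Quotient.eq_zero_iff_mem]; exact Ideal.pow_mem_pow (show x ∈ M from ht) _⟩
  have hfin : ∀ n, Module.Finite Λ (P ⧸ M ^ (n + 1)) := fun n =>
    Module.finite_of_surjective_of_ker_le_nilradical (res n) (hres n)
      (fun t ht => mem_nilradical.mpr (hnil n t ht)) (by rw [hkres]; exact hM.map _)
  let An : ℕ → Art Λ k := fun n => haveI := hfin n; mkArt (P ⧸ M ^ (n + 1)) (res n) (hres n) (hnil n)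
  let f : ∀ n, An (n + 1) ⟶ An n := fun n =>
    ⟨Ideal.Quotient.factorₐ Λ (Ideal.pow_le_pow_right (n + 1).le_succ), AlgHom.ext fun t => by
      obtain ⟨x, rfl⟩ := Ideal.Quotient.mk_surjective t
      rfl⟩
  have hf : ∀ n, Function.Surjective (f n) := fun n t => by
    obtain ⟨x, rfl⟩ := Ideal.Quotient.mk_surjective t
    exact ⟨Ideal.Quotient.mk _ x, rfl⟩
  obtain ⟨S, p, hp, hps, huniv, hsmall, -⟩ := exists_cring_limit f hf M.spanFinrank fun n => by
    rw [show IsLocalRing.maximalIdeal (An n) = M.map (Ideal.Quotient.mk (M ^ (n + 1))) from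
      (Ideal.ext fun t => Art.mem_maximalIdeal_iff (An n) t : IsLocalRing.maximalIdeal (An n) = RingHom.ker (res n)).trans (hkres n)]
    exact Ideal.spanFinrank_map_le_of_fg _ hM
  choose i hi hi' using fun x : P => huniv (fun n => Ideal.Quotient.mk _ x) fun n => rfl
  have hadd : ∀ x y, i x + i y = i (x + y) := fun x y => hi' _ _ fun n => by
    rw [map_add, hi, hi]; rfl
  let ι : P →ₐ[Λ] S.carrier :=
    { toFun := i
      map_one' := (hi' 1 1 fun n => map_one _).symm
      map_mul' := fun x y => (hi' _ _ fun n => by rw [map_mul, hi, hi]; rfl).symm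
      map_zero' := (hi' 0 0 fun n => map_zero _).symm
      map_add' := fun x y => (hadd x y).symm
      commutes' := fun r => (hi' _ _ fun n => (p n).1.commutes r).symm }
  have hι : S.res.comp ι = π := AlgHom.ext fun x => by
    change S.res (i x) = π x
    rw [← homSet_res (p 0) (i x), hi]
    rfl
  refine ⟨S, ι, hι, fun A => ⟨fun ψ ψ' h => ?_, fun φ => ?_⟩⟩
  · obtain ⟨N₁, hN₁⟩ := exists_trunc_factor ψ
    obtain ⟨N₂, hN₂⟩ := exists_trunc_factor ψ'
    obtain ⟨N, hN⟩ := hsmall (max N₁ N₂ + 1)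
    refine Subtype.ext (AlgHom.ext fun s => ?_)
    obtain ⟨x, hx⟩ := Ideal.Quotient.mk_surjective ((p N).1 s : P ⧸ M ^ (N + 1))
    have hsx : s - ι x ∈ mpow S (max N₁ N₂) := hN (by
      rw [RingHom.mem_ker, map_sub, show (p N).1 (ι x) = Ideal.Quotient.mk _ x from hi x N]
      exact sub_eq_zero.mpr hx.symm)
    have h₁ := hN₁ _ (le_max_left N₁ N₂) _ hsx
    have h₂ := hN₂ _ (le_max_right N₁ N₂) _ hsx
    rw [map_sub, sub_eq_zero] at h₁ h₂
    rw [h₁, h₂]
    exact DFunLike.congr_fun (congrArg Subtype.val h) x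
  · obtain ⟨e, he⟩ := isNilpotent_maximalIdeal A
    have hle : Ideal.map φ.1 M ≤ IsLocalRing.maximalIdeal A := Ideal.map_le_iff_le_comap.mpr fun x hx =>
      Ideal.mem_comap.mpr ((Art.mem_maximalIdeal_iff A _).mpr ((DFunLike.congr_fun φ.2 x).trans hx))
    have hkill : ∀ x ∈ M ^ (e + 1), φ.1 x = 0 := fun x hx => by
      have := Ideal.pow_le_pow_right e.le_succ (Ideal.pow_right_mono hle (e + 1)
        (by rw [← Ideal.map_pow]; exact Ideal.mem_map_of_mem φ.1 hx))
      rwa [he, Ideal.mem_bot] at this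
    let g : An e ⟶ A := ⟨Ideal.Quotient.liftₐ (M ^ (e + 1)) φ.1 hkill, AlgHom.ext fun t => by
      obtain ⟨x, rfl⟩ := Ideal.Quotient.mk_surjective t
      exact DFunLike.congr_fun φ.2 x⟩
    refine ⟨HomSet.map g (p e), Subtype.ext (AlgHom.ext fun x => ?_)⟩
    change g ((p e).1 (i x)) = _
    rw [hi]
    rfl

/-- Lifting for the algebra gives smoothness for the completion. -/
lemma completion_lift {P : Type u} [CommRing P] [Algebra Λ P] {π : P →ₐ[Λ] k} {S : CRing Λ k}
    (ι : P →ₐ[Λ] S.carrier) (hι : S.res.comp ι = π)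
    (hu : ∀ A : Art Λ k, Function.Bijective (compHomSet ι hι (A := A)))
    (hl : ∀ ⦃B A : Art Λ k⦄ (μ : B ⟶ A), Function.Surjective μ → ∀ φ : HomSet P π A,
      ∃ ψ : HomSet P π B, HomSet.map μ ψ = φ)
    ⦃B A : Art Λ k⦄ (μ : B ⟶ A) (hμ : Function.Surjective μ) (φ : HomSet S.carrier S.res A) :
    ∃ ψ : HomSet S.carrier S.res B, HomSet.map μ ψ = φ := by
  obtain ⟨ψ₀, hψ₀⟩ := hl μ hμ (compHomSet ι hι φ)
  obtain ⟨ψ, rfl⟩ := (hu B).2 ψ₀
  exact ⟨ψ, (hu A).1 hψ₀⟩

end Groth.Agent.ArtFunLib
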