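import Groth.Agent.ArtFunLib.Functor

/-!
# Smoothness and versality criteria, versal families, limits of functors
-/

set_option autoImplicit false

universe u v

open CategoryTheory ArtFun ArtFun.Art

noncomputable section

namespace Groth.Agent.ArtFunLib

variable {Λ k : Type u} [CommRing Λ] [Field k] [Algebra Λ k]
variable {F G : Art Λ k ⥤ Type v} {A B C P : Art Λ k}

instance subsingleton_homSet_base {R : Type u} [CommRing R] [Algebra Λ R] {resR : R →ₐ[Λ] k} :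
    Subsingleton (HomSet R resR (base Λ k)) :=
  ⟨fun φ ψ => Subtype.ext (φ.2.trans ψ.2.symm : (AlgHom.id Λ k).comp φ.1 = (AlgHom.id Λ k).comp ψ.1)⟩

/-- The point of `h_R(k)`. -/
def homSetBase {R : Type u} [CommRing R] [Algebra Λ R] (resR : R →ₐ[Λ] k) :
    HomSet R resR (base Λ k) :=
  ⟨resR, AlgHom.id_comp _⟩

lemma homSet_map_comp {R : Type u} [CommRing R] [Algebra Λ R] {resR : R →ₐ[Λ] k} (f : A ⟶ B)
    (g : B ⟶ C) (φ : HomSet R resR A) : HomSet.map (f ≫ g) φ = HomSet.map g (HomSet.map f φ) :=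
  Subtype.ext (AlgHom.ext fun _ => rfl)

lemma homSet_map_injective {R : Type u} [CommRing R] [Algebra Λ R] {resR : R →ₐ[Λ] k} {f : A ⟶ B}
    (hf : Function.Injective f) : Function.Injective (HomSet.map (R := R) (resR := resR) f) :=
  fun φ ψ h => Subtype.ext (AlgHom.ext fun r => hf (DFunLike.congr_fun (congrArg Subtype.val h) r))

lemma homSet_map_id {R : Type u} [CommRing R] [Algebra Λ R] {resR : R →ₐ[Λ] k} (φ : HomSet R resR A) :
    HomSet.map (𝟙 A) φ = φ :=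
  Subtype.ext (AlgHom.ext fun _ => rfl)

section Versal

variable {R : Type u} [CommRing R] [Algebra Λ R] {resR : R →ₐ[Λ] k} {ξ : Family R resR F}

/-- A versal family of a functor with one point at `k` gives every element. -/
lemma IsVersal.app_surjective (hξ : IsVersal ξ) (h0 : H0 F) (A : Art Λ k) :
    Function.Surjective (ξ.app A) := fun y => by
  obtain ⟨ψ, -, hψ⟩ := hξ (toBase A) (toBase_surjective A) (homSetBase resR) y (H0.eq h0 _ _)
  exact ⟨ψ, hψ⟩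

lemma h0_of_surjective (hs : Function.Surjective (ξ.app (base Λ k))) : H0 F :=
  ⟨⟨ξ.app _ (homSetBase resR)⟩, ⟨fun x y => by
    obtain ⟨a, rfl⟩ := hs x
    obtain ⟨b, rfl⟩ := hs y
    rw [Subsingleton.elim a b]⟩⟩

lemma s1_of_versal (hξ : IsVersal ξ) (hs : ∀ A : Art Λ k, Function.Surjective (ξ.app A)) : S1 F := by
  intro B A A' A'' p' p'' f' f'' hP hf
  refine cmp_surjective fun x₁ x₂ he => ?_
  obtain ⟨φ₁, rfl⟩ := hs A' x₁
  obtain ⟨φ₂, hφ, rfl⟩ := hξ f'' hf (HomSet.map f' φ₁) x₂ (by rw [ξ.natural, he])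
  obtain ⟨ψ, h₁, h₂⟩ := exists_homSet_lift hP hφ.symm
  exact ⟨ξ.app B ψ, by rw [← ξ.natural, h₁], by rw [← ξ.natural, h₂]⟩

lemma heps_of_miniversal (hξ : IsVersal ξ) (hinj : Function.Injective (ξ.app (dual Λ k)))
    (hs : ∀ A : Art Λ k, Function.Surjective (ξ.app A)) : Heps F := by
  intro B A' p' p'' hP
  refine ⟨cmp_injective fun z z' h₁ h₂ => ?_,
    s1_of_versal hξ hs p' p'' _ _ hP (toBase_surjective _)⟩
  have hp : Function.Surjective p' := fibreProd_surjective_fst hP (toBase_surjective _)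
  obtain ⟨φ, hφ⟩ := hs A' (F.map p' z)
  obtain ⟨ψ, hψ, hψz⟩ := hξ p' hp φ z hφ.symm
  obtain ⟨ψ', hψ', hψz'⟩ := hξ p' hp φ z' (h₁.symm.trans hφ.symm)
  have he : HomSet.map p'' ψ = HomSet.map p'' ψ' :=
    hinj (by rw [ξ.natural, ξ.natural, hψz, hψz', h₂])
  have : ψ = ψ' := Subtype.ext (AlgHom.ext fun r => hP.inj _ _
    (DFunLike.congr_fun (congrArg Subtype.val (hψ.trans hψ'.symm)) r)
    (DFunLike.congr_fun (congrArg Subtype.val he) r))
  rw [← hψz, this, hψz']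

/-- Versality may be checked on small extensions. -/
lemma isVersal_of_small
    (h : ∀ ⦃B A : Art Λ k⦄ (μ : B ⟶ A), IsSmallExt μ → ∀ (φ : HomSet R resR A) (y : F.obj B),
      F.map μ y = ξ.app A φ → ∃ ψ : HomSet R resR B, HomSet.map μ ψ = φ ∧ ξ.app B ψ = y) :
    IsVersal ξ := by
  intro B A μ hμ
  refine surj_induction (P := fun A B μ => ∀ (φ : HomSet R resR A) (y : F.obj B),
    F.map μ y = ξ.app A φ → ∃ ψ : HomSet R resR B, HomSet.map μ ψ = φ ∧ ξ.app B ψ = y) ?_ ?_ μ hμ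
  · intro A B e he φ y hy
    refine ⟨HomSet.map (homInv e he) φ, ?_, ?_⟩
    · rw [← homSet_map_comp, homInv_comp, homSet_map_id]
    · rw [ξ.natural, ← hy, ← map_comp', comp_homInv, map_id']
  · intro A B C q s _ hs ih φ y hy
    obtain ⟨χ, hχ, hχy⟩ := h s hs φ (F.map q y) (by rw [← map_comp', hy])
    obtain ⟨ψ, hψ, hψy⟩ := ih χ y hχy.symm
    exact ⟨ψ, by rw [homSet_map_comp, hψ, hχ], hψy⟩

section Finite

variable [IsNoetherianRing Λ] [Module.Finite Λ k]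

/-- Tangent surjectivity and lifting of maps imply versality. -/
lemma isVersal_of_tangent_lift (h1 : Hbar F) (h2 : Heps F)
    (hT : Function.Surjective (ξ.app (dual Λ k)))
    (hlift : ∀ ⦃B A : Art Λ k⦄ (μ : B ⟶ A), IsSmallExt μ →
      ∀ (φ : HomSet R resR A) (y : F.obj B), F.map μ y = ξ.app A φ →
        ∃ ψ : HomSet R resR B, HomSet.map μ ψ = φ) : IsVersal ξ := by
  refine isVersal_of_small fun B A μ hμ φ y hy => ?_
  obtain ⟨ψ₀, hψ₀⟩ := hlift μ hμ φ y hy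
  obtain ⟨Q, p₁, p₂, hQ⟩ := exists_fibreProd μ μ hμ.1
  obtain ⟨g, hg, -⟩ := exists_torsor hμ hQ
  obtain ⟨w, hw₁, hw₂⟩ := exists_of_surj (h1 p₁ p₂ μ μ hQ hμ) (ξ.app B ψ₀) y
    (by rw [← ξ.natural, hψ₀, hy])
  obtain ⟨η, hη⟩ := hT (F.map g w)
  obtain ⟨ψ₁, h₁, h₂⟩ := exists_homSet_lift hg (g₁ := ψ₀) (g₂ := η) (Subsingleton.elim _ _)
  have hξ : ξ.app Q ψ₁ = w :=
    eq_of_inj (h2 p₁ g hg).1 (by rw [← ξ.natural, h₁, hw₁]) (by rw [← ξ.natural, h₂, hη])
  refine ⟨HomSet.map p₂ ψ₁, ?_, by rw [ξ.natural, hξ, hw₂]⟩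
  rw [← homSet_map_comp, ← hQ.w, homSet_map_comp, h₁, hψ₀]

end Finite

end Versal

section Smooth

variable [IsNoetherianRing Λ] [Module.Finite Λ k]

/-- Tangent surjectivity and lifting of elements imply smoothness. -/
lemma isSmooth_of_tangent_lift (φ : F ⟶ G) (hF : Heps F) (hF0 : H0 F) (hGs : Hbar G) (hGi : Heps G)
    (hd : Function.Surjective (φ.app (dual Λ k)))
    (hlift : ∀ ⦃B A : Art Λ k⦄ (μ : B ⟶ A), IsSmallExt μ → ∀ (a : F.obj A) (b : G.obj B),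
      φ.app A a = G.map μ b → ∃ z, F.map μ z = a) : IsSmooth φ := by
  refine isSmooth_of_small φ fun B A μ hμ a b hab => ?_
  obtain ⟨z, hz⟩ := hlift μ hμ a b hab
  obtain ⟨Q, p₁, p₂, hQ⟩ := exists_fibreProd μ μ hμ.1
  obtain ⟨g, hg, -⟩ := exists_torsor hμ hQ
  obtain ⟨w, hw₁, hw₂⟩ := exists_of_surj (hGs p₁ p₂ μ μ hQ hμ) (φ.app B z) b
    (by rw [← nat_apply, hz, hab])
  obtain ⟨θ, hθ⟩ := hd (G.map g w)
  obtain ⟨z', hz₁, hz₂⟩ := exists_of_surj (hF p₁ g hg).2 z θ (H0.eq hF0 _ _)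
  have he : φ.app Q z' = w :=
    eq_of_inj (hGi p₁ g hg).1 (by rw [← nat_apply, hz₁, hw₁]) (by rw [← nat_apply, hz₂, hθ])
  refine ⟨F.map p₂ z', ?_, by rw [nat_apply, he, hw₂]⟩
  rw [← hz, ← hz₁, map_eq_of_comp F hQ.w z']

end Smooth

lemma app_surjective_of_smooth (η : F ⟶ G) (hη : IsSmooth η)
    (h0 : Function.Surjective (η.app (base Λ k))) (A : Art Λ k) : Function.Surjective (η.app A) :=
  fun y => by
    obtain ⟨x, hx⟩ := h0 (G.map (toBase A) y)
    obtain ⟨z, -, hz⟩ := IsSmooth.lift hη (toBase_surjective A) x y hx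
    exact ⟨z, hz⟩

lemma h0_map_surjective (hG : H0 G) (hF : H0 F) (η : F ⟶ G) :
    Function.Surjective (η.app (base Λ k)) := fun y =>
  hF.1.elim fun x => ⟨x, H0.eq hG _ _⟩

section Limits

open Limits

lemma pullback_eq_iff {H : Art Λ k ⥤ Type v} (φ : F ⟶ G) (ψ : H ⟶ G)
    {z z' : (pullback φ ψ).obj A} :
    z = z' ↔ (pullback.fst φ ψ).app A z = (pullback.fst φ ψ).app A z' ∧
      (pullback.snd φ ψ).app A z = (pullback.snd φ ψ).app A z' := by
  have h := (IsPullback.of_hasPullback φ ψ).map ((evaluation (Art Λ k) (Type v)).obj A)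
  refine ⟨fun e => e ▸ ⟨rfl, rfl⟩, fun e => ((Types.isPullback_iff _ _ _ _).mp h).2.1 z z' e⟩

lemma pullback_exists {H : Art Λ k ⥤ Type v} (φ : F ⟶ G) (ψ : H ⟶ G) (x : F.obj A) (y : H.obj A)
    (e : φ.app A x = ψ.app A y) : ∃ z : (pullback φ ψ).obj A,
      (pullback.fst φ ψ).app A z = x ∧ (pullback.snd φ ψ).app A z = y := by
  have h := (IsPullback.of_hasPullback φ ψ).map ((evaluation (Art Λ k) (Type v)).obj A)
  exact ((Types.isPullback_iff _ _ _ _).mp h).2.2 x y e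

lemma pullback_cond {H : Art Λ k ⥤ Type v} (φ : F ⟶ G) (ψ : H ⟶ G) (z : (pullback φ ψ).obj A) :
    φ.app A ((pullback.fst φ ψ).app A z) = ψ.app A ((pullback.snd φ ψ).app A z) := by
  rw [← NatTrans.comp_app_apply, pullback.condition, NatTrans.comp_app_apply]

lemma prod_eq_iff {z z' : (F ⨯ G).obj A} :
    z = z' ↔ (prod.fst : F ⨯ G ⟶ F).app A z = (prod.fst : F ⨯ G ⟶ F).app A z' ∧
      (prod.snd : F ⨯ G ⟶ G).app A z = (prod.snd : F ⨯ G ⟶ G).app A z' := by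
  have h := isLimitOfHasBinaryProductOfPreservesLimit ((evaluation (Art Λ k) (Type v)).obj A) F G
  refine ⟨fun e => e ▸ ⟨rfl, rfl⟩, fun e => ?_⟩
  have := BinaryFan.IsLimit.hom_ext h (f := ↾fun _ : PUnit.{v + 1} => z) (g := ↾fun _ => z')
    (ConcreteCategory.hom_ext _ _ fun _ => e.1) (ConcreteCategory.hom_ext _ _ fun _ => e.2)
  exact ConcreteCategory.congr_hom this PUnit.unit

lemma prod_exists (x : F.obj A) (y : G.obj A) : ∃ z : (F ⨯ G).obj A,
    (prod.fst : F ⨯ G ⟶ F).app A z = x ∧ (prod.snd : F ⨯ G ⟶ G).app A z = y := by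
  have h := isLimitOfHasBinaryProductOfPreservesLimit ((evaluation (Art Λ k) (Type v)).obj A) F G
  obtain ⟨l, hl₁, hl₂⟩ := BinaryFan.IsLimit.lift' h (↾fun _ : PUnit.{v + 1} => x) (↾fun _ => y)
  exact ⟨l PUnit.unit, ConcreteCategory.congr_hom hl₁ PUnit.unit,
    ConcreteCategory.congr_hom hl₂ PUnit.unit⟩

end Limits

end Groth.Agent.ArtFunLib
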