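import Groth.Agent.ArtFunLib.Small
import Groth.Prelude.Def_ArtFun2

/-!
# Functors of Artin rings: conditions, small-extension reductions
-/

set_option autoImplicit false

universe u v

open CategoryTheory ArtFun ArtFun.Art

noncomputable section

namespace Groth.Agent.ArtFunLib

variable {Λ k : Type u} [CommRing Λ] [Field k] [Algebra Λ k]
variable {F G H : Art Λ k ⥤ Type v} {A B C P A₁ A₂ : Art Λ k}

lemma map_comp' (F : Art Λ k ⥤ Type v) (f : A ⟶ B) (g : B ⟶ C) (x : F.obj A) :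
    F.map (f ≫ g) x = F.map g (F.map f x) := Functor.map_comp_apply F f g x

lemma map_id' (F : Art Λ k ⥤ Type v) (x : F.obj A) : F.map (𝟙 A) x = x :=
  Functor.map_id_apply F A x

lemma map_eq_of_comp (F : Art Λ k ⥤ Type v) {D : Art Λ k} {f : A ⟶ B} {g : B ⟶ C} {f' : A ⟶ D}
    {g' : D ⟶ C} (h : f ≫ g = f' ≫ g') (x : F.obj A) : F.map g (F.map f x) = F.map g' (F.map f' x) := by
  rw [← map_comp', h, map_comp']

lemma nat_apply (φ : F ⟶ G) (f : A ⟶ B) (x : F.obj A) : φ.app B (F.map f x) = G.map f (φ.app A x) :=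
  NatTrans.naturality_apply φ f x

/-- Condition (RS). -/
abbrev RS (F : Art Λ k ⥤ Type v) : Prop :=
  ∀ ⦃B A A' A'' : Art Λ k⦄ (p' : B ⟶ A') (p'' : B ⟶ A'') (f' : A' ⟶ A) (f'' : A'' ⟶ A)
    (h : IsFibreProd p' p'' f' f''), Function.Surjective f'' → Function.Bijective (cmp F h)

section Cmp

variable {p₁ : P ⟶ A₁} {p₂ : P ⟶ A₂} {f₁ : A₁ ⟶ A} {f₂ : A₂ ⟶ A} {h : IsFibreProd p₁ p₂ f₁ f₂}

lemma exists_of_surj (hs : Function.Surjective (cmp F h)) (x₁ : F.obj A₁) (x₂ : F.obj A₂)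
    (he : F.map f₁ x₁ = F.map f₂ x₂) : ∃ z, F.map p₁ z = x₁ ∧ F.map p₂ z = x₂ := by
  obtain ⟨z, hz⟩ := hs ⟨(x₁, x₂), he⟩
  exact ⟨z, congrArg (fun w => w.1.1) hz, congrArg (fun w => w.1.2) hz⟩

lemma eq_of_inj (hi : Function.Injective (cmp F h)) {z z' : F.obj P} (h₁ : F.map p₁ z = F.map p₁ z')
    (h₂ : F.map p₂ z = F.map p₂ z') : z = z' :=
  hi (FibProd.ext h₁ h₂)

lemma cmp_surjective (hs : ∀ x₁ x₂, F.map f₁ x₁ = F.map f₂ x₂ →
    ∃ z, F.map p₁ z = x₁ ∧ F.map p₂ z = x₂) : Function.Surjective (cmp F h) := fun w => by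
  obtain ⟨z, h₁, h₂⟩ := hs w.1.1 w.1.2 w.2
  exact ⟨z, FibProd.ext h₁ h₂⟩

lemma cmp_injective (hi : ∀ z z', F.map p₁ z = F.map p₁ z' → F.map p₂ z = F.map p₂ z' → z = z') :
    Function.Injective (cmp F h) := fun z z' e =>
  hi z z' (congrArg (fun w => w.1.1) e) (congrArg (fun w => w.1.2) e)

end Cmp

lemma H0.eq (h0 : H0 F) (x y : F.obj (base Λ k)) : x = y := @Subsingleton.elim _ h0.2 x y

lemma map_bijective {f : A ⟶ B} (hf : Function.Bijective f) : Function.Bijective (F.map f) :=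
  Function.bijective_iff_has_inverse.mpr ⟨F.map (homInv f hf),
    fun x => by rw [← map_comp', comp_homInv, map_id'],
    fun x => by rw [← map_comp', homInv_comp, map_id']⟩

lemma toBase_surjective (A : Art Λ k) : Function.Surjective (toBase A) := A.res_surjective

lemma heps_of_rs (hF : RS F) : Heps F := fun _ _ p' p'' h => hF p' p'' _ _ h (toBase_surjective _)

/-! ## Reduction of surjectivity statements to small extensions -/

/-- The lifting property of a morphism of functors along all surjections from small extensions. -/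
lemma isSmooth_of_small (η : F ⟶ G)
    (h : ∀ ⦃B A : Art Λ k⦄ (μ : B ⟶ A), IsSmallExt μ → ∀ (a : F.obj A) (b : G.obj B),
      η.app A a = G.map μ b → ∃ z, F.map μ z = a ∧ η.app B z = b) : IsSmooth η := by
  intro B A μ hμ
  suffices key : ∀ (a : F.obj A) (b : G.obj B), η.app A a = G.map μ b →
      ∃ z, F.map μ z = a ∧ η.app B z = b by
    intro w
    obtain ⟨z, h₁, h₂⟩ := key w.1.1 w.1.2 w.2
    exact ⟨z, Subtype.ext (Prod.ext h₁ h₂)⟩
  refine surj_induction (P := fun A B μ => ∀ (a : F.obj A) (b : G.obj B), η.app A a = G.map μ b →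
      ∃ z, F.map μ z = a ∧ η.app B z = b) ?_ ?_ μ hμ
  · intro A B e he a b hab
    obtain ⟨z, rfl⟩ := (map_bijective (F := F) he).2 a
    exact ⟨z, rfl, (map_bijective (F := G) he).1 ((nat_apply η e z).symm.trans hab)⟩
  · intro A B C q s _ hs ih a b hab
    obtain ⟨c, hc₁, hc₂⟩ := h s hs a (G.map q b) (by rw [hab, map_comp'])
    obtain ⟨z, hz₁, hz₂⟩ := ih c b hc₂
    exact ⟨z, by rw [map_comp', hz₁, hc₁], hz₂⟩

lemma IsSmooth.lift {η : F ⟶ G} (hη : IsSmooth η) {μ : B ⟶ A} (hμ : Function.Surjective μ)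
    (a : F.obj A) (b : G.obj B) (h : η.app A a = G.map μ b) :
    ∃ z, F.map μ z = a ∧ η.app B z = b := by
  obtain ⟨z, hz⟩ := hη μ hμ ⟨(a, b), h⟩
  exact ⟨z, congrArg (fun w => w.1.1) hz, congrArg (fun w => w.1.2) hz⟩

section Finite

variable [IsNoetherianRing Λ] [Module.Finite Λ k]

/-- Surjectivity of the comparison maps from small extensions. -/
lemma s1_of_hbar (h : Hbar F) : S1 F := by
  intro B A A' A'' p' p'' f' f'' hP hf
  suffices key : ∀ {B A' : Art Λ k} {p' : B ⟶ A'} {p'' : B ⟶ A''}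
      {f' : A' ⟶ A}, IsFibreProd p' p'' f' f'' → ∀ (x₁ : F.obj A'), ∀ x₂ : F.obj A'',
      F.map f' x₁ = F.map f'' x₂ → ∃ z, F.map p' z = x₁ ∧ F.map p'' z = x₂ from
    cmp_surjective (key hP)
  refine surj_induction (P := fun A A'' f'' => ∀ {B A' : Art Λ k} {p' : B ⟶ A'} {p'' : B ⟶ A''}
      {f' : A' ⟶ A}, IsFibreProd p' p'' f' f'' → ∀ (x₁ : F.obj A'), ∀ x₂ : F.obj A'',
      F.map f' x₁ = F.map f'' x₂ → ∃ z, F.map p' z = x₁ ∧ F.map p'' z = x₂) ?_ ?_ f'' hf
  · intro A A'' e he B A' p' p'' f' hP x₁ x₂ hx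
    obtain ⟨z, rfl⟩ := (map_bijective (F := F) (fibreProd_bijective_fst hP he)).2 x₁
    exact ⟨z, rfl, (map_bijective (F := F) he).1
      ((map_eq_of_comp F hP.w.symm z).trans hx)⟩
  · intro A A'' C q s hq hs ih B A' p' p'' f' hP x₁ x₂ hx
    obtain ⟨Q, d₁, d₂, hQ⟩ := exists_fibreProd f' s hs.1
    obtain ⟨r, hr₁, hr₂, hR⟩ := exists_paste hP hQ
    obtain ⟨d, hd₁, hd₂⟩ := exists_of_surj (h d₁ d₂ f' s hQ hs) x₁ (F.map q x₂)
      (by rw [hx, map_comp'])
    obtain ⟨z, hz₁, hz₂⟩ := ih hR d x₂ hd₂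
    exact ⟨z, by rw [← hr₁, map_comp', hz₁, hd₁], hz₂⟩

/-- Injectivity of the comparison maps from small extensions. -/
lemma cmp_inj_of_small
    (h : ∀ ⦃B A A' A'' : Art Λ k⦄ (p' : B ⟶ A') (p'' : B ⟶ A'') (f' : A' ⟶ A) (f'' : A'' ⟶ A)
      (h : IsFibreProd p' p'' f' f''), IsSmallExt f'' → Function.Injective (cmp F h))
    ⦃B A A' A'' : Art Λ k⦄ (p' : B ⟶ A') (p'' : B ⟶ A'') (f' : A' ⟶ A) (f'' : A'' ⟶ A)
    (hP : IsFibreProd p' p'' f' f'') (hf : Function.Surjective f'') :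
    Function.Injective (cmp F hP) := by
  suffices key : ∀ {B A' : Art Λ k} {p' : B ⟶ A'} {p'' : B ⟶ A''}
      {f' : A' ⟶ A}, IsFibreProd p' p'' f' f'' → ∀ z z' : F.obj B, F.map p' z = F.map p' z' →
      F.map p'' z = F.map p'' z' → z = z' from cmp_injective (key hP)
  refine surj_induction (P := fun A A'' f'' => ∀ {B A' : Art Λ k} {p' : B ⟶ A'} {p'' : B ⟶ A''}
      {f' : A' ⟶ A}, IsFibreProd p' p'' f' f'' → ∀ z z' : F.obj B, F.map p' z = F.map p' z' →
      F.map p'' z = F.map p'' z' → z = z') ?_ ?_ f'' hf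
  · intro A A'' e he B A' p' p'' f' hP z z' h₁ _
    exact (map_bijective (F := F) (fibreProd_bijective_fst hP he)).1 h₁
  · intro A A'' C q s hq hs ih B A' p' p'' f' hP z z' h₁ h₂
    obtain ⟨Q, d₁, d₂, hQ⟩ := exists_fibreProd f' s hs.1
    obtain ⟨r, hr₁, hr₂, hR⟩ := exists_paste hP hQ
    refine ih hR z z' (eq_of_inj (h d₁ d₂ f' s hQ hs) ?_ ?_) h₂
    · rw [← map_comp', ← map_comp', hr₁, h₁]
    · rw [← map_comp', ← map_comp', hr₂, map_comp', map_comp', h₂]

/-- A morphism of functors injective on tangent spaces between functors with (RS)-type conditions is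
injective everywhere; only surjectivity of comparisons is needed at the source. -/
lemma app_injective_of_tangent (φ : F ⟶ G) (h0 : H0 F) (hs : Hbar F) (hFi : Heps F) (hG : HSq G)
    (hd : Function.Injective (φ.app (dual Λ k))) (A : Art Λ k) : Function.Injective (φ.app A) := by
  refine surj_induction (P := fun A B μ => Function.Injective (φ.app A) → Function.Injective (φ.app B))
    ?_ ?_ (toBase A) (toBase_surjective A) (fun x y _ => H0.eq h0 x y)
  · intro A B e he hA x y hxy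
    exact (map_bijective (F := F) he).1 (hA (by rw [nat_apply, nat_apply, hxy]))
  · intro A B C q s _ hs' ih hA
    refine ih fun x y hxy => ?_
    obtain ⟨Q, p₁, p₂, hQ⟩ := exists_fibreProd s s hs'.1
    obtain ⟨g, hg, hgδ⟩ := exists_torsor hs' hQ
    obtain ⟨δ, hδ₁, hδ₂⟩ := exists_lift hQ (g₁ := 𝟙 C) (g₂ := 𝟙 C) rfl
    obtain ⟨w, hw₁, hw₂⟩ := exists_of_surj (hs p₁ p₂ s s hQ hs') x y
      (hA (by rw [nat_apply, nat_apply, hxy]))
    have hφ : φ.app Q w = φ.app Q (F.map δ x) := by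
      refine eq_of_inj (hG p₁ p₂ s hQ hs').1 ?_ ?_
      · rw [← nat_apply, ← nat_apply, hw₁, ← map_comp', hδ₁, map_id']
      · rw [← nat_apply, ← nat_apply, hw₂, ← map_comp', hδ₂, map_id', hxy]
    have hw : w = F.map δ x := by
      refine eq_of_inj (hFi p₁ g hg).1 ?_ (hd (by rw [nat_apply, nat_apply, hφ]))
      rw [hw₁, ← map_comp', hδ₁, map_id']
    rw [← hw₂, hw, ← map_comp', hδ₂, map_id']

end Finite

end Groth.Agent.ArtFunLib
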