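import Groth.Agent.ArtFunLib.Presentation

/-!
# Schlessinger's construction of versal families
-/

set_option autoImplicit false

universe u v

open CategoryTheory ArtFun ArtFun.Art ArtFun.CRing

noncomputable section

namespace Groth.Agent.ArtFunLib

variable {Λ k : Type u} [CommRing Λ] [Field k] [Algebra Λ k]

section Factor

variable {R : Type u} [CommRing R] [Algebra Λ R] {resR : R →ₐ[Λ] k} {Q A : Art Λ k}

lemma homSet_cancel (π : HomSet R resR Q) (hπ : Function.Surjective π.1) {a b : Q ⟶ A}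
    (h : HomSet.map a π = HomSet.map b π) : a = b :=
  hom_ext' fun q => by
    obtain ⟨r, rfl⟩ := hπ q
    exact DFunLike.congr_fun (congrArg Subtype.val h) r

lemma exists_homSet_factor (π : HomSet R resR Q) (hπ : Function.Surjective π.1) (φ : HomSet R resR A)
    (h : ∀ r, π.1 r = 0 → φ.1 r = 0) : ∃ g : Q ⟶ A, HomSet.map g π = φ := by
  let e := Ideal.quotientKerAlgEquivOfSurjective hπ
  let g : Q →ₐ[Λ] A := (Ideal.Quotient.liftₐ _ φ.1 fun r hr => h r hr).comp e.symm.toAlgHom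
  have hg : ∀ r, g (π.1 r) = φ.1 r := fun r => by
    change Ideal.Quotient.liftₐ _ φ.1 (fun r hr => h r hr) (e.symm (π.1 r)) = _
    rw [show e.symm (π.1 r) = Ideal.Quotient.mk _ r from (AlgEquiv.symm_apply_eq _).mpr rfl]
    rfl
  refine ⟨⟨g, AlgHom.ext fun q => ?_⟩, Subtype.ext (AlgHom.ext hg)⟩
  obtain ⟨r, rfl⟩ := hπ q
  exact (congrArg A.res (hg r)).trans ((DFunLike.congr_fun φ.2 r).trans (DFunLike.congr_fun π.2 r).symm)

end Factor

variable [IsNoetherianRing Λ] [Module.Finite Λ k] {F : Art Λ k ⥤ Type v} {S : CRing Λ k}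

/-- The least thickening to which an element lifts. -/
lemma exists_least_lift (h1 : S1 F) {Q : Art Λ k} (c : HomSet S.carrier S.res Q)
    (hc : Function.Surjective c.1) (x : F.obj Q) :
    ∃ (Q' : Art Λ k) (c' : HomSet S.carrier S.res Q') (x' : F.obj Q') (f : Q' ⟶ Q),
      Function.Surjective c'.1 ∧ Function.Surjective f ∧ HomSet.map f c' = c ∧ F.map f x' = x ∧
      ∀ (W : Art Λ k) (s : W ⟶ Q) (h : HomSet S.carrier S.res W), Function.Surjective h.1 →
        HomSet.map s h = c → (∀ a b, W.res a = 0 → s b = 0 → a * b = 0) →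
        (∃ w, F.map s w = x) → ∃ g : Q' ⟶ W, HomSet.map g c' = h := by
  obtain ⟨N, hN⟩ := exists_trunc_factor c
  let T₀ := S.trunc (N + 1)
  let p₀ : T₀ ⟶ Q := truncLift c (N + 1) (hN _ N.le_succ)
  let I : Ideal T₀ := IsLocalRing.maximalIdeal T₀ * RingHom.ker p₀.toAlgHom
  have hI : I ≤ IsLocalRing.maximalIdeal T₀ := Ideal.mul_le_left
  let T := quot T₀ I hI
  let q₀ := quotMk T₀ I hI
  have hq₀ : Function.Surjective q₀ := quotMk_surjective _ _ hI
  let p : T ⟶ Q := quotFactor hI p₀ Ideal.mul_le_right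
  have hpq : ∀ t, p (q₀ t) = p₀ t := fun t => rfl
  let cT : HomSet S.carrier S.res T := HomSet.map q₀ (S.truncHom (N + 1))
  have hcT : Function.Surjective cT.1 := hq₀.comp Ideal.Quotient.mk_surjective
  have hpc : HomSet.map p cT = c := Subtype.ext (AlgHom.ext fun s => rfl)
  have hp : Function.Surjective p := fun y => by
    obtain ⟨s, rfl⟩ := hc y
    exact ⟨cT.1 s, rfl⟩
  have hpk : ∀ a b, T.res a = 0 → p b = 0 → a * b = 0 := fun a b ha hb => by
    obtain ⟨a, rfl⟩ := hq₀ a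
    obtain ⟨b, rfl⟩ := hq₀ b
    rw [← map_mul]
    exact Ideal.Quotient.eq_zero_iff_mem.mpr (Ideal.mul_mem_mul
      ((Art.mem_maximalIdeal_iff T₀ a).mpr ((Art.res_app q₀ a).symm.trans ha)) hb)
  set K := RingHom.ker p.toAlgHom
  have hK : K ≤ IsLocalRing.maximalIdeal T := ker_le_maximalIdeal p
  let G : Set (Ideal T) := {J | ∃ hJ : J ≤ K, ∃ w : F.obj (quot T J (hJ.trans hK)),
    F.map (quotFactor (hJ.trans hK) p hJ) w = x}
  have hGK : K ∈ G := by
    have hb : Function.Bijective (quotFactor hK p le_rfl) := by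
      refine ⟨fun u u' h => ?_, fun y => ?_⟩
      · obtain ⟨u, rfl⟩ := quotMk_surjective T K hK u
        obtain ⟨u', rfl⟩ := quotMk_surjective T K hK u'
        exact Ideal.Quotient.eq.mpr (show p (u - u') = 0 by rw [map_sub, sub_eq_zero]; exact h)
      · obtain ⟨u, rfl⟩ := hp y
        exact ⟨quotMk T K hK u, rfl⟩
    exact ⟨le_rfl, (map_bijective (F := F) hb).2 x⟩
  obtain ⟨J₀, hJ₀, hmin⟩ := (wellFounded_lt (α := Ideal T)).has_min G ⟨K, hGK⟩
  obtain ⟨hJ₀K, x', hx'⟩ := hJ₀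
  have hleast : ∀ J ∈ G, J₀ ≤ J := by
    rintro J ⟨hJK, w, hw⟩
    -- enlarge `J` without changing its intersection with `J₀`
    obtain ⟨J', ⟨hJJ', hJ'K, hJ'⟩, hmax⟩ := (wellFounded_gt (α := Ideal T)).has_min
      {J' | J ≤ J' ∧ J' ≤ K ∧ J₀ ⊓ J' ≤ J} ⟨J, le_rfl, hJK, inf_le_right⟩
    have hsup : K ≤ J₀ ⊔ J' := by
      intro t ht
      by_contra htn
      refine hmax (J' ⊔ Ideal.span {t}) ⟨hJJ'.trans le_sup_left,
        sup_le hJ'K ((Ideal.span_singleton_le_iff_mem _).mpr ht), ?_⟩ (lt_of_le_of_ne le_sup_left fun he => htn ?_)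
      · rintro j ⟨hj₀, hj⟩
        obtain ⟨a, ha, c', hc', rfl⟩ := Submodule.mem_sup.mp hj
        obtain ⟨b, rfl⟩ := Ideal.mem_span_singleton'.mp hc'
        by_cases hb : T.res b = 0
        · rw [hpk b t hb ht, add_zero] at hj₀ ⊢
          exact hJ' ⟨hj₀, ha⟩
        · exfalso
          have hu : IsUnit b := by
            by_contra hu
            exact hb ((Art.mem_maximalIdeal_iff T b).mp ((IsLocalRing.mem_maximalIdeal _).mpr hu))
          refine htn ((Submodule.smul_mem_iff_of_isUnit _ hu).mp ?_)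
          rw [smul_eq_mul, ← add_sub_cancel_left a (b * t)]
          exact sub_mem (Ideal.mem_sup_left hj₀) (Ideal.mem_sup_right ha)
      · exact Ideal.mem_sup_right (he ▸ Ideal.mem_sup_right (Ideal.mem_span_singleton_self t))
    let I₁ := J₀ ⊓ J'
    have hI₁ : I₁ ≤ K := inf_le_left.trans hJ₀K
    let a₁ : quot T I₁ (hI₁.trans hK) ⟶ quot T J₀ (hJ₀K.trans hK) :=
      quotFactor (hI₁.trans hK) (quotMk T J₀ (hJ₀K.trans hK)) (inf_le_left.trans (ker_quotMk _ _ _).ge)
    let a₂ : quot T I₁ (hI₁.trans hK) ⟶ quot T J' (hJ'K.trans hK) :=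
      quotFactor (hI₁.trans hK) (quotMk T J' (hJ'K.trans hK)) (inf_le_right.trans (ker_quotMk _ _ _).ge)
    let b₁ : quot T J₀ (hJ₀K.trans hK) ⟶ Q := quotFactor (hJ₀K.trans hK) p hJ₀K
    let b₂ : quot T J' (hJ'K.trans hK) ⟶ Q := quotFactor (hJ'K.trans hK) p hJ'K
    have hP : IsFibreProd a₁ a₂ b₁ b₂ := by
      refine ⟨hom_ext' fun u => ?_, fun u u' h₁ h₂ => ?_, fun u u' h => ?_⟩
      · obtain ⟨u, rfl⟩ := quotMk_surjective T I₁ _ u
        rfl
      · obtain ⟨u, rfl⟩ := quotMk_surjective T I₁ _ u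
        obtain ⟨u', rfl⟩ := quotMk_surjective T I₁ _ u'
        exact Ideal.Quotient.eq.mpr ⟨Ideal.Quotient.eq.mp h₁, Ideal.Quotient.eq.mp h₂⟩
      · obtain ⟨u, rfl⟩ := quotMk_surjective T J₀ _ u
        obtain ⟨u', rfl⟩ := quotMk_surjective T J' _ u'
        obtain ⟨j, hj, j', hj', hjj⟩ := Submodule.mem_sup.mp
          (hsup (show u - u' ∈ K from (map_sub p.toAlgHom u u').trans (sub_eq_zero.mpr h)))
        refine ⟨quotMk T I₁ _ (u - j), Ideal.Quotient.eq.mpr ?_, Ideal.Quotient.eq.mpr ?_⟩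
        · rw [sub_sub_cancel_left]; exact neg_mem hj
        · rw [show u - j - u' = j' by linear_combination -hjj]; exact hj'
    have hb₂ : Function.Surjective b₂ := fun y => by
      obtain ⟨u, rfl⟩ := hp y
      exact ⟨quotMk T J' _ u, rfl⟩
    let e : quot T J (hJK.trans hK) ⟶ quot T J' (hJ'K.trans hK) :=
      quotFactor (hJK.trans hK) (quotMk T J' (hJ'K.trans hK)) (hJJ'.trans (ker_quotMk _ _ _).ge)
    have he : e ≫ b₂ = quotFactor (hJK.trans hK) p hJK := hom_ext' fun u => by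
      obtain ⟨u, rfl⟩ := quotMk_surjective T J _ u
      rfl
    obtain ⟨z, hz₁, -⟩ := exists_of_surj (h1 a₁ a₂ b₁ b₂ hP hb₂) x' (F.map e w)
      (by rw [hx', ← map_comp', he, hw])
    have hmem : I₁ ∈ G := ⟨hI₁, z, by
      rw [show quotFactor (hI₁.trans hK) p hI₁ = a₁ ≫ b₁ from hom_ext' fun u => by
        obtain ⟨u, rfl⟩ := quotMk_surjective T I₁ _ u
        rfl, map_comp', hz₁, hx']⟩
    have heq : I₁ = J₀ := by
      by_contra hne
      exact hmin I₁ hmem (lt_of_le_of_ne inf_le_left hne)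
    exact heq.symm.le.trans hJ'
  refine ⟨quot T J₀ (hJ₀K.trans hK), HomSet.map (quotMk T J₀ (hJ₀K.trans hK)) cT, x',
    quotFactor (hJ₀K.trans hK) p hJ₀K, (quotMk_surjective _ _ _).comp hcT, fun y => ?_,
    Subtype.ext (AlgHom.ext fun s => rfl), hx', fun W s h hh hsh hW hex => ?_⟩
  · obtain ⟨u, rfl⟩ := hp y
    exact ⟨quotMk T J₀ _ u, rfl⟩
  have hsh' : ∀ r, s (h.1 r) = c.1 r := fun r => DFunLike.congr_fun (congrArg Subtype.val hsh) r
  have hkill : ∀ r ∈ mpow S (N + 1), h.1 r = 0 := fun r hr => by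
    rw [mpow, pow_succ] at hr
    refine Submodule.mul_induction_on hr (fun a ha b hb => ?_) (fun a b ha hb => by rw [map_add, ha, hb, add_zero])
    rw [map_mul, mul_comm]
    exact hW _ _ ((homSet_res h b).trans ((CRing.mem_maximalIdeal_iff S b).mp hb))
      ((hsh' a).trans (hN N le_rfl a ha))
  let g₀ : T₀ ⟶ W := truncLift h (N + 1) hkill
  have hg₀ : ∀ t, s (g₀ t) = p₀ t := fun t => by
    obtain ⟨r, rfl⟩ := Ideal.Quotient.mk_surjective t
    exact hsh' r
  have hI' : I ≤ RingHom.ker g₀.toAlgHom := Ideal.mul_le.mpr fun a ha b hb => by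
    rw [RingHom.mem_ker, map_mul]
    exact hW _ _ ((Art.res_app g₀ a).trans ((Art.mem_maximalIdeal_iff T₀ a).mp ha)) ((hg₀ b).trans hb)
  let g : T ⟶ W := quotFactor hI g₀ hI'
  have hgs : ∀ t, s (g t) = p t := fun t => by
    obtain ⟨t, rfl⟩ := hq₀ t
    exact hg₀ t
  have hgsurj : Function.Surjective g := fun y => by
    obtain ⟨r, rfl⟩ := hh y
    exact ⟨cT.1 r, rfl⟩
  have hgK : RingHom.ker g.toAlgHom ≤ K := fun t ht =>
    (hgs t).symm.trans ((congrArg s ht).trans (map_zero _))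
  let e : quot T _ (hgK.trans hK) ⟶ W := quotFactor (hgK.trans hK) g le_rfl
  have he : Function.Bijective e := by
    refine ⟨fun u u' h => ?_, fun y => ?_⟩
    · obtain ⟨u, rfl⟩ := quotMk_surjective T _ (hgK.trans hK) u
      obtain ⟨u', rfl⟩ := quotMk_surjective T _ (hgK.trans hK) u'
      exact Ideal.Quotient.eq.mpr (show g (u - u') = 0 by rw [map_sub, sub_eq_zero]; exact h)
    · obtain ⟨u, rfl⟩ := hgsurj y
      exact ⟨quotMk T _ _ u, rfl⟩
  have hmem : RingHom.ker g.toAlgHom ∈ G := by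
    obtain ⟨w, hw⟩ := hex
    obtain ⟨w', hw'⟩ := (map_bijective (F := F) he).2 w
    refine ⟨hgK, w', ?_⟩
    rw [show quotFactor (hgK.trans hK) p hgK = e ≫ s from hom_ext' fun u => by
      obtain ⟨u, rfl⟩ := quotMk_surjective T _ (hgK.trans hK) u
      exact (hgs u).symm, map_comp', hw', hw]
  exact ⟨quotFactor (hJ₀K.trans hK) g (hleast _ hmem), Subtype.ext (AlgHom.ext fun r => rfl)⟩

/-- Schlessinger's construction: a versal family out of a smooth ring and a tangentially surjective element. -/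
lemma exists_versal_of (h1 : S1 F) (h2 : Heps F)
    (hS : ∀ ⦃B A : Art Λ k⦄ (μ : B ⟶ A), Function.Surjective μ → ∀ φ : HomSet S.carrier S.res A,
      ∃ ψ : HomSet S.carrier S.res B, HomSet.map μ ψ = φ)
    {D : Art Λ k} (c : HomSet S.carrier S.res D) (hc : Function.Surjective c.1) (x : F.obj D)
    (hT : ∀ y : F.obj (dual Λ k), ∃ a : D ⟶ dual Λ k, F.map a x = y) :
    ∃ (R : CRing Λ k) (ξ : Family R.carrier R.res F), IsVersal ξ ∧
      ((∀ χ : HomSet S.carrier S.res (dual Λ k), ∃ a, HomSet.map a c = χ) →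
        Function.Injective (fun a : D ⟶ dual Λ k => F.map a x) → IsMiniversal ξ) := by
  classical
  let Lvl := {L : Σ Q : Art Λ k, HomSet S.carrier S.res Q × F.obj Q // Function.Surjective L.2.1.1}
  choose nQ nc nx nf hnc hnf hnfc hnfx huniv using fun L : Lvl => exists_least_lift h1 L.1.2.1 L.2 L.1.2.2
  let seq : ℕ → Lvl := fun n => Nat.rec ⟨⟨D, c, x⟩, hc⟩ (fun _ L => ⟨⟨nQ L, nc L, nx L⟩, hnc L⟩) n
  let A : ℕ → Art Λ k := fun n => (seq n).1.1
  let cA : ∀ n, HomSet S.carrier S.res (A n) := fun n => (seq n).1.2.1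
  let xA : ∀ n, F.obj (A n) := fun n => (seq n).1.2.2
  have hcA : ∀ n, Function.Surjective (cA n).1 := fun n => (seq n).2
  let f : ∀ n, A (n + 1) ⟶ A n := fun n => nf (seq n)
  have hf : ∀ n, Function.Surjective (f n) := fun n => hnf (seq n)
  have hfc : ∀ n, HomSet.map (f n) (cA (n + 1)) = cA n := fun n => hnfc (seq n)
  have hfx : ∀ n, F.map (f n) (xA (n + 1)) = xA n := fun n => hnfx (seq n)
  obtain ⟨R, π, hπ, hπs, -, hsmall, -⟩ := exists_cring_limit f hf
    (IsLocalRing.maximalIdeal S.carrier).spanFinrank fun n => by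
      rw [show IsLocalRing.maximalIdeal (A n) = (IsLocalRing.maximalIdeal S.carrier).map (cA n).1.toRingHom from
        le_antisymm (fun a ha => by
          obtain ⟨r, rfl⟩ := hcA n a
          exact Ideal.mem_map_of_mem _ ((CRing.mem_maximalIdeal_iff S r).mpr
            ((homSet_res (cA n) r).symm.trans ((Art.mem_maximalIdeal_iff _ _).mp ha))))
          (Ideal.map_le_iff_le_comap.mpr fun r hr => Ideal.mem_comap.mpr ((Art.mem_maximalIdeal_iff _ _).mpr
            ((homSet_res (cA n) r).trans ((CRing.mem_maximalIdeal_iff S r).mp hr))))]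
      exact Ideal.spanFinrank_map_le_of_fg _ (IsNoetherian.noetherian _)
  have hsys : ∀ {n m} (h : n ≤ m), HomSet.map (sysMap f h) (π m) = π n ∧ F.map (sysMap f h) (xA m) = xA n := by
    intro n m h
    induction m, h using Nat.le_induction with
    | base => rw [sysMap_rfl, homSet_map_id, map_id']; exact ⟨rfl, rfl⟩
    | succ m hm ih =>
      rw [← sysMap_trans f hm m.le_succ, sysMap_succ, homSet_map_comp, map_comp', hπ, hfx]
      exact ih
  have hfac : ∀ {B : Art Λ k} (φ : HomSet R.carrier R.res B), ∃ (n : ℕ) (α : A n ⟶ B), HomSet.map α (π n) = φ := by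
    intro B φ
    obtain ⟨N, hN⟩ := exists_trunc_factor φ
    obtain ⟨n, hn⟩ := hsmall (N + 1)
    exact ⟨n, exists_homSet_factor (π n) (hπs n) φ fun r hr => hN N le_rfl r (hn hr)⟩
  choose ni αi hαi using @hfac
  have hind : ∀ {B : Art Λ k} (φ : HomSet R.carrier R.res B) (n : ℕ) (α : A n ⟶ B),
      HomSet.map α (π n) = φ → F.map (αi φ) (xA (ni φ)) = F.map α (xA n) := by
    intro B φ n α hα
    let m := n + ni φ
    have h₁ : n ≤ m := Nat.le_add_right _ _
    have h₂ : ni φ ≤ m := Nat.le_add_left _ _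
    have he : sysMap f h₂ ≫ αi φ = sysMap f h₁ ≫ α := homSet_cancel (π m) (hπs m) (by
      rw [homSet_map_comp, homSet_map_comp, (hsys h₁).1, (hsys h₂).1, hαi, hα])
    rw [← (hsys h₁).2, ← (hsys h₂).2, ← map_comp', ← map_comp', he]
  let ξ : Family R.carrier R.res F :=
    { app := fun B φ => F.map (αi φ) (xA (ni φ))
      natural := fun {B C} g φ => by
        rw [hind (HomSet.map g φ) (ni φ) (αi φ ≫ g) (by rw [homSet_map_comp, hαi]), map_comp'] }
  have hξ : ∀ {B : Art Λ k} (n : ℕ) (α : A n ⟶ B), ξ.app B (HomSet.map α (π n)) = F.map α (xA n) :=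
    fun n α => hind _ n α rfl
  have htan : Function.Surjective (ξ.app (dual Λ k)) := fun y => by
    obtain ⟨a, rfl⟩ := hT y
    exact ⟨_, hξ 0 a⟩
  have hlift : ∀ ⦃B C : Art Λ k⦄ (μ : B ⟶ C), IsSmallExt μ →
      ∀ (φ : HomSet R.carrier R.res C) (y : F.obj B), F.map μ y = ξ.app C φ →
        ∃ ψ : HomSet R.carrier R.res B, HomSet.map μ ψ = φ := by
    intro B C μ hμ φ y hy
    obtain ⟨n, α, rfl⟩ : ∃ (n : ℕ) (α : A n ⟶ C), HomSet.map α (π n) = φ := ⟨_, _, hαi φ⟩
    obtain ⟨P, p, p', hP⟩ := exists_fibreProd α μ hμ.1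
    obtain ⟨w, hw, -⟩ := exists_of_surj (h1 p p' α μ hP hμ.1) (xA n) y (by rw [hy, hξ])
    obtain ⟨ψ₀, hψ₀⟩ := hS μ hμ.1 (HomSet.map α (cA n))
    obtain ⟨H, hH, -⟩ := exists_homSet_lift hP (g₁ := cA n) (g₂ := ψ₀) hψ₀.symm
    have hH' : ∀ r, p (H.1 r) = (cA n).1 r := fun r => DFunLike.congr_fun (congrArg Subtype.val hH) r
    obtain ⟨t, ht⟩ := exists_gen hμ
    have hker : ∀ z, p z = 0 → μ (p' z) = 0 := fun z hz => by rw [← hP.w_apply, hz, map_zero]
    by_cases hcase : ∀ r, (cA n).1 r = 0 → H.1 r = 0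
    · obtain ⟨σ, hσ⟩ := exists_homSet_factor (cA n) (hcA n) H hcase
      have hσp : σ ≫ p = 𝟙 _ := homSet_cancel (cA n) (hcA n) (by
        rw [homSet_map_comp, hσ, hH, homSet_map_id])
      refine ⟨HomSet.map (σ ≫ p') (π n), ?_⟩
      rw [← homSet_map_comp, Category.assoc, ← hP.w, ← Category.assoc, hσp, Category.id_comp]
    · push Not at hcase
      obtain ⟨r₀, hr₀, hHr₀⟩ := hcase
      obtain ⟨b₀, hb₀⟩ := exists_mul_gen ht (x := p' (H.1 r₀)) (hker _ ((hH' r₀).trans hr₀))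
      have hb₀' : B.res b₀ ≠ 0 := fun h => hHr₀ (hP.inj _ _ (by rw [hH', hr₀, map_zero]) (by
        rw [map_zero, ← hb₀, (mul_gen_eq_iff hμ ht b₀ 0).mpr (by rw [h, map_zero]), zero_mul]))
      have hsurj : Function.Surjective H.1 := fun z => by
        obtain ⟨r, hr⟩ := hcA n (p z)
        have hd : p (z - H.1 r) = 0 := by rw [map_sub, hH', hr, sub_self]
        obtain ⟨b, hb⟩ := exists_mul_gen ht (x := p' (z - H.1 r)) (hker _ hd)
        obtain ⟨s, hs⟩ := S.res_surjective (B.res b / B.res b₀)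
        refine ⟨r + s * r₀, ?_⟩
        rw [map_add, map_mul]
        refine eq_sub_iff_add_eq'.mp (hP.inj _ _ ?_ ?_)
        · rw [map_mul, hH', hH', hr₀, mul_zero, hd]
        · rw [map_mul, ← hb, ← hb₀, ← mul_assoc]
          refine (mul_gen_eq_iff hμ ht _ _).mpr ?_
          rw [map_mul, Art.res_app, homSet_res, hs, div_mul_cancel₀ _ hb₀']
      obtain ⟨g, hg⟩ := huniv (seq n) P p H hsurj hH
        (fun a b ha hb => hP.inj _ _ (by rw [map_mul, hb, mul_zero, map_zero]) (by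
          obtain ⟨b', hb'⟩ := exists_mul_gen ht (x := p' b) (hker b hb)
          rw [map_mul, ← hb', ← mul_assoc, map_zero,
            (mul_gen_eq_iff hμ ht (p' a * b') 0).mpr (by rw [map_mul, Art.res_app, ha, zero_mul, map_zero]),
            zero_mul])) ⟨w, hw⟩
      have hgp : g ≫ p = f n := homSet_cancel (cA (n + 1)) (hcA (n + 1)) (by
        rw [homSet_map_comp, show HomSet.map g (cA (n + 1)) = H from hg, hH, hfc])
      refine ⟨HomSet.map (g ≫ p') (π (n + 1)), ?_⟩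
      rw [← homSet_map_comp, Category.assoc, ← hP.w, ← Category.assoc, hgp, homSet_map_comp, hπ]
  have hv : IsVersal ξ := isVersal_of_tangent_lift
    (fun B A A' A'' p' p'' f' f'' hP hs => h1 p' p'' f' f'' hP hs.1) h2 htan hlift
  refine ⟨R, ξ, hv, fun hfacS hinj => ⟨hv, fun χ χ' he => ?_, htan⟩⟩
  have key : ∀ χ : HomSet R.carrier R.res (dual Λ k), ∃ a : D ⟶ dual Λ k, HomSet.map a (π 0) = χ := by
    intro χ
    obtain ⟨n, α, rfl⟩ : ∃ (n : ℕ) (α : A n ⟶ dual Λ k), HomSet.map α (π n) = χ := ⟨_, _, hαi χ⟩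
    obtain ⟨a, ha⟩ := hfacS (HomSet.map α (cA n))
    have hcs : ∀ {n m} (h : n ≤ m), HomSet.map (sysMap f h) (cA m) = cA n := by
      intro n m h
      induction m, h using Nat.le_induction with
      | base => rw [sysMap_rfl, homSet_map_id]
      | succ m hm ih => rw [← sysMap_trans f hm m.le_succ, sysMap_succ, homSet_map_comp, hfc]; exact ih
    have hα : α = sysMap f n.zero_le ≫ a := homSet_cancel (cA n) (hcA n) (by
      rw [homSet_map_comp, hcs n.zero_le]
      exact ha.symm)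
    exact ⟨a, by rw [hα, homSet_map_comp, (hsys n.zero_le).1]⟩
  obtain ⟨a, rfl⟩ := key χ
  obtain ⟨a', rfl⟩ := key χ'
  rw [hξ 0 a, hξ 0 a'] at he
  exact congrArg (fun b => HomSet.map b (π 0)) (hinj he)

end Groth.Agent.ArtFunLib
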