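import Groth.Agent.ArtFunLib.Trunc
import Groth.Agent.AdicLim.Ring
import Groth.Agent.AdicLim.Noetherian
import Mathlib

/-!
# Limits of surjective systems of objects with bounded cotangent spaces
-/

set_option autoImplicit false

universe u

open CategoryTheory ArtFun ArtFun.Art

noncomputable section

namespace Groth.Agent.ArtFunLib

variable {Λ k : Type u} [CommRing Λ] [Field k] [Algebra Λ k]

/-- Morphisms respect powers of the maximal ideals. -/
lemma map_mem_pow {X Y : Art Λ k} (g : X ⟶ Y) (n : ℕ) {a : X} (ha : a ∈ IsLocalRing.maximalIdeal X ^ n) :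
    g a ∈ IsLocalRing.maximalIdeal Y ^ n :=
  Ideal.pow_right_mono (Ideal.map_le_iff_le_comap.mpr fun x hx =>
    Ideal.mem_comap.mpr (map_mem_maximalIdeal g hx)) n
    (by rw [← Ideal.map_pow]; exact Ideal.mem_map_of_mem g.toAlgHom ha)

/-- A surjection of artinian rings of the same length is injective. -/
lemma injective_of_length_eq {R S : Type u} [CommRing R] [CommRing S] [IsArtinianRing R]
    (g : R →+* S) (hg : Function.Surjective g) (h : Module.length R R ≤ Module.length S S) :
    Function.Injective g := by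
  letI := g.toAlgebra
  rw [← Module.length_eq_of_surjective (S := R) (R := S) (M := S) hg] at h
  by_contra hi
  have hne : LinearMap.ker (Algebra.linearMap R S) ≠ ⊥ := fun e => hi (LinearMap.ker_eq_bot.mp e)
  have h1 := Submodule.length_quotient_lt (LinearMap.ker (Algebra.linearMap R S)) hne
  rw [((Algebra.linearMap R S).quotKerEquivOfSurjective hg).length_eq] at h1
  exact absurd h1 (not_lt.mpr h)

section Cover

variable [IsNoetherianRing Λ] [Module.Finite Λ k]

/-- A uniform object mapping onto every object with bounded cotangent space and nilpotence index. -/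
lemma exists_uniform_cover (d j : ℕ) : ∃ Q : Art Λ k, ∀ B : Art Λ k,
    (IsLocalRing.maximalIdeal B).spanFinrank ≤ d → IsLocalRing.maximalIdeal B ^ (j + 1) = ⊥ →
      ∃ g : Q ⟶ B, Function.Surjective g := by
  classical
  obtain ⟨q, e, he⟩ := Module.Finite.exists_fin (R := Λ) (M := k)
  let π : MvPolynomial (Fin q ⊕ Fin d) Λ →ₐ[Λ] k := MvPolynomial.aeval (Sum.elim e 0)
  have hπ : Function.Surjective π := fun c => by
    have hc : c ∈ Submodule.span Λ (Set.range e) := he ▸ Submodule.mem_top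
    obtain ⟨a, rfl⟩ := (Submodule.mem_span_range_iff_exists_fun Λ).mp hc
    exact ⟨∑ b, a b • MvPolynomial.X (Sum.inl b), by simp [π, map_sum]⟩
  set M := RingHom.ker π
  let T := MvPolynomial (Fin q ⊕ Fin d) Λ ⧸ M ^ (j + 1)
  let res : T →ₐ[Λ] k := Ideal.Quotient.liftₐ (M ^ (j + 1)) π fun x hx =>
    Ideal.pow_le_self j.succ_ne_zero hx
  have hres : Function.Surjective res := fun c => ⟨Ideal.Quotient.mk _ (hπ c).choose, (hπ c).choose_spec⟩
  have hnil : ∀ t, res t = 0 → IsNilpotent t := fun t ht => by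
    obtain ⟨x, rfl⟩ := Ideal.Quotient.mk_surjective t
    exact ⟨j + 1, by
      rw [← map_pow, Ideal.Quotient.eq_zero_iff_mem]; exact Ideal.pow_mem_pow (show x ∈ M from ht) _⟩
  have : Module.Finite Λ T := Module.finite_of_surjective_of_ker_le_nilradical res hres
    (fun t ht => mem_nilradical.mpr (hnil t ht)) (IsNoetherian.noetherian _)
  refine ⟨mkArt T res hres hnil, fun B hB hnB => ?_⟩
  obtain ⟨s, hs, hspan⟩ :=
    Submodule.FG.exists_span_finset_card_eq_spanFinrank (IsNoetherian.noetherian (IsLocalRing.maximalIdeal B))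
  let g : Fin d → B := fun i => if h : (i : ℕ) < s.card then (s.equivFin.symm ⟨i, h⟩ : B) else 0
  have hgm : ∀ i, g i ∈ IsLocalRing.maximalIdeal B := fun i => by
    simp only [g]; split
    · rename_i h
      rw [← hspan]; exact Submodule.subset_span (s.equivFin.symm ⟨i, h⟩).2
    · exact zero_mem _
  choose a ha using fun b => B.res_surjective (e b)
  let φ : MvPolynomial (Fin q ⊕ Fin d) Λ →ₐ[Λ] B := MvPolynomial.aeval (Sum.elim a g)
  have hφ : B.res.comp φ = π := MvPolynomial.algHom_ext fun i => by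
    rcases i with b | i
    · simp [φ, π, ha]
    · simp [φ, π, (Art.mem_maximalIdeal_iff B _).mp (hgm i)]
  have hφM : Ideal.map φ M ≤ IsLocalRing.maximalIdeal B := Ideal.map_le_iff_le_comap.mpr fun x hx =>
    (Art.mem_maximalIdeal_iff B _).mpr ((DFunLike.congr_fun hφ x).trans hx)
  have hkill : ∀ x ∈ M ^ (j + 1), φ x = 0 := fun x hx => by
    have := Ideal.pow_right_mono hφM (j + 1) (by rw [← Ideal.map_pow]; exact Ideal.mem_map_of_mem _ hx)
    rwa [hnB, Ideal.mem_bot] at this
  let G : mkArt T res hres hnil ⟶ B := ⟨Ideal.Quotient.liftₐ (M ^ (j + 1)) φ hkill, AlgHom.ext fun t => by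
    obtain ⟨x, rfl⟩ := Ideal.Quotient.mk_surjective t
    exact DFunLike.congr_fun hφ x⟩
  refine ⟨G, surjective_of_cotangent G (le_sup_of_le_left ?_)⟩
  rw [← hspan, Submodule.span_le]
  intro x hx
  have hlt : (s.equivFin ⟨x, hx⟩ : ℕ) < d := lt_of_lt_of_le (s.equivFin ⟨x, hx⟩).2 (hs ▸ hB)
  have hgx : g ⟨_, hlt⟩ = x := by simp [g]
  have hmem : (Ideal.Quotient.mk (M ^ (j + 1)) (MvPolynomial.X (Sum.inr ⟨_, hlt⟩)) :
      mkArt T res hres hnil) ∈ IsLocalRing.maximalIdeal (mkArt T res hres hnil) :=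
    (Art.mem_maximalIdeal_iff (mkArt T res hres hnil) _).mpr
      (show π (MvPolynomial.X (Sum.inr ⟨_, hlt⟩)) = 0 by simp [π])
  have := Ideal.mem_map_of_mem G.toAlgHom hmem
  rwa [show G.toAlgHom (Ideal.Quotient.mk (M ^ (j + 1)) (MvPolynomial.X (Sum.inr ⟨_, hlt⟩))) = x from
    (by rw [show G.toAlgHom (Ideal.Quotient.mk (M ^ (j + 1)) (MvPolynomial.X (Sum.inr ⟨_, hlt⟩))) =
          φ (MvPolynomial.X (Sum.inr ⟨_, hlt⟩)) from rfl]
        simpa [φ] using hgx)] at this

end Cover

section System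

variable {A : ℕ → Art Λ k} (f : ∀ n, A (n + 1) ⟶ A n)

/-- The transition maps of a system. -/
def sysMap {n m : ℕ} (h : n ≤ m) : A m ⟶ A n := (Functor.ofOpSequence f).map (homOfLE h).op

lemma sysMap_rfl (n : ℕ) : sysMap f (le_refl n) = 𝟙 (A n) := (Functor.ofOpSequence f).map_id _

lemma sysMap_trans {n m l : ℕ} (h : n ≤ m) (h' : m ≤ l) :
    sysMap f h' ≫ sysMap f h = sysMap f (h.trans h') :=
  ((Functor.ofOpSequence f).map_comp _ _).symm

lemma sysMap_succ (n : ℕ) : sysMap f (Nat.le_succ n) = f n :=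
  Functor.ofOpSequence_map_homOfLE_succ f n

lemma sysMap_surjective (hf : ∀ n, Function.Surjective (f n)) {n m : ℕ} (h : n ≤ m) :
    Function.Surjective (sysMap f h) := by
  induction m, h using Nat.le_induction with
  | base => rw [sysMap_rfl]; exact Function.surjective_id
  | succ m hm ih =>
    rw [← sysMap_trans f hm m.le_succ, sysMap_succ]
    exact ih.comp (hf m)

end System

section Finite

variable [IsNoetherianRing Λ] [Module.Finite Λ k] {A : ℕ → Art Λ k} (f : ∀ n, A (n + 1) ⟶ A n)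

/-- Reductions modulo a power of the maximal ideal stabilise. -/
lemma exists_stable (hf : ∀ n, Function.Surjective (f n)) (d : ℕ)
    (hd : ∀ n, (IsLocalRing.maximalIdeal (A n)).spanFinrank ≤ d) (j : ℕ) :
    ∃ N, ∀ n m (h : n ≤ m), N ≤ n → ∀ x : A m,
      sysMap f h x ∈ IsLocalRing.maximalIdeal (A n) ^ (j + 1) →
        x ∈ IsLocalRing.maximalIdeal (A m) ^ (j + 1) := by
  classical
  have hle : ∀ n, IsLocalRing.maximalIdeal (A n) ^ (j + 1) ≤ IsLocalRing.maximalIdeal (A n) :=
    fun n => Ideal.pow_le_self j.succ_ne_zero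
  let T := fun n => quot (A n) _ (hle n)
  let q := fun n => quotMk (A n) _ (hle n)
  have hq : ∀ n, Function.Surjective (q n) := fun n => quotMk_surjective _ _ (hle n)
  have hTm : ∀ n, IsLocalRing.maximalIdeal (T n) =
      Ideal.map (q n).toAlgHom (IsLocalRing.maximalIdeal (A n)) := fun n =>
    le_antisymm (fun y hy => by
      obtain ⟨x, rfl⟩ := hq n y
      refine Ideal.mem_map_of_mem _ ((Art.mem_maximalIdeal_iff _ _).mpr ?_)
      rw [← Art.res_app (q n)]
      exact (Art.mem_maximalIdeal_iff _ _).mp hy)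
      (Ideal.map_le_iff_le_comap.mpr fun a ha => map_mem_maximalIdeal (q n) ha)
  have hTd : ∀ n, (IsLocalRing.maximalIdeal (T n)).spanFinrank ≤ d := fun n => by
    rw [hTm]
    exact (Ideal.spanFinrank_map_le_of_fg (q n).toAlgHom.toRingHom (IsNoetherian.noetherian _)).trans (hd n)
  have hTn : ∀ n, IsLocalRing.maximalIdeal (T n) ^ (j + 1) = ⊥ := fun n => by
    rw [hTm, ← Ideal.map_pow, Ideal.map_eq_bot_iff_le_ker, ker_quotMk]
  obtain ⟨Q, hQ⟩ := exists_uniform_cover (Λ := Λ) (k := k) d j
  have hb : ∀ n, Module.length (T n) (T n) ≤ Module.length Q Q := fun n => by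
    obtain ⟨g, hg⟩ := hQ (T n) (hTd n) (hTn n)
    letI := g.toAlgHom.toRingHom.toAlgebra
    rw [← Module.length_eq_of_surjective (S := Q) (R := T n) (M := T n) hg]
    exact Module.length_le_of_surjective (Algebra.linearMap Q (T n)) hg
  have hfin : ∀ n, Module.length (T n) (T n) ≠ ⊤ := fun n => Module.length_ne_top
  have hbdd : BddAbove (Set.range fun n => (Module.length (T n) (T n)).toNat) :=
    ⟨(Module.length Q Q).toNat, by rintro _ ⟨n, rfl⟩; exact ENat.toNat_le_toNat (hb n) Module.length_ne_top⟩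
  obtain ⟨N, hN⟩ := Nat.sSup_mem (Set.range_nonempty _) hbdd
  refine ⟨N, fun n m h hn => ?_⟩
  have hk : RingHom.ker (q m).toAlgHom ≤ RingHom.ker (sysMap f (hn.trans h) ≫ q N).toAlgHom := fun x hx => by
    rw [ker_quotMk] at hx
    refine Ideal.Quotient.eq_zero_iff_mem.mpr ?_
    exact map_mem_pow (sysMap f (hn.trans h)) _ hx
  let g := factor (q m) (hq m) (sysMap f (hn.trans h) ≫ q N) hk
  have hg : Function.Surjective g := fun y => by
    obtain ⟨x, rfl⟩ := ((hq N).comp (sysMap_surjective f hf (hn.trans h))) y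
    exact ⟨q m x, congr_hom (comp_factor (q m) (hq m) (sysMap f (hn.trans h) ≫ q N) hk) x⟩
  have hinj := injective_of_length_eq g.toAlgHom.toRingHom hg (by
    rw [← ENat.natCast_toNat (hfin m), ← ENat.natCast_toNat (hfin N)]
    exact_mod_cast (le_csSup hbdd ⟨m, rfl⟩).trans hN.ge)
  intro x hx
  have h0 : g (q m x) = 0 := by
    refine (congr_hom (comp_factor (q m) (hq m) (sysMap f (hn.trans h) ≫ q N) hk) x).trans ?_
    refine Ideal.Quotient.eq_zero_iff_mem.mpr ?_
    have h1 := map_mem_pow (sysMap f hn) _ hx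
    rw [show sysMap f hn (sysMap f h x) = sysMap f (hn.trans h) x from
      congr_hom (sysMap_trans f hn h) x] at h1
    exact h1
  exact Ideal.Quotient.eq_zero_iff_mem.mp (hinj (h0.trans (map_zero g.toAlgHom).symm))

/-- The limit of a surjective system with bounded cotangent spaces is a coefficient ring. -/
lemma exists_cring_limit (hf : ∀ n, Function.Surjective (f n)) (d : ℕ)
    (hd : ∀ n, (IsLocalRing.maximalIdeal (A n)).spanFinrank ≤ d) :
    ∃ (S : CRing Λ k) (π : ∀ n, HomSet S.carrier S.res (A n)),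
      (∀ n, HomSet.map (f n) (π (n + 1)) = π n) ∧
      (∀ n, Function.Surjective (π n).1) ∧
      (∀ a : ∀ n, A n, (∀ n, f n (a (n + 1)) = a n) → ∃! s : S.carrier, ∀ n, (π n).1 s = a n) ∧
      (∀ n, ∃ N, RingHom.ker (π N).1 ≤ IsLocalRing.maximalIdeal S.carrier ^ n) ∧
      (∀ n, ∃ N, IsLocalRing.maximalIdeal S.carrier ^ N ≤ RingHom.ker (π n).1) := by
  classical
  choose N₀ hN₀ using exists_stable f hf d hd
  let N : ℕ → ℕ := fun j => j + ∑ i ∈ Finset.range (j + 1), N₀ i
  have hNge : ∀ j, j ≤ N j := fun j => Nat.le_add_right _ _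
  have hN₀le : ∀ j, N₀ j ≤ N j := fun j => le_add_left
    (Finset.single_le_sum (f := N₀) (fun _ _ => Nat.zero_le _) (Finset.self_mem_range_succ j))
  have hNmono : ∀ j, N j ≤ N (j + 1) := fun j => by
    simp only [N, Finset.sum_range_succ (n := j + 1)]
    omega
  let S : Subalgebra Λ (∀ n, A n) :=
    { carrier := {s | ∀ n, f n (s (n + 1)) = s n}
      mul_mem' := fun {a b} ha hb n => by simp only [Pi.mul_apply, map_mul, ha n, hb n]
      add_mem' := fun {a b} ha hb n => by simp only [Pi.add_apply, map_add, ha n, hb n]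
      algebraMap_mem' := fun r n => (f n).toAlgHom.commutes r }
  let pr : ∀ n, S →ₐ[Λ] A n := fun n => (Pi.evalAlgHom Λ (fun n => A n) n).comp S.val
  have hpr : ∀ n (s : S), f n (pr (n + 1) s) = pr n s := fun n s => s.2 n
  have hsys : ∀ {n m} (h : n ≤ m) (s : S), sysMap f h (pr m s) = pr n s := by
    intro n m h s
    induction m, h using Nat.le_induction with
    | base => rw [sysMap_rfl]; rfl
    | succ m hm ih =>
      rw [← sysMap_trans f hm m.le_succ, sysMap_succ]
      exact (congrArg (sysMap f hm) (hpr m s)).trans ih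
  let res : S →ₐ[Λ] k := (A 0).res.comp (pr 0)
  have hresn : ∀ n s, (A n).res (pr n s) = res s := fun n s => by
    rw [← Art.res_app (sysMap f (Nat.zero_le n)), hsys]
    rfl
  have hext : ∀ a : ∀ n, A n, (∀ n, f n (a (n + 1)) = a n) → ∃! s : S, ∀ n, pr n s = a n :=
    fun a ha => ⟨⟨a, ha⟩, fun n => rfl, fun s hs => Subtype.ext (funext hs)⟩
  have hsurj : ∀ n, Function.Surjective (pr n) := fun n x => by
    obtain ⟨y, hy, rfl⟩ := AdicLim.exists_compatible n (fun m => A m) (fun m => f m) hf x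
    exact ⟨⟨y, hy⟩, rfl⟩
  have hres : Function.Surjective res := (A 0).res_surjective.comp (hsurj 0)
  haveI : Nontrivial S := (res : S →+* k).domain_nontrivial
  haveI : IsLocalRing S := IsLocalRing.of_isUnit_or_isUnit_one_sub_self fun s => by
    have hu : ∀ s : S, res s ≠ 0 → IsUnit s := fun s hs => by
      have hun : ∀ n, IsUnit (pr n s) := fun n => by
        by_contra h
        exact hs ((hresn n s).symm.trans ((Art.mem_maximalIdeal_iff _ _).mp h))
      choose w hw using hun
      refine IsUnit.of_mul_eq_one (⟨fun n => ((w n)⁻¹ : (A n : Type u)ˣ), fun n => ?_⟩ : S) ?_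
      · refine (Units.eq_inv_of_mul_eq_one_right ?_)
        rw [hw, ← hpr n s, ← map_mul, ← hw, Units.inv_mul, map_one]
      · refine Subtype.ext (funext fun n => ?_)
        change pr n s * _ = 1
        rw [← hw n]
        exact Units.mul_inv _
    by_cases h : res s = 0
    · exact .inr (hu _ (by rw [map_sub, h, map_one, sub_zero]; exact one_ne_zero))
    · exact .inl (hu s h)
  set I := RingHom.ker (res : S →+* k)
  have hImax : I.IsMaximal := RingHom.ker_isMaximal_of_surjective _ hres
  have hIm : I = IsLocalRing.maximalIdeal S := IsLocalRing.eq_maximalIdeal hImax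
  let K : ∀ j, Ideal (A (N j)) := fun j => IsLocalRing.maximalIdeal (A (N j)) ^ (j + 1)
  have hK : ∀ j, K j ≤ IsLocalRing.maximalIdeal (A (N j)) := fun j => Ideal.pow_le_self j.succ_ne_zero
  let B := fun j => quot (A (N j)) (K j) (hK j)
  let q := fun j => quotMk (A (N j)) (K j) (hK j)
  have hq : ∀ j, Function.Surjective (q j) := fun j => quotMk_surjective _ _ (hK j)
  have hmap : ∀ j {m} (h : N j ≤ m) (x : A m),
      sysMap f h x ∈ K j ↔ x ∈ IsLocalRing.maximalIdeal (A m) ^ (j + 1) := fun j m h x =>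
    ⟨hN₀ j _ _ h (hN₀le j) x, fun hx => map_mem_pow (sysMap f h) _ hx⟩
  have hku : ∀ j, RingHom.ker (q (j + 1)).toAlgHom ≤
      RingHom.ker (sysMap f (hNmono j) ≫ q j).toAlgHom := fun j x hx => by
    rw [ker_quotMk] at hx
    exact Ideal.Quotient.eq_zero_iff_mem.mpr
      ((hmap j _ x).mpr (Ideal.pow_le_pow_right (Nat.le_succ _) hx))
  let uA := fun j => factor (q (j + 1)) (hq (j + 1)) (sysMap f (hNmono j) ≫ q j) (hku j)
  have huA : ∀ j x, uA j (q (j + 1) x) = q j (sysMap f (hNmono j) x) := fun j x =>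
    congr_hom (comp_factor (q (j + 1)) (hq (j + 1)) (sysMap f (hNmono j) ≫ q j) (hku j)) x
  let u : ∀ j, B (j + 1) →+* B j := fun j => (uA j).toAlgHom.toRingHom
  have hu : ∀ j, Function.Surjective (u j) := fun j y => by
    obtain ⟨x, rfl⟩ := ((hq j).comp (sysMap_surjective f hf (hNmono j))) y
    exact ⟨_, huA j x⟩
  let v : ∀ j, B j →+* B 0 := fun j => Nat.rec (motive := fun j => B j →+* B 0) (RingHom.id _)
    (fun j w => w.comp (u j)) j
  have hmB : ∀ j, IsLocalRing.maximalIdeal (B j) =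
      Ideal.map (q j).toAlgHom (IsLocalRing.maximalIdeal (A (N j))) := fun j =>
    le_antisymm (fun y hy => by
      obtain ⟨x, rfl⟩ := hq j y
      refine Ideal.mem_map_of_mem _ ((Art.mem_maximalIdeal_iff _ _).mpr ?_)
      rw [← Art.res_app (q j)]
      exact (Art.mem_maximalIdeal_iff _ _).mp hy)
      (Ideal.map_le_iff_le_comap.mpr fun a ha => map_mem_maximalIdeal (q j) ha)
  have hkv : ∀ j, RingHom.ker (v j) = IsLocalRing.maximalIdeal (B j) := fun j => by
    refine le_antisymm (IsLocalRing.le_maximalIdeal (RingHom.ker_ne_top _)) fun x hx => ?_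
    induction j with
    | zero =>
      rw [hmB, ← pow_one (IsLocalRing.maximalIdeal (A (N 0))),
        show Ideal.map (q 0).toAlgHom (IsLocalRing.maximalIdeal (A (N 0)) ^ 1) = ⊥ from
          (Ideal.map_eq_bot_iff_le_ker _).mpr (ker_quotMk _ _ _).ge] at hx
      rw [RingHom.mem_ker, (Ideal.mem_bot.mp hx), map_zero]
    | succ j ih => exact ih _ (map_mem_maximalIdeal (uA j) hx)
  let p : ∀ j, S →+* B j := fun j => ((q j).toAlgHom.comp (pr (N j))).toRingHom
  have hker : ∀ j, RingHom.ker (u j) = RingHom.ker (v (j + 1)) ^ (j + 1) := fun j => by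
    rw [show RingHom.ker (v (j + 1)) = _ from hkv (j + 1), hmB, ← Ideal.map_pow]
    refine le_antisymm (fun y hy => ?_) (Ideal.map_le_iff_le_comap.mpr fun x hx => ?_)
    · obtain ⟨x, rfl⟩ := hq (j + 1) y
      exact Ideal.mem_map_of_mem _
        ((hmap j _ x).mp (Ideal.Quotient.eq_zero_iff_mem.mp ((huA j x).symm.trans hy)))
    · exact (huA j x).trans (Ideal.Quotient.eq_zero_iff_mem.mpr ((hmap j (hNmono j) x).mpr hx))
  have hp : ∀ j, (u j).comp (p (j + 1)) = p j := fun j => RingHom.ext fun s =>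
    (huA j _).trans (congrArg (q j) (hsys _ s))
  have hinj : ∀ s : S, (∀ j, p j s = 0) → s = 0 := fun s hs => Subtype.ext (funext fun n => by
    obtain ⟨e, he⟩ := isNilpotent_maximalIdeal (A n)
    have h1 : pr (N (n + e)) s ∈ IsLocalRing.maximalIdeal (A (N (n + e))) ^ (n + e + 1) :=
      Ideal.Quotient.eq_zero_iff_mem.mp (hs (n + e))
    have h2 := map_mem_pow (sysMap f ((Nat.le_add_right n e).trans (hNge _))) _ h1
    change pr n s = 0
    rw [← Ideal.mem_bot, ← he]
    refine Ideal.pow_le_pow_right (show e ≤ n + e + 1 by omega) ?_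
    exact (hsys ((Nat.le_add_right n e).trans (hNge _)) s) ▸ h2)
  have hlift : ∀ y : (∀ j, B j), (∀ j, u j (y (j + 1)) = y j) → ∃ s : S, ∀ j, p j s = y j := by
    intro y hy
    choose a ha using fun j => hq j (y j)
    have hcons : ∀ j l (h : j ≤ l), ∃ h' : N j ≤ N l, q j (sysMap f h' (a l)) = y j := by
      intro j l h
      induction l, h using Nat.le_induction with
      | base => exact ⟨le_rfl, by rw [sysMap_rfl]; exact ha j⟩
      | succ l hl ih =>
        obtain ⟨h', he⟩ := ih
        refine ⟨h'.trans (hNmono l), ?_⟩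
        rw [← he, ← sysMap_trans f h' (hNmono l)]
        refine Ideal.Quotient.eq.mpr ?_
        change sysMap f h' (sysMap f (hNmono l) (a (l + 1))) - sysMap f h' (a l) ∈ K j
        rw [← map_sub, hmap]
        refine Ideal.pow_le_pow_right (by omega) (Ideal.Quotient.eq.mp ?_ :
          sysMap f (hNmono l) (a (l + 1)) - a l ∈ K l)
        exact (huA l _).symm.trans ((congrArg (u l) (ha (l + 1))).trans ((hy l).trans (ha l).symm))
    have hindep : ∀ n j l e (he : IsLocalRing.maximalIdeal (A n) ^ (e + 1) = ⊥) (h₁ : e ≤ j)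
        (h₂ : n ≤ N j) (h : j ≤ l) (h₃ : n ≤ N l), sysMap f h₃ (a l) = sysMap f h₂ (a j) := by
      intro n j l e he h₁ h₂ h h₃
      obtain ⟨h', hh⟩ := hcons j l h
      have := map_mem_pow (sysMap f h₂) _
        (Ideal.Quotient.eq.mp (hh.trans (ha j).symm) : sysMap f h' (a l) - a j ∈ K j)
      rw [← sysMap_trans f h₂ h']
      have h4 := Ideal.pow_le_pow_right (show e + 1 ≤ j + 1 by omega) this
      rw [he, Ideal.mem_bot, map_sub, sub_eq_zero] at h4
      exact h4
    choose e he using fun n => isNilpotent_maximalIdeal (A n)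
    have he' : ∀ n, IsLocalRing.maximalIdeal (A n) ^ (e n + 1) = ⊥ := fun n =>
      le_bot_iff.mp (he n ▸ Ideal.pow_le_pow_right (Nat.le_succ _))
    let s : ∀ n, A n := fun n => sysMap f ((Nat.le_add_right n (e n)).trans (hNge _)) (a (n + e n))
    have hs : ∀ n, f n (s (n + 1)) = s n := fun n => by
      let l := n + e n + (n + 1 + e (n + 1))
      have hl₁ : n + 1 ≤ N l := le_trans (by omega) (hNge l)
      have hl₀ : n ≤ N l := le_trans (by omega) (hNge l)
      simp only [s]
      rw [← hindep n (n + e n) l (e n) (he' n) (by omega) _ (by omega) hl₀,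
        ← hindep (n + 1) (n + 1 + e (n + 1)) l (e (n + 1)) (he' _) (by omega) _ (by omega) hl₁,
        ← sysMap_succ f n]
      exact congr_hom (sysMap_trans f n.le_succ hl₁) (a l)
    refine ⟨⟨s, hs⟩, fun j => ?_⟩
    let l := j + (N j + e (N j))
    obtain ⟨h', hh⟩ := hcons j l (by omega)
    refine (congrArg (q j) ?_).trans hh
    exact (hindep (N j) (N j + e (N j)) l (e (N j)) (he' _) (by omega) _ (by omega) h').symm
  obtain ⟨hcomp, hkp, hfg⟩ := AdicLim.ring_limit u hu v rfl (fun j => rfl) hker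
    (IsNoetherian.noetherian _) p hp hinj hlift
  have hp0 : RingHom.ker (p 0) = IsLocalRing.maximalIdeal S := by
    have h0 : Ideal.map (q 0).toAlgHom (IsLocalRing.maximalIdeal (A (N 0))) = ⊥ :=
      (Ideal.map_eq_bot_iff_le_ker _).mpr ((ker_quotMk _ _ (hK 0)).trans (pow_one _)).ge
    refine le_antisymm (IsLocalRing.le_maximalIdeal (RingHom.ker_ne_top _)) fun s hs => ?_
    rw [← hIm] at hs
    exact Ideal.mem_bot.mp (h0 ▸ Ideal.mem_map_of_mem _
      ((Art.mem_maximalIdeal_iff _ _).mpr ((hresn (N 0) s).trans hs)))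
  rw [hp0] at hcomp hfg hkp
  haveI := hcomp
  letI := Ideal.Quotient.field (IsLocalRing.maximalIdeal S)
  haveI : IsNoetherianRing S := AdicLim.isNoetherianRing_of_isAdicComplete hfg
  let R : CRing Λ k := { carrier := S, res := res, res_surjective := hres, isAdicComplete := hcomp }
  let πR : ∀ n, HomSet R.carrier R.res (A n) := fun n => ⟨pr n, AlgHom.ext (hresn n)⟩
  have h1 : ∀ n, HomSet.map (f n) (πR (n + 1)) = πR n := fun n => Subtype.ext (AlgHom.ext (hpr n))
  refine ⟨R, πR, h1, hsurj, hext, fun n => ⟨N n, ?_⟩, fun n => ?_⟩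
  · intro s hs
    refine Ideal.pow_le_pow_right n.le_succ ?_
    have h2 : s ∈ RingHom.ker (p n) := (congrArg (q n) (show pr (N n) s = 0 from hs)).trans (map_zero _)
    rw [(hkp n).2] at h2
    exact h2
  · obtain ⟨e, he⟩ := isNilpotent_maximalIdeal (A n)
    refine ⟨e, fun s hs => ?_⟩
    have hle : Ideal.map (pr n) (IsLocalRing.maximalIdeal S) ≤ IsLocalRing.maximalIdeal (A n) :=
      Ideal.map_le_iff_le_comap.mpr fun x hx => Ideal.mem_comap.mpr
        ((Art.mem_maximalIdeal_iff _ _).mpr ((hresn n x).trans (hIm.symm ▸ hx : x ∈ I)))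
    have h3 := Ideal.pow_right_mono hle e
      (by rw [← Ideal.map_pow]; exact Ideal.mem_map_of_mem (pr n) hs)
    rw [he, Ideal.mem_bot] at h3
    exact h3

end Finite

end Groth.Agent.ArtFunLib
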