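import Groth.Agent.ArtFunLib.Smooth
import Groth.Agent.AdicLim.Noetherian

/-!
# Minimal versal families
-/

set_option autoImplicit false

universe u v

open CategoryTheory ArtFun ArtFun.Art ArtFun.CRing

noncomputable section

namespace Groth.Agent.ArtFunLib

variable {Λ k : Type u} [CommRing Λ] [Field k] [Algebra Λ k]

/-- Iterates of an endomorphism. -/
def powHom {A : Art Λ k} (f : A ⟶ A) : ℕ → (A ⟶ A)
  | 0 => 𝟙 A
  | n + 1 => f ≫ powHom f n

lemma powHom_apply {A : Art Λ k} (f : A ⟶ A) : ∀ (n : ℕ) (x : A), powHom f n x = (fun y => f y)^[n] x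
  | 0, _ => rfl
  | n + 1, x => powHom_apply f n (f x)

lemma map_powHom {F : Art Λ k ⥤ Type v} {A : Art Λ k} (f : A ⟶ A) {u : F.obj A} (h : F.map f u = u) :
    ∀ n, F.map (powHom f n) u = u
  | 0 => map_id' F u
  | n + 1 => by
    rw [show powHom f (n + 1) = f ≫ powHom f n from rfl, map_comp', h]
    exact map_powHom f h n

/-- `ξ.along` composes. -/
lemma along_along {F : Art Λ k ⥤ Type v} {R S T : CRing Λ k} (ξ : Family R.carrier R.res F)
    (g : R.carrier →ₐ[Λ] S.carrier) (hg : S.res.comp g = R.res) (h : S.carrier →ₐ[Λ] T.carrier)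
    (hh : T.res.comp h = S.res) (hgh : T.res.comp (h.comp g) = R.res) :
    (ξ.along g hg).along h hh = ξ.along (h.comp g) hgh := rfl

/-- `along` depends only on the map. -/
lemma along_congr {F : Art Λ k ⥤ Type v} {R S : CRing Λ k} (ξ : Family R.carrier R.res F)
    {g g' : R.carrier →ₐ[Λ] S.carrier} (h : g = g') (hg : S.res.comp g = R.res) (hg' : S.res.comp g' = R.res) :
    ξ.along g hg = ξ.along g' hg' := by
  subst h
  rfl

variable [IsNoetherianRing Λ] [Module.Finite Λ k]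

/-- Objects are artinian modules over the base. -/
lemma isArtinian_carrier (A : Art Λ k) : IsArtinian Λ A := by
  let J := RingHom.ker (algebraMap Λ A)
  let Λ' := Λ ⧸ J
  let g : Λ' →+* A := Ideal.Quotient.lift J (algebraMap Λ A) fun _ h => h
  letI : Algebra Λ' A := g.toAlgebra
  haveI : IsScalarTower Λ Λ' A := IsScalarTower.of_algebraMap_eq fun _ => rfl
  haveI : Module.Finite Λ' A := Module.Finite.of_restrictScalars_finite Λ Λ' A
  haveI : Nontrivial Λ' := g.domain_nontrivial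
  have hker : (RingHom.ker (algebraMap Λ k)).IsMaximal := by
    have : Algebra.IsIntegral Λ k := Algebra.IsIntegral.of_finite _ _
    exact Ideal.isMaximal_comap_of_isIntegral_of_isMaximal (⊥ : Ideal k)
  obtain ⟨e, he⟩ := isNilpotent_maximalIdeal A
  have hpow : RingHom.ker (algebraMap Λ k) ^ e ≤ J := by
    refine Ideal.map_eq_bot_iff_le_ker (algebraMap Λ A) |>.mp (le_bot_iff.mp ?_)
    rw [Ideal.map_pow, ← he]
    exact Ideal.pow_right_mono (Ideal.map_le_iff_le_comap.mpr fun r hr => Ideal.mem_comap.mpr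
      ((Art.mem_maximalIdeal_iff A _).mpr ((A.res.commutes r).trans hr))) e
  haveI : IsArtinianRing Λ' := isArtinianRing_iff_krullDimLE_zero.mpr (Ring.KrullDimLE.mk₀ fun p hp => by
    have h1 : J ≤ p.comap (Ideal.Quotient.mk J) := fun r hr => by
      rw [Ideal.mem_comap, Ideal.Quotient.eq_zero_iff_mem.mpr hr]; exact zero_mem _
    have h2 : RingHom.ker (algebraMap Λ k) ≤ p.comap (Ideal.Quotient.mk J) :=
      ((Ideal.IsPrime.comap _).pow_le_iff (n := e) (by
        rintro rfl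
        rw [pow_zero, Ideal.one_eq_top, top_le_iff] at hpow
        exact (Ideal.Quotient.nontrivial_iff.mp ‹Nontrivial Λ'›) hpow)).mp (hpow.trans h1)
    have h3 := hker.eq_of_le (Ideal.IsPrime.ne_top (Ideal.IsPrime.comap _)) h2
    have h4 : (p.comap (Ideal.Quotient.mk J)).IsMaximal := h3 ▸ hker
    rw [← Ideal.map_comap_of_surjective _ Ideal.Quotient.mk_surjective p]
    exact (Ideal.map_eq_top_or_isMaximal_of_surjective _ Ideal.Quotient.mk_surjective h4).resolve_left fun ht => by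
      rw [Ideal.map_comap_of_surjective _ Ideal.Quotient.mk_surjective p] at ht
      exact hp.ne_top ht)
  exact isArtinian_of_surjective_algebraMap (R := Λ') Ideal.Quotient.mk_surjective

/-- The Fitting projection onto the stable image, as a morphism. -/
lemma exists_proj {A : Art Λ k} (f : A ⟶ A) :
    ∃ (p : A ⟶ A) (N : ℕ), ∀ M, N ≤ M → (∀ x, ∃ z, powHom f M z = p x) ∧
      (∀ x, powHom f M (p x) = powHom f M x) ∧
      ∀ y y', (∃ z, powHom f M z = y) → (∃ z, powHom f M z = y') → powHom f M y = powHom f M y' → y = y' := by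
  have := isArtinian_carrier A
  let L : Module.End Λ A := f.toAlgHom.toLinearMap
  have hL : ∀ M x, powHom f M x = (L ^ M) x := fun M x => by
    rw [powHom_apply, Module.End.pow_apply]
    rfl
  obtain ⟨N, hN⟩ := Filter.eventually_atTop.mp L.eventually_isCompl_ker_pow_range_pow
  obtain ⟨N', hN'⟩ := Filter.eventually_atTop.mp (L.eventually_iInf_range_pow_eq)
  have huniq : ∀ M, N ≤ M → ∀ y y', (∃ z, powHom f M z = y) → (∃ z, powHom f M z = y') →
      powHom f M y = powHom f M y' → y = y' := by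
    intro M hM y y' ⟨z, hz⟩ ⟨z', hz'⟩ h
    rw [hL] at hz hz' h
    rw [hL] at h
    refine sub_eq_zero.mp (Submodule.disjoint_def.mp (hN M hM).disjoint _ ?_ ⟨z - z', ?_⟩)
    · rw [LinearMap.mem_ker, map_sub, sub_eq_zero]; exact h
    · rw [map_sub, hz, hz']
  let M₀ := max N N'
  have hex : ∀ x, ∃ y, (∃ z, powHom f M₀ z = y) ∧ powHom f M₀ y = powHom f M₀ x := fun x => by
    obtain ⟨a, ha, y, hy, hxy⟩ := Submodule.mem_sup.mp ((hN M₀ (le_max_left _ _)).sup_eq_top.ge (Submodule.mem_top (x := x)))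
    obtain ⟨z, hz⟩ := hy
    refine ⟨y, ⟨z, (hL _ _).trans hz⟩, ?_⟩
    rw [hL, hL, ← hxy, map_add, LinearMap.mem_ker.mp ha, zero_add]
  choose p hp₁ hp₂ using hex
  have hu : ∀ x y, (∃ z, powHom f M₀ z = y) → powHom f M₀ y = powHom f M₀ x → p x = y := fun x y h h' =>
    huniq M₀ (le_max_left _ _) _ _ (hp₁ x) h ((hp₂ x).trans h'.symm)
  let P : A →ₐ[Λ] A :=
    { toFun := p
      map_one' := hu 1 1 ⟨1, map_one _⟩ rfl
      map_mul' := fun a b => hu _ _ (by
        obtain ⟨za, hza⟩ := hp₁ a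
        obtain ⟨zb, hzb⟩ := hp₁ b
        exact ⟨za * zb, by rw [map_mul, hza, hzb]⟩) (by rw [map_mul, map_mul, hp₂, hp₂])
      map_zero' := hu 0 0 ⟨0, map_zero _⟩ rfl
      map_add' := fun a b => hu _ _ (by
        obtain ⟨za, hza⟩ := hp₁ a
        obtain ⟨zb, hzb⟩ := hp₁ b
        exact ⟨za + zb, by rw [map_add, hza, hzb]⟩) (by rw [map_add, map_add, hp₂, hp₂])
      commutes' := fun r => hu _ _ ⟨algebraMap Λ A r, AlgHom.commutes _ r⟩ rfl }
  let Ph : A ⟶ A := ⟨P, AlgHom.ext fun x => by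
    have := congrArg A.res (hp₂ x)
    rwa [Art.res_app, Art.res_app] at this⟩
  refine ⟨Ph, M₀, fun M hM => ⟨fun x => ?_, fun x => ?_, huniq M ((le_max_left _ _).trans hM)⟩⟩
  · obtain ⟨z, hz⟩ := hp₁ x
    have e := (hN' M₀ (le_max_right _ _)).symm.trans (hN' M ((le_max_right _ _).trans hM))
    have hmem : (L ^ M₀) z ∈ LinearMap.range (L ^ M) := e.le ⟨z, rfl⟩
    obtain ⟨z', hz'⟩ := hmem
    exact ⟨z', (hL _ _).trans (hz'.trans ((hL _ _).symm.trans hz))⟩
  · obtain ⟨j, rfl⟩ := Nat.exists_eq_add_of_le hM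
    rw [hL, hL, add_comm, pow_add, Module.End.mul_apply, Module.End.mul_apply, ← hL, ← hL]
    exact (congrArg (fun t => powHom f j t) (hp₂ x)).trans (by rw [hL, hL])

variable {F : Art Λ k ⥤ Type v} {R : CRing Λ k}

/-- The idempotent attached to an endomorphism fixing a family. -/
lemma exists_idempotent (ξ : Family R.carrier R.res F) (e : R.carrier →ₐ[Λ] R.carrier)
    (he : R.res.comp e = R.res) (hfix : ξ.along e he = ξ) :
    ∃ (P : R.carrier →ₐ[Λ] R.carrier) (hP : R.res.comp P = R.res),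
      P.comp P = P ∧ ξ.along P hP = ξ ∧ (Function.Injective P → Function.Surjective e) := by
  let f := fun n => truncMapOfHom e he n
  choose p N hp using fun n => exists_proj (f n)
  have hcomm : ∀ n M x, R.truncMap n (powHom (f (n + 1)) M x) = powHom (f n) M (R.truncMap n x) := by
    intro n M
    induction M with
    | zero => exact fun x => rfl
    | succ M ih => exact fun x => (ih _).trans (congrArg (powHom (f n) M) (congr_hom (truncMapOfHom_truncMap e he n) x))
  have hpc : ∀ n x, R.truncMap n (p (n + 1) x) = p n (R.truncMap n x) := fun n x => by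
    obtain ⟨h₁, h₂, -⟩ := hp (n + 1) (max (N (n + 1)) (N n)) (le_max_left _ _)
    obtain ⟨g₁, g₂, g₃⟩ := hp n (max (N (n + 1)) (N n)) (le_max_right _ _)
    obtain ⟨z, hz⟩ := h₁ x
    exact g₃ _ _ ⟨R.truncMap n z, by rw [← hcomm, hz]⟩ (g₁ _) (by rw [← hcomm, h₂, hcomm, g₂])
  obtain ⟨P, hP, hmk⟩ := exists_algHom_of_trunc (R := R) (fun n => HomSet.map (p n) (R.truncHom n))
    fun n => Subtype.ext (AlgHom.ext fun a => hpc n _)
  refine ⟨P, hP, cring_hom_ext R _ _ fun n a => ?_, (toFormalElt_bijective R F).1 (FormalElt.ext' fun n => ?_), fun hinj => ?_⟩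
  · obtain ⟨h₁, h₂, h₃⟩ := hp n (N n) le_rfl
    refine ((hmk n (P a)).trans ?_).trans (hmk n a).symm
    change p n (Ideal.Quotient.mk _ (P a)) = p n (Ideal.Quotient.mk _ a)
    rw [show Ideal.Quotient.mk (mpow R n) (P a) = p n (Ideal.Quotient.mk _ a) from hmk n a]
    exact h₃ _ _ (h₁ _) (h₁ _) (h₂ _)
  · have hfn : F.map (f n) (ξ.app _ (R.truncHom n)) = ξ.app _ (R.truncHom n) := by
      have := congrArg (fun u : FormalElt F R => u.elt n) ((push_toFormalElt ξ e he).trans (congrArg Family.toFormalElt hfix))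
      exact this
    obtain ⟨h₁, h₂, h₃⟩ := hp n (N n) le_rfl
    refine (congrArg (ξ.app _) (Subtype.ext (AlgHom.ext fun a => hmk n a))).trans ((ξ.natural (p n) (R.truncHom n)).trans ?_)
    change F.map (p n) (ξ.app _ (R.truncHom n)) = ξ.app _ (R.truncHom n)
    conv_lhs => rw [← map_powHom (f n) hfn (N n)]
    rw [← map_comp', show powHom (f n) (N n) ≫ p n = powHom (f n) (N n) from hom_ext' fun x =>
      h₃ _ _ (h₁ _) ⟨x, rfl⟩ (h₂ _)]
    exact map_powHom (f n) hfn (N n)
  · have hid : ∀ a, P a = a := fun a => hinj (DFunLike.congr_fun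
      (cring_hom_ext R (P.comp P) P fun n a => by
        obtain ⟨h₁, h₂, h₃⟩ := hp n (N n) le_rfl
        refine ((hmk n (P a)).trans ?_).trans (hmk n a).symm
        change p n (Ideal.Quotient.mk _ (P a)) = p n (Ideal.Quotient.mk _ a)
        rw [show Ideal.Quotient.mk (mpow R n) (P a) = p n (Ideal.Quotient.mk _ a) from hmk n a]
        exact h₃ _ _ (h₁ _) (h₁ _) (h₂ _)) a)
    refine surjective_of_trunc e he fun t => ?_
    obtain ⟨a, rfl⟩ := Ideal.Quotient.mk_surjective t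
    obtain ⟨h₁, -, -⟩ := hp 1 (N 1 + 1) (Nat.le_succ _)
    obtain ⟨z, hz⟩ := h₁ (Ideal.Quotient.mk _ a)
    refine ⟨(fun y => f 1 y)^[N 1] z, ?_⟩
    have h' := (hmk 1 a).symm.trans (congrArg (Ideal.Quotient.mk (mpow R 1)) (hid a))
    refine Eq.trans ?_ h'
    refine Eq.trans ?_ hz
    rw [powHom_apply]
    exact (Function.iterate_succ_apply' (fun y => f 1 y) (N 1) z).symm

/-- Every versal family has a retract which is minimal. -/
lemma exists_minimal_retract (h0 : H0 F) (ξ : Family R.carrier R.res F) (hξ : IsVersal ξ) :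
    ∃ (R' : CRing Λ k) (j : R'.carrier →ₐ[Λ] R.carrier) (hj : R.res.comp j = R'.res)
      (q : R.carrier →ₐ[Λ] R'.carrier) (hq : R'.res.comp q = R.res) (ξ' : Family R'.carrier R'.res F),
      q.comp j = AlgHom.id Λ _ ∧ ξ'.along j hj = ξ ∧ ξ'.IsMinimalVersal := by
  obtain ⟨K, ⟨P, hP, hPP, hPξ, rfl⟩, hmax⟩ := (wellFounded_gt (α := Ideal R.carrier)).has_min
    {K | ∃ (P : R.carrier →ₐ[Λ] R.carrier) (hP : R.res.comp P = R.res),
      P.comp P = P ∧ ξ.along P hP = ξ ∧ RingHom.ker P = K}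
    ⟨_, AlgHom.id Λ _, AlgHom.comp_id _, AlgHom.comp_id _, rfl, rfl⟩
  set J := RingHom.ker P
  haveI : Nontrivial (R.carrier ⧸ J) := Ideal.Quotient.nontrivial_iff.mpr (RingHom.ker_ne_top _)
  haveI : IsLocalRing (R.carrier ⧸ J) := IsLocalRing.of_surjective' _ Ideal.Quotient.mk_surjective
  let res' : (R.carrier ⧸ J) →ₐ[Λ] k := Ideal.Quotient.liftₐ J R.res fun a ha => by
    rw [← res_comp_apply P hP, show P a = 0 from ha, map_zero]
  have hmax' : IsLocalRing.maximalIdeal (R.carrier ⧸ J) =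
      (IsLocalRing.maximalIdeal R.carrier).map (algebraMap R.carrier (R.carrier ⧸ J)) := by
    refine ((Ideal.map_eq_top_or_isMaximal_of_surjective _ Ideal.Quotient.mk_surjective
      (IsLocalRing.maximalIdeal.isMaximal R.carrier)).resolve_left fun ht => ?_)
      |> IsLocalRing.eq_maximalIdeal |>.symm
    have : (1 : R.carrier ⧸ J) ∈ (IsLocalRing.maximalIdeal R.carrier).map (Ideal.Quotient.mk J) := ht ▸ Submodule.mem_top
    obtain ⟨a, ha, ha1⟩ := (Ideal.mem_map_iff_of_surjective _ Ideal.Quotient.mk_surjective).mp this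
    have := congrArg res' ha1
    rw [map_one] at this
    exact one_ne_zero (this.symm.trans ((CRing.mem_maximalIdeal_iff R a).mp ha))
  have hcomp : IsAdicComplete (IsLocalRing.maximalIdeal (R.carrier ⧸ J)) (R.carrier ⧸ J) := by
    rw [hmax']
    have := R.isAdicComplete
    exact AdicLim.isAdicComplete_quotient (I := IsLocalRing.maximalIdeal R.carrier) J
  let R' : CRing Λ k :=
    { carrier := R.carrier ⧸ J
      res := res'
      res_surjective := fun c => (R.res_surjective c).elim fun a ha => ⟨Ideal.Quotient.mk J a, ha⟩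
      isAdicComplete := hcomp }
  let q : R.carrier →ₐ[Λ] R'.carrier := Ideal.Quotient.mkₐ Λ J
  have hq : R'.res.comp q = R.res := AlgHom.ext fun a => rfl
  let j : R'.carrier →ₐ[Λ] R.carrier := Ideal.Quotient.liftₐ J P fun _ h => h
  have hj : R.res.comp j = R'.res := Ideal.Quotient.algHom_ext Λ (AlgHom.ext fun a => DFunLike.congr_fun hP a)
  have hqj : q.comp j = AlgHom.id Λ _ := Ideal.Quotient.algHom_ext Λ (AlgHom.ext fun a =>
    Ideal.Quotient.eq.mpr (show P (P a - a) = 0 by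
      rw [map_sub, ← AlgHom.comp_apply, hPP, sub_self]))
  let ξ' := ξ.along q hq
  have hjq : j.comp q = P := AlgHom.ext fun a => rfl
  have hξ'j : ξ'.along j hj = ξ := (along_congr ξ hjq (by rw [hjq]; exact hP) hP).trans hPξ
  have hv : IsVersal ξ' := fun B A μ hμ φ y hy => by
    obtain ⟨ψ, hψ, hψy⟩ := hξ μ hμ ⟨φ.1.comp q, by rw [← AlgHom.comp_assoc, φ.2, hq]⟩ y hy
    refine ⟨⟨ψ.1.comp j, by rw [← AlgHom.comp_assoc, ψ.2, hj]⟩, Subtype.ext (AlgHom.ext fun r => ?_), ?_⟩
    · exact (DFunLike.congr_fun (congrArg Subtype.val hψ) (j r)).trans (congrArg φ.1 (DFunLike.congr_fun hqj r))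
    · exact (congrArg (fun η : Family R.carrier R.res F => η.app B ψ) hξ'j).trans hψy
  refine ⟨R', j, hj, q, hq, ξ', hqj, hξ'j, hv, fun S u f hf hu => ?_⟩
  obtain ⟨h, hh, hhu⟩ := exists_hom_of_versal' hv h0 u
  have he : R'.res.comp (f.comp h) = R'.res := by rw [← AlgHom.comp_assoc, hf, hh]
  have hfix : ξ'.along (f.comp h) he = ξ' := (toFormalElt_bijective R' F).1 (by
    change (ξ'.along (f.comp h) he).toFormalElt = ξ'.toFormalElt
    rw [← hu, ← hhu, push_toFormalElt]
    rfl)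
  obtain ⟨P', hP', hPP', hfix', hsurj⟩ := exists_idempotent ξ' (f.comp h) he hfix
  have hinj : Function.Injective P' := by
    let P'' := (j.comp P').comp q
    have hP'' : R.res.comp P'' = R.res := by
      rw [← AlgHom.comp_assoc, ← AlgHom.comp_assoc, hj, hP', hq]
    have hidem : P''.comp P'' = P'' := AlgHom.ext fun a => by
      change j (P' (q (j (P' (q a))))) = j (P' (q a))
      rw [show q (j (P' (q a))) = P' (q a) from DFunLike.congr_fun hqj _,
        show P' (P' (q a)) = P' (q a) from DFunLike.congr_fun hPP' _]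
    have hfixP'' : ξ.along P'' hP'' = ξ := by
      rw [show ξ.along P'' hP'' = (((ξ.along q hq).along P' hP').along j hj) from rfl]
      rw [show (ξ.along q hq).along P' hP' = ξ' from hfix']
      exact hξ'j
    have hle : J ≤ RingHom.ker P'' := fun a ha => by
      change j (P' (q a)) = 0
      rw [show q a = 0 from Ideal.Quotient.eq_zero_iff_mem.mpr ha, map_zero, map_zero]
    have heq : J = RingHom.ker P'' := by
      by_contra hne
      exact hmax _ ⟨P'', hP'', hidem, hfixP'', rfl⟩ (lt_of_le_of_ne hle hne)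
    refine (injective_iff_map_eq_zero P').mpr fun x hx => ?_
    obtain ⟨a, rfl⟩ := Ideal.Quotient.mk_surjective x
    refine Ideal.Quotient.eq_zero_iff_mem.mpr (heq ▸ ?_)
    change j (P' (q a)) = 0
    rw [show P' (q a) = 0 from hx, map_zero]
  exact fun y => (hsurj hinj y).elim fun r hr => ⟨h r, hr⟩

/-- The square of the maximal ideal of a split coefficient ring. -/
lemma sq_le_of_retraction {R' : CRing Λ k} (i : R'.carrier →ₐ[Λ] R.carrier) (hi : R.res.comp i = R'.res)
    (ρ : R.carrier →ₐ[Λ] R'.carrier) (hρ : R'.res.comp ρ = R.res) (hρi : ρ.comp i = AlgHom.id Λ _) :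
    IsLocalRing.maximalIdeal R.carrier ≤ Ideal.map i.toRingHom (IsLocalRing.maximalIdeal R'.carrier) ⊔ RingHom.ker ρ ∧
      ∀ y ∈ IsLocalRing.maximalIdeal R.carrier ^ 2, ρ y = 0 →
        y ∈ IsLocalRing.maximalIdeal R.carrier * RingHom.ker ρ := by
  set m := IsLocalRing.maximalIdeal R.carrier
  set m' := IsLocalRing.maximalIdeal R'.carrier
  have hdec : ∀ a ∈ m, ρ a ∈ m' ∧ a - i (ρ a) ∈ RingHom.ker ρ := fun a ha => by
    refine ⟨maximalIdeal_le_comap ρ hρ ha, ?_⟩
    rw [RingHom.mem_ker, map_sub, show ρ (i (ρ a)) = ρ a from DFunLike.congr_fun hρi _, sub_self]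
  refine ⟨fun a ha => ?_, fun y hy hy0 => ?_⟩
  · obtain ⟨h₁, h₂⟩ := hdec a ha
    exact (add_sub_cancel (i (ρ a)) a) ▸ add_mem (Ideal.mem_sup_left (Ideal.mem_map_of_mem i.toRingHom h₁)) (Ideal.mem_sup_right h₂)
  · have key : ∀ y ∈ m ^ 2, y - i (ρ y) ∈ m * RingHom.ker ρ := by
      intro y hy
      rw [sq] at hy
      refine Submodule.mul_induction_on hy (fun a ha b hb => ?_) (fun a b ha hb => by
        rw [map_add, map_add, add_sub_add_comm]; exact add_mem ha hb)
      rw [map_mul, map_mul, show a * b - i (ρ a) * i (ρ b) = (b - i (ρ b)) * i (ρ a) + b * (a - i (ρ a)) by ring]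
      refine add_mem ?_ (Ideal.mul_mem_mul hb (hdec a ha).2)
      rw [mul_comm (b - i (ρ b))]
      exact Ideal.mul_mem_mul (maximalIdeal_le_comap i hi (hdec a ha).1) (hdec b hb).2
    have := key y hy
    rwa [hy0, map_zero, sub_zero] at this

/-- A map from power series onto a split ring along minimal generators of the kernel: surjective, and bijective to first order. -/
lemma ps_to_retract {R' : CRing Λ k} (i : R'.carrier →ₐ[Λ] R.carrier) (hi : R.res.comp i = R'.res)
    (ρ : R.carrier →ₐ[Λ] R'.carrier) (hρ : R'.res.comp ρ = R.res) (hρi : ρ.comp i = AlgHom.id Λ _)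
    {n : ℕ} (Q : PSRing R' n) (x : Fin n → R.carrier) (hxI : ∀ l, ρ (x l) = 0)
    (hspan : Ideal.span (Set.range x) ⊔ IsLocalRing.maximalIdeal R.carrier * RingHom.ker ρ = RingHom.ker ρ)
    (Φ : Q.ring.carrier →ₐ[Λ] R.carrier) (hΦ : R.res.comp Φ = Q.ring.res) (hΦC : Φ.comp Q.C = i)
    (hΦX : ∀ l, Φ (Q.X l) = x l) :
    Function.Surjective Φ ∧ ((∀ c : Fin n → R.carrier, (∑ l, c l * x l) ∈ IsLocalRing.maximalIdeal R.carrier * RingHom.ker ρ →
      ∀ l, c l ∈ IsLocalRing.maximalIdeal R.carrier) → Function.Bijective (truncMapOfHom Φ hΦ 1)) := by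
  set m := IsLocalRing.maximalIdeal R.carrier
  set m' := IsLocalRing.maximalIdeal R'.carrier
  set mQ := IsLocalRing.maximalIdeal Q.ring.carrier
  have hI : RingHom.ker ρ ≤ m := IsLocalRing.le_maximalIdeal (RingHom.ker_ne_top _)
  obtain ⟨hdec, hsq⟩ := sq_le_of_retraction i hi ρ hρ hρi
  have hQX : ∀ l, Q.X l ∈ mQ := fun l => (CRing.mem_maximalIdeal_iff Q.ring _).mpr (by
    rw [Q.res_e, Q.e_X, MvPowerSeries.constantCoeff_X, map_zero])
  have hQC : Q.ring.res.comp Q.C = R'.res := AlgHom.ext fun r => by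
    rw [AlgHom.comp_apply, Q.res_e, Q.e_C, MvPowerSeries.constantCoeff_C]
  have hsurj : Function.Surjective Φ := by
    refine surjective_of_cring_cotangent Φ hΦ (hdec.trans (sup_le (le_sup_of_le_left ?_) ?_))
    · refine Ideal.map_le_iff_le_comap.mpr fun r hr => ?_
      rw [Ideal.mem_comap, show i.toRingHom r = Φ (Q.C r) from (DFunLike.congr_fun hΦC r).symm]
      exact Ideal.mem_map_of_mem Φ.toRingHom (maximalIdeal_le_comap Q.C hQC hr)
    · rw [← hspan]
      refine sup_le (le_sup_of_le_left (Ideal.span_le.mpr ?_)) (le_sup_of_le_right ?_)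
      · rintro _ ⟨l, rfl⟩
        rw [← hΦX l]
        exact Ideal.mem_map_of_mem Φ.toRingHom (hQX l)
      · rw [sq]; exact Ideal.mul_mono le_rfl hI
  refine ⟨hsurj, fun hli => ⟨fun t t' htt => ?_, fun t => ?_⟩⟩
  swap
  · obtain ⟨a, rfl⟩ := Ideal.Quotient.mk_surjective t
    obtain ⟨b, rfl⟩ := hsurj a
    exact ⟨Ideal.Quotient.mk _ b, rfl⟩
  obtain ⟨a, rfl⟩ := Ideal.Quotient.mk_surjective t
  obtain ⟨a', rfl⟩ := Ideal.Quotient.mk_surjective t'
  refine Ideal.Quotient.eq.mpr ?_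
  have hz : Φ (a - a') ∈ m ^ 2 := by rw [map_sub]; exact Ideal.Quotient.eq.mp htt
  set z := a - a'
  have hzm : z ∈ mQ := by
    rw [CRing.mem_maximalIdeal_iff, ← res_comp_apply Φ hΦ]
    exact (CRing.mem_maximalIdeal_iff R _).mp (Ideal.pow_le_self two_ne_zero hz)
  have h1 := psRing_maximal_le Q hzm
  rw [sup_assoc] at h1
  obtain ⟨s, hs, w, hw, hsw⟩ := Submodule.mem_sup.mp h1
  obtain ⟨w₁, hw₁, w₂, hw₂, rfl⟩ := Submodule.mem_sup.mp hw
  obtain ⟨c, rfl⟩ := (Submodule.mem_span_range_iff_exists_fun _).mp hs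
  have hCr : ∃ r ∈ m', w₁ - Q.C r ∈ mQ ^ 2 := by
    clear hw hsw hz hzm h1
    induction hw₁ using Submodule.span_induction with
    | mem y hy => obtain ⟨r, hr, rfl⟩ := hy; exact ⟨r, hr, by simp⟩
    | zero => exact ⟨0, zero_mem _, by simp⟩
    | add y y' _ _ hy hy' =>
      obtain ⟨r, hr, h⟩ := hy
      obtain ⟨r', hr', h'⟩ := hy'
      exact ⟨r + r', add_mem hr hr', by rw [map_add, add_sub_add_comm]; exact add_mem h h'⟩
    | smul b y _ hy =>
      obtain ⟨r, hr, h⟩ := hy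
      obtain ⟨b₀, hb₀⟩ := R'.res_surjective (Q.ring.res b)
      refine ⟨b₀ * r, Ideal.mul_mem_left _ _ hr, ?_⟩
      rw [smul_eq_mul, map_mul, show b * y - Q.C b₀ * Q.C r = b * (y - Q.C r) + (b - Q.C b₀) * Q.C r by ring]
      refine add_mem (Ideal.mul_mem_left _ _ h) ?_
      rw [sq]
      refine Ideal.mul_mem_mul ?_ (maximalIdeal_le_comap Q.C hQC hr)
      rw [CRing.mem_maximalIdeal_iff, map_sub, res_comp_apply Q.C hQC, hb₀, sub_self]
  obtain ⟨r, hr, hw₁r⟩ := hCr
  -- the constant part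
  have hρΦ : R'.res.comp (ρ.comp Φ) = Q.ring.res := by rw [← AlgHom.comp_assoc, hρ, hΦ]
  have hρsq : ∀ y ∈ mQ ^ 2, ρ (Φ y) ∈ m' ^ 2 := fun y hy =>
    Ideal.pow_right_mono (Ideal.map_le_iff_le_comap.mpr (maximalIdeal_le_comap (ρ.comp Φ) hρΦ)) 2
      (by rw [← Ideal.map_pow]; exact Ideal.mem_map_of_mem (ρ.comp Φ).toRingHom hy)
  have hρX : ρ (Φ (∑ l, c l • Q.X l)) = 0 := by
    simp [map_sum, hΦX, hxI]
  have hρC : ρ (Φ (Q.C r)) = r := by
    rw [show Φ (Q.C r) = i r from DFunLike.congr_fun hΦC r]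
    exact DFunLike.congr_fun hρi r
  have hr2 : r ∈ m' ^ 2 := by
    have h4 : ρ (Φ z) ∈ m' ^ 2 :=
      Ideal.pow_right_mono (Ideal.map_le_iff_le_comap.mpr (maximalIdeal_le_comap ρ hρ)) 2
        (by rw [← Ideal.map_pow]; exact Ideal.mem_map_of_mem ρ.toRingHom hz)
    rw [← hsw, map_add, map_add, hρX, zero_add, ← sub_add_cancel w₁ (Q.C r), map_add, map_add, map_add,
      map_add, hρC] at h4
    have h5 := sub_mem (sub_mem h4 (hρsq _ hw₂)) (hρsq _ hw₁r)
    rwa [add_sub_cancel_right, add_sub_cancel_left] at h5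
  have hwsq : w₁ + w₂ ∈ mQ ^ 2 := by
    refine add_mem ?_ hw₂
    rw [← sub_add_cancel w₁ (Q.C r)]
    exact add_mem hw₁r (Ideal.pow_right_mono (Ideal.map_le_iff_le_comap.mpr (maximalIdeal_le_comap Q.C hQC)) 2
      (by rw [← Ideal.map_pow]; exact Ideal.mem_map_of_mem Q.C.toRingHom hr2))
  have hsum : ∑ l, Φ (c l) * x l ∈ m * RingHom.ker ρ := by
    have e : Φ (∑ l, c l • Q.X l) = ∑ l, Φ (c l) * x l := by simp [map_sum, hΦX]
    rw [← e]
    refine hsq _ ?_ hρX
    rw [eq_sub_of_add_eq hsw, map_sub]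
    exact sub_mem hz (Ideal.pow_right_mono (Ideal.map_le_iff_le_comap.mpr (maximalIdeal_le_comap Φ hΦ)) 2
      (by rw [← Ideal.map_pow]; exact Ideal.mem_map_of_mem Φ.toRingHom hwsq))
  rw [← hsw]
  refine add_mem (Ideal.sum_mem _ fun l _ => ?_) hwsq
  rw [smul_eq_mul, mpow, pow_two]
  refine Ideal.mul_mem_mul ?_ (hQX l)
  rw [CRing.mem_maximalIdeal_iff, ← res_comp_apply Φ hΦ]
  exact (CRing.mem_maximalIdeal_iff R _).mp (hli _ hsum l)

end Groth.Agent.ArtFunLib
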