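import Groth.Agent.ArtFunLib.Completion
import Groth.Agent.AdicLim.Filt
import Mathlib.RingTheory.MvPowerSeries.Equiv

/-!
# Power series over a coefficient ring as a coefficient ring
-/

set_option autoImplicit false

universe u

open CategoryTheory ArtFun ArtFun.Art ArtFun.CRing

noncomputable section

namespace Groth.Agent.ArtFunLib

variable {Λ k : Type u} [CommRing Λ] [Field k] [Algebra Λ k] {R : CRing Λ k}

/-- The augmentation of the polynomial ring. -/
def polyRes (R : CRing Λ k) (n : ℕ) : MvPolynomial (Fin n) R.carrier →ₐ[Λ] k :=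
  MvPolynomial.aevalTower R.res 0

lemma polyRes_eq (n : ℕ) (p : MvPolynomial (Fin n) R.carrier) :
    polyRes R n p = R.res (MvPolynomial.constantCoeff p) :=
  DFunLike.congr_fun (MvPolynomial.ringHom_ext
    (f := (polyRes R n).toRingHom) (g := R.res.toRingHom.comp MvPolynomial.constantCoeff)
    (fun r => by simp [polyRes]) (fun i => by simp [polyRes])) p

lemma mem_ker_polyRes (n : ℕ) (p : MvPolynomial (Fin n) R.carrier) :
    p ∈ RingHom.ker (polyRes R n) ↔ MvPolynomial.coeff 0 p ∈ IsLocalRing.maximalIdeal R.carrier := by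
  rw [RingHom.mem_ker, polyRes_eq, CRing.mem_maximalIdeal_iff]
  exact Iff.rfl

/-- Powers of the augmentation ideal of the polynomial ring, coefficientwise. -/
lemma mem_pow_ker_polyRes (n N : ℕ) (p : MvPolynomial (Fin n) R.carrier) :
    p ∈ RingHom.ker (polyRes R n) ^ N ↔
      ∀ d, p.coeff d ∈ IsLocalRing.maximalIdeal R.carrier ^ (N - Finsupp.degree d) := by
  classical
  set m := IsLocalRing.maximalIdeal R.carrier
  set M := RingHom.ker (polyRes R n)
  constructor
  · induction N generalizing p with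
    | zero => intro _ d; simp
    | succ N ih =>
      intro hp
      rw [pow_succ] at hp
      refine Submodule.mul_induction_on hp (fun a ha b hb => fun d => ?_) (fun a b ha hb d => by
        rw [MvPolynomial.coeff_add]; exact add_mem (ha d) (hb d))
      rw [MvPolynomial.coeff_mul]
      refine Ideal.sum_mem _ fun x hx => ?_
      have hdeg : Finsupp.degree x.1 + Finsupp.degree x.2 = Finsupp.degree d := by
        rw [← map_add, Finset.HasAntidiagonal.mem_antidiagonal.mp hx]
      by_cases h0 : x.2 = 0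
      · have h1 := Ideal.mul_mem_mul (ih a ha x.1) (show b.coeff x.2 ∈ m from h0 ▸ (mem_ker_polyRes n b).mp hb)
        rw [← pow_succ] at h1
        exact Ideal.pow_le_pow_right (by omega) h1
      · have h2 : 0 < Finsupp.degree x.2 := Nat.pos_of_ne_zero fun h => h0 ((Finsupp.degree_eq_zero_iff _).mp h)
        exact Ideal.pow_le_pow_right (by omega) (Ideal.mul_mem_right _ _ (ih a ha x.1))
  · intro h
    rw [p.as_sum]
    refine Ideal.sum_mem _ fun d _ => ?_
    have hC : MvPolynomial.C (p.coeff d) ∈ M ^ (N - Finsupp.degree d) := by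
      refine Ideal.pow_right_mono (I := Ideal.map (MvPolynomial.C (σ := Fin n) (R := R.carrier)) m)
        (Ideal.map_le_iff_le_comap.mpr fun r hr => ?_) _
        (by rw [← Ideal.map_pow]; exact Ideal.mem_map_of_mem MvPolynomial.C (h d))
      rw [Ideal.mem_comap, mem_ker_polyRes]
      rw [MvPolynomial.coeff_C, if_pos rfl]
      exact hr
    have hX : MvPolynomial.monomial d (1 : R.carrier) ∈ M ^ Finsupp.degree d := by
      refine Ideal.pow_right_mono (I := MvPolynomial.idealOfVars (Fin n) R.carrier) (Ideal.span_le.mpr ?_) _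
        ((MvPolynomial.monomial_mem_pow_idealOfVars_iff _ _ one_ne_zero).mpr le_rfl)
      rintro _ ⟨i, rfl⟩
      rw [SetLike.mem_coe, mem_ker_polyRes]
      simp
    have := Ideal.mul_mem_mul hC hX
    rw [MvPolynomial.C_mul_monomial, mul_one, ← pow_add] at this
    exact Ideal.pow_le_pow_right (by omega) this

variable [IsNoetherianRing Λ] [Module.Finite Λ k]

/-- The completion computes the quotients by powers. -/
lemma completion_quot {P : Type u} [CommRing P] [Algebra Λ P] {π : P →ₐ[Λ] k} (hπ : Function.Surjective π)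
    (hM : (RingHom.ker π).FG) {S : CRing Λ k} (ι : P →ₐ[Λ] S.carrier) (hι : S.res.comp ι = π)
    (hu : ∀ A : Art Λ k, Function.Bijective (compHomSet ι hι (A := A))) (n : ℕ) :
    (∀ x, ι x ∈ mpow S n ↔ x ∈ RingHom.ker π ^ (n + 1)) ∧ ∀ s, ∃ x, s - ι x ∈ mpow S n := by
  set M := RingHom.ker π
  let res : (P ⧸ M ^ (n + 1)) →ₐ[Λ] k :=
    Ideal.Quotient.liftₐ (M ^ (n + 1)) π fun x hx => Ideal.pow_le_self n.succ_ne_zero hx
  have hkres : RingHom.ker res = M.map (Ideal.Quotient.mk (M ^ (n + 1))) := by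
    refine le_antisymm (fun t ht => ?_) (Ideal.map_le_iff_le_comap.mpr fun x hx => hx)
    obtain ⟨x, rfl⟩ := Ideal.Quotient.mk_surjective t
    exact Ideal.mem_map_of_mem _ (show x ∈ M from ht)
  have hnil : ∀ t, res t = 0 → IsNilpotent t := fun t ht => by
    obtain ⟨x, rfl⟩ := Ideal.Quotient.mk_surjective t
    exact ⟨n + 1, by
      rw [← map_pow, Ideal.Quotient.eq_zero_iff_mem]; exact Ideal.pow_mem_pow (show x ∈ M from ht) _⟩
  have hres : Function.Surjective res := fun c => ⟨Ideal.Quotient.mk _ (hπ c).choose, (hπ c).choose_spec⟩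
  have : Module.Finite Λ (P ⧸ M ^ (n + 1)) := Module.finite_of_surjective_of_ker_le_nilradical res hres
    (fun t ht => mem_nilradical.mpr (hnil t ht)) (by rw [hkres]; exact hM.map _)
  let T : Art Λ k := mkArt (P ⧸ M ^ (n + 1)) res hres hnil
  obtain ⟨ψ, hψ⟩ := (hu T).2 ⟨Ideal.Quotient.mkₐ Λ (M ^ (n + 1)), AlgHom.ext fun x => rfl⟩
  have hψι : ∀ x, ψ.1 (ι x) = Ideal.Quotient.mk _ x := fun x =>
    DFunLike.congr_fun (congrArg Subtype.val hψ) x
  have hιm : ∀ x ∈ M ^ (n + 1), ι x ∈ mpow S n := fun x hx =>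
    Ideal.pow_right_mono (Ideal.map_le_iff_le_comap.mpr fun y hy => Ideal.mem_comap.mpr
      ((CRing.mem_maximalIdeal_iff S _).mpr ((DFunLike.congr_fun hι y).trans hy))) (n + 1)
      (by rw [← Ideal.map_pow]; exact Ideal.mem_map_of_mem ι hx)
  refine ⟨fun x => ⟨fun hx => ?_, hιm x⟩, fun s => ?_⟩
  · have h1 := homSet_mpow ψ n hx
    rw [hψι] at h1
    have hle : IsLocalRing.maximalIdeal T ≤ M.map (Ideal.Quotient.mk (M ^ (n + 1))) := fun t ht =>
      hkres.le ((Art.mem_maximalIdeal_iff T t).mp ht)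
    have h2 := Ideal.pow_right_mono hle (n + 1) h1
    have h3 : Ideal.Quotient.mk (M ^ (n + 1)) x ∈ (M ^ (n + 1)).map (Ideal.Quotient.mk (M ^ (n + 1))) := by
      rw [Ideal.map_pow]; exact h2
    rw [Ideal.map_quotient_self, Ideal.mem_bot] at h3
    exact Ideal.Quotient.eq_zero_iff_mem.mp h3
  · obtain ⟨x, hx⟩ := Ideal.Quotient.mk_surjective (ψ.1 s : P ⧸ M ^ (n + 1))
    let g : T ⟶ S.trunc n := ⟨Ideal.Quotient.liftₐ (M ^ (n + 1)) ((S.truncHom n).1.comp ι) fun y hy =>
      Ideal.Quotient.eq_zero_iff_mem.mpr (hιm y hy), AlgHom.ext fun t => by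
        obtain ⟨y, rfl⟩ := Ideal.Quotient.mk_surjective t
        exact (homSet_res (S.truncHom n) (ι y)).trans (DFunLike.congr_fun hι y)⟩
    have hg : HomSet.map g ψ = S.truncHom n := (hu _).1 (Subtype.ext (AlgHom.ext fun y => congrArg g (hψι y)))
    refine ⟨x, Ideal.Quotient.eq.mp ?_⟩
    rw [show Ideal.Quotient.mk (mpow S n) s = g (ψ.1 s) from
      (DFunLike.congr_fun (congrArg Subtype.val hg) s).symm, ← hx]
    rfl

/-- A power series ring over a coefficient ring, packaged as a coefficient ring. -/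
structure PSRing (R : CRing Λ k) (n : ℕ) where
  /-- the ring -/
  ring : CRing Λ k
  /-- the identification -/
  e : ring.carrier ≃ₐ[Λ] MvPowerSeries (Fin n) R.carrier
  /-- the constants -/
  C : R.carrier →ₐ[Λ] ring.carrier
  /-- the variables -/
  X : Fin n → ring.carrier
  e_C : ∀ r, e (C r) = MvPowerSeries.C r
  e_X : ∀ i, e (X i) = MvPowerSeries.X i
  res_e : ∀ s, ring.res s = R.res (MvPowerSeries.constantCoeff (e s))
  univ : ∀ (A : Art Λ k) (φ : HomSet R.carrier R.res A) (a : Fin n → A), (∀ i, A.res (a i) = 0) →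
    ∃! ψ : HomSet ring.carrier ring.res A, ψ.1.comp C = φ.1 ∧ ∀ i, ψ.1 (X i) = a i
  univC : ∀ (T : CRing Λ k) (φ : R.carrier →ₐ[Λ] T.carrier), T.res.comp φ = R.res →
    ∀ (a : Fin n → T.carrier), (∀ i, T.res (a i) = 0) →
    ∃! ψ : ring.carrier →ₐ[Λ] T.carrier, T.res.comp ψ = ring.res ∧ ψ.comp C = φ ∧ ∀ i, ψ (X i) = a i

lemma exists_psRing (R : CRing Λ k) (n : ℕ) : Nonempty (PSRing R n) := by
  classical
  let P := MvPolynomial (Fin n) R.carrier
  set π := polyRes R n
  have hπ : Function.Surjective π := fun c => by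
    obtain ⟨r, hr⟩ := R.res_surjective c
    exact ⟨MvPolynomial.C r, by rw [polyRes_eq, MvPolynomial.constantCoeff_C, hr]⟩
  have hM : (RingHom.ker π).FG := IsNoetherian.noetherian _
  obtain ⟨S, ι, hι, hu⟩ := exists_completion P π hπ hM
  set M := RingHom.ker π
  set m := IsLocalRing.maximalIdeal R.carrier
  have hq := completion_quot hπ hM ι hι hu
  let PS := MvPowerSeries (Fin n) R.carrier
  have htr : ∀ N (f g : P), (∀ d, Finsupp.degree d < N → f.coeff d = g.coeff d) → f - g ∈ M ^ N := fun N f g h => by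
    rw [mem_pow_ker_polyRes]
    intro d
    by_cases hd : Finsupp.degree d < N
    · rw [MvPolynomial.coeff_sub, h d hd, sub_self]; exact zero_mem _
    · rw [show N - Finsupp.degree d = 0 by omega, pow_zero, Ideal.one_eq_top]; trivial
  -- the map from power series
  let mk' : ∀ N, PS →+* S.carrier ⧸ mpow S N := fun N =>
    (Ideal.Quotient.lift (MvPolynomial.idealOfVars (Fin n) R.carrier ^ (N + 1))
      (((Ideal.Quotient.mk (mpow S N)).comp ι.toRingHom)) fun p hp => Ideal.Quotient.eq_zero_iff_mem.mpr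
        (((hq N).1 p).mpr (Ideal.pow_right_mono (Ideal.span_le.mpr (by
          rintro _ ⟨i, rfl⟩
          rw [SetLike.mem_coe, mem_ker_polyRes]
          simp)) _ hp))).comp (MvPowerSeries.truncTotalAlgHom (Fin n) R.carrier (N + 1)).toRingHom
  have hmk' : ∀ N f, mk' N f = Ideal.Quotient.mk (mpow S N) (ι (MvPowerSeries.truncTotal (N + 1) f)) := fun N f => rfl
  have htrC : ∀ N r, MvPowerSeries.truncTotal (N + 1) (MvPowerSeries.C r : PS) - MvPolynomial.C r ∈ M ^ (N + 1) :=
    fun N r => htr _ _ _ fun d hd => by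
      rw [MvPowerSeries.coeff_truncTotal _ hd, MvPowerSeries.coeff_C, MvPolynomial.coeff_C]
      simp [eq_comm]
  have hιι : ∀ N (f g : P), f - g ∈ M ^ (N + 1) → Ideal.Quotient.mk (mpow S N) (ι f) = Ideal.Quotient.mk (mpow S N) (ι g) :=
    fun N f g h => Ideal.Quotient.eq.mpr (by rw [← map_sub]; exact ((hq N).1 _).mpr h)
  let resPS : PS →ₐ[Λ] k :=
    { toRingHom := R.res.toRingHom.comp MvPowerSeries.constantCoeff
      commutes' := fun r => by
        change R.res (MvPowerSeries.constantCoeff (algebraMap Λ PS r)) = _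
        rw [MvPowerSeries.algebraMap_apply, MvPowerSeries.constantCoeff_C, AlgHom.commutes] }
  let φN : ∀ N, HomSet PS resPS (S.trunc N) := fun N =>
    ⟨{ toRingHom := mk' N
       commutes' := fun r => by
        change mk' N (algebraMap Λ PS r) = Ideal.Quotient.mk _ (algebraMap Λ S.carrier r)
        rw [hmk', ← ι.commutes r, MvPowerSeries.algebraMap_apply]
        exact hιι N _ _ (by
          rw [show algebraMap Λ P r = MvPolynomial.C (algebraMap Λ R.carrier r) from rfl]
          exact htrC N _) },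
     AlgHom.ext fun f => by
      change S.res (ι (MvPowerSeries.truncTotal (N + 1) f)) = R.res (MvPowerSeries.constantCoeff f)
      rw [show S.res (ι (MvPowerSeries.truncTotal (N + 1) f)) = π (MvPowerSeries.truncTotal (N + 1) f) from
        DFunLike.congr_fun hι _, polyRes_eq]
      congr 1
      rw [MvPolynomial.constantCoeff_eq, MvPowerSeries.coeff_truncTotal _ (by rw [map_zero]; omega),
        MvPowerSeries.coeff_zero_eq_constantCoeff]⟩
  obtain ⟨Ψ, hΨres, hΨ⟩ := exists_algHom_of_trunc φN fun N => Subtype.ext (AlgHom.ext fun f => by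
    change Ideal.Quotient.mk (mpow S N) (ι (MvPowerSeries.truncTotal (N + 1 + 1) f)) =
      Ideal.Quotient.mk (mpow S N) (ι (MvPowerSeries.truncTotal (N + 1) f))
    exact hιι N _ _ (htr _ _ _ fun d hd => by
      rw [MvPowerSeries.coeff_truncTotal _ hd, MvPowerSeries.coeff_truncTotal _ (by omega)]))
  have hΨ' : ∀ N f, Ψ f - ι (MvPowerSeries.truncTotal (N + 1) f) ∈ mpow S N := fun N f =>
    Ideal.Quotient.eq.mp (hΨ N f)
  have hΨbij : Function.Bijective Ψ := by
    refine ⟨(injective_iff_map_eq_zero Ψ).mpr fun f hf => MvPowerSeries.ext fun d => ?_, fun s => ?_⟩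
    · have := R.isAdicComplete
      rw [map_zero]
      refine IsHausdorff.haus (I := m) inferInstance _ fun N => ?_
      rw [SModEq.zero, smul_eq_mul, Ideal.mul_top]
      have h1 := hΨ' (N + Finsupp.degree d) f
      rw [hf, zero_sub, neg_mem_iff, (hq _).1, mem_pow_ker_polyRes] at h1
      have h2 := h1 d
      rw [MvPowerSeries.coeff_truncTotal _ (by omega)] at h2
      exact Ideal.pow_le_pow_right (by omega) h2
    · choose x hx using fun N => (hq N).2 s
      have hxx : ∀ N, x (N + 1) - x N ∈ M ^ (N + 1) := fun N => by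
        refine ((hq N).1 _).mp ?_
        have h1 : s - ι (x (N + 1)) ∈ mpow S N := Ideal.pow_le_pow_right (Nat.le_succ _) (hx (N + 1))
        have h2 := sub_mem (hx N) h1
        rwa [sub_sub_sub_cancel_left, ← map_sub] at h2
      have hxle : ∀ (d : Fin n →₀ ℕ) N N', N ≤ N' → (x N').coeff d - (x N).coeff d ∈ m ^ (N + 1 - Finsupp.degree d) := by
        intro d N N' h
        induction N', h using Nat.le_induction with
        | base => rw [sub_self]; exact zero_mem _
        | succ N' hN' ih =>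
          have h1 := (mem_pow_ker_polyRes n _ _).mp (hxx N') d
          rw [MvPolynomial.coeff_sub] at h1
          have h2 := add_mem (Ideal.pow_le_pow_right (show N + 1 - Finsupp.degree d ≤ N' + 1 - Finsupp.degree d by omega) h1) ih
          rwa [sub_add_sub_cancel] at h2
      have := R.isAdicComplete
      have hlim : ∀ d : Fin n →₀ ℕ, ∃ L, ∀ N, L - (x N).coeff d ∈ m ^ (N + 1 - Finsupp.degree d) := by
        intro d
        obtain ⟨L, hL⟩ := AdicLim.exists_limit (I := m) R.carrier (fun j => (x (j + Finsupp.degree d)).coeff d)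
          (fun j => by
            rw [smul_eq_mul, Ideal.mul_top]
            exact Ideal.pow_le_pow_right (by omega) (hxle d (j + Finsupp.degree d) _ (by omega)))
        refine ⟨L, fun N => ?_⟩
        have h1 := hL (N + 1)
        rw [smul_eq_mul, Ideal.mul_top] at h1
        have h2 := add_mem (Ideal.pow_le_pow_right (show N + 1 - Finsupp.degree d ≤ N + 1 by omega) h1)
          (hxle d N (N + 1 + Finsupp.degree d) (by omega))
        rwa [sub_add_sub_cancel] at h2
      choose L hL using hlim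
      let Lf : PS := fun d => L d
      have hLf : ∀ d, MvPowerSeries.coeff d Lf = L d := fun d => rfl
      refine ⟨Lf, ?_⟩
      have := S.isAdicComplete
      refine (sub_eq_zero.mp (IsHausdorff.haus (I := IsLocalRing.maximalIdeal S.carrier) inferInstance _ fun N => ?_))
      rw [SModEq.zero, smul_eq_mul, Ideal.mul_top]
      refine Ideal.pow_le_pow_right N.le_succ ?_
      have h1 : ι (MvPowerSeries.truncTotal (N + 1) Lf - x N) ∈ mpow S N := by
        rw [(hq N).1, mem_pow_ker_polyRes]
        intro d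
        by_cases hd : Finsupp.degree d < N + 1
        · rw [MvPolynomial.coeff_sub, MvPowerSeries.coeff_truncTotal _ hd]
          rw [hLf]
          exact hL d N
        · rw [show N + 1 - Finsupp.degree d = 0 by omega, pow_zero, Ideal.one_eq_top]; trivial
      have h2 := sub_mem (add_mem (hΨ' N Lf) h1) (hx N)
      rw [map_sub] at h2
      convert h2 using 1
      ring
  let e := AlgEquiv.ofBijective Ψ hΨbij
  let C₀ : R.carrier →ₐ[Λ] S.carrier := ι.comp (IsScalarTower.toAlgHom Λ R.carrier P)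
  have hC : ∀ r, Ψ (MvPowerSeries.C r) = C₀ r := fun r => by
    have := S.isAdicComplete
    refine (sub_eq_zero.mp (IsHausdorff.haus (I := IsLocalRing.maximalIdeal S.carrier) inferInstance _ fun N => ?_))
    rw [SModEq.zero, smul_eq_mul, Ideal.mul_top]
    refine Ideal.pow_le_pow_right N.le_succ ?_
    have h1 := add_mem (hΨ' N (MvPowerSeries.C r)) (((hq N).1 _).mpr (htrC N r))
    rwa [map_sub, sub_add_sub_cancel] at h1
  have hX : ∀ i, Ψ (MvPowerSeries.X i) = ι (MvPolynomial.X i) := fun i => by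
    have := S.isAdicComplete
    refine (sub_eq_zero.mp (IsHausdorff.haus (I := IsLocalRing.maximalIdeal S.carrier) inferInstance _ fun N => ?_))
    rw [SModEq.zero, smul_eq_mul, Ideal.mul_top]
    refine Ideal.pow_le_pow_right N.le_succ ?_
    have hmem : MvPowerSeries.truncTotal (N + 1) (MvPowerSeries.X i : PS) - MvPolynomial.X i ∈ M ^ (N + 1) :=
      htr _ _ _ fun d hd => by
        rw [MvPowerSeries.coeff_truncTotal _ hd, MvPowerSeries.coeff_X, MvPolynomial.coeff_X]
        simp [eq_comm]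
    have h1 := add_mem (hΨ' N (MvPowerSeries.X i)) (((hq N).1 _).mpr hmem)
    rwa [map_sub, sub_add_sub_cancel] at h1
  have hP : ∀ {T : Type u} [CommRing T] [Algebra Λ T] (g : P →ₐ[Λ] T) (φ : R.carrier →ₐ[Λ] T) (a : Fin n → T),
      g = MvPolynomial.aevalTower φ a ↔ g.comp (IsScalarTower.toAlgHom Λ R.carrier P) = φ ∧ ∀ i, g (MvPolynomial.X i) = a i := by
    intro T _ _ g φ a
    constructor
    · rintro rfl
      exact ⟨AlgHom.ext fun r => MvPolynomial.aevalTower_C _ _ r, fun i => MvPolynomial.aevalTower_X _ _ i⟩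
    · rintro ⟨h₁, h₂⟩
      exact AlgHom.ext fun p => DFunLike.congr_fun (MvPolynomial.ringHom_ext (f := g.toRingHom)
        (g := (MvPolynomial.aevalTower φ a).toRingHom)
        (fun r => (DFunLike.congr_fun h₁ r).trans (MvPolynomial.aevalTower_C φ a r).symm)
        (fun i => (h₂ i).trans (MvPolynomial.aevalTower_X φ a i).symm)) p
  have hPres : ∀ {T : Type u} [CommRing T] [Algebra Λ T] (r : T →ₐ[Λ] k) (φ : R.carrier →ₐ[Λ] T) (a : Fin n → T),
      r.comp φ = R.res → (∀ i, r (a i) = 0) → r.comp (MvPolynomial.aevalTower φ a) = π := by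
    intro T _ _ r φ a hφ ha
    refine ((hP (r.comp (MvPolynomial.aevalTower φ a)) R.res 0).mpr ⟨?_, fun i => ?_⟩)
    · rw [AlgHom.comp_assoc, ((hP _ φ a).mp rfl).1, hφ]
    · rw [AlgHom.comp_apply, MvPolynomial.aevalTower_X, ha, Pi.zero_apply]
  refine ⟨{ ring := S, e := e.symm, C := C₀, X := fun i => ι (MvPolynomial.X i),
            e_C := fun r => e.injective ?_, e_X := fun i => e.injective ?_, res_e := fun s => ?_,
            univ := fun A φ a ha => ?_, univC := fun T φ hφ a ha => ?_ }⟩
  · rw [AlgEquiv.apply_symm_apply]; exact (hC r).symm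
  · rw [AlgEquiv.apply_symm_apply]; exact (hX i).symm
  · conv_lhs => rw [← e.apply_symm_apply s]
    exact DFunLike.congr_fun hΨres (e.symm s)
  · obtain ⟨ψ, hψ⟩ := (hu A).2 ⟨MvPolynomial.aevalTower φ.1 a, hPres A.res φ.1 a φ.2 ha⟩
    obtain ⟨h₁, h₂⟩ := (hP _ φ.1 a).mp (congrArg Subtype.val hψ)
    exact ⟨ψ, ⟨h₁, h₂⟩, fun ψ' h' => (hu A).1 ((Subtype.ext ((hP _ φ.1 a).mpr h')).trans hψ.symm)⟩
  · obtain ⟨ψ, ⟨hψr, hψ⟩, huniq⟩ := existsUnique_completion_hom ι hι hu T (MvPolynomial.aevalTower φ a)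
      (hPres T.res φ a hφ ha)
    obtain ⟨h₁, h₂⟩ := (hP _ φ a).mp hψ
    exact ⟨ψ, ⟨hψr, h₁, h₂⟩, fun ψ' h' => huniq ψ' ⟨h'.1, (hP _ φ a).mpr h'.2⟩⟩

end Groth.Agent.ArtFunLib
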