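import Groth.Agent.ArtFunLib.Completion

/-!
# Smooth coefficient rings with prescribed tangent space
-/

set_option autoImplicit false

universe u

open CategoryTheory ArtFun ArtFun.Art ArtFun.CRing

noncomputable section

namespace Groth.Agent.ArtFunLib

variable {Λ k : Type u} [CommRing Λ] [Field k] [Algebra Λ k]

variable (Λ k) in
/-- `k ⊕ k^d` with square zero. -/
def dualN (d : ℕ) : Art Λ k :=
  { carrier := TrivSqZeroExt k (Fin d → k)
    isLocalRing := isLocalRing_tsze k (Fin d → k)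
    isArtinianRing := isArtinianRing_tsze k (Fin d → k)
    res := TrivSqZeroExt.fstHom Λ k (Fin d → k)
    res_surjective := fun a => ⟨TrivSqZeroExt.inl a, rfl⟩ }

/-- Linear forms give maps to `k[ε]`. -/
def tN {d : ℕ} (l : (Fin d → k) →ₗ[k] k) : dualN Λ k d ⟶ dual Λ k := ⟨tszeMap l, AlgHom.ext fun _ => rfl⟩

/-- The `ε`-coefficient. -/
def sndD (x : dual Λ k) : k := TrivSqZeroExt.snd (R := k) x

/-- The vector part. -/
def sndN {d : ℕ} (x : dualN Λ k d) : Fin d → k := TrivSqZeroExt.snd (R := k) x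

lemma exists_tNσ {d : ℕ} (σ : base Λ k ⟶ dual Λ k) (l : (Fin d → k) →ₗ[k] k) :
    ∃ g : dualN Λ k d ⟶ dual2 Λ k, g ≫ pr₁ = toBase _ ≫ σ ∧ g ≫ pr₂ = tN l :=
  exists_lift isFibreProd_dual2 ((eq_toBase _).trans (eq_toBase _).symm)

/-- The projection `k ⊕ k^d → k` followed by a derivation, plus a linear form. -/
def tNσ {d : ℕ} (σ : base Λ k ⟶ dual Λ k) (l : (Fin d → k) →ₗ[k] k) : dualN Λ k d ⟶ dual Λ k :=
  (exists_tNσ σ l).choose ≫ plus

lemma snd_tNσ {d : ℕ} (σ : base Λ k ⟶ dual Λ k) (l : (Fin d → k) →ₗ[k] k) (x : dualN Λ k d) :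
    sndD (tNσ σ l x) = sndD (σ ((dualN Λ k d).res x)) + l (sndN x) := by
  have h₁ := congrArg TrivSqZeroExt.snd (congr_hom (exists_tNσ σ l).choose_spec.1 x)
  have h₂ := congrArg TrivSqZeroExt.snd (congr_hom (exists_tNσ σ l).choose_spec.2 x)
  exact congr (congrArg HAdd.hAdd h₁) h₂

/-- A derivation as an algebra map to the dual numbers. -/
def derAlg (D : Derivation Λ k k) : k →ₐ[Λ] DualNumber k where
  toFun z := TrivSqZeroExt.inl z + TrivSqZeroExt.inr (D z)
  map_one' := by simp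
  map_mul' y z := TrivSqZeroExt.ext (by simp) (by simp [D.leibniz, mul_comm])
  map_zero' := by simp
  map_add' y z := TrivSqZeroExt.ext (by simp) (by simp)
  commutes' r := TrivSqZeroExt.ext (by simp [TrivSqZeroExt.algebraMap_eq_inl']) (by simp [TrivSqZeroExt.algebraMap_eq_inl'])

lemma fst_derAlg (D : Derivation Λ k k) (z : k) : TrivSqZeroExt.fst (derAlg D z) = z := by simp [derAlg]

lemma snd_derAlg (D : Derivation Λ k k) (z : k) : TrivSqZeroExt.snd (derAlg D z) = D z := by simp [derAlg]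

lemma derAlg_res (D : Derivation Λ k k) :
    (TrivSqZeroExt.fstHom Λ k k).comp (derAlg D) = AlgHom.id Λ k :=
  AlgHom.ext fun z => fst_derAlg D z

/-- A derivation as a morphism from the base to `k[ε]`. -/
def derHom (D : Derivation Λ k k) : base Λ k ⟶ dual Λ k :=
  let g : k →ₐ[Λ] DualNumber k := derAlg D
  ⟨g, derAlg_res D⟩

lemma snd_derHom (D : Derivation Λ k k) (z : k) :
    sndD (derHom D z) = D z := snd_derAlg D z

variable [IsNoetherianRing Λ] [Module.Finite Λ k]

/-- Generators of `k`, those in the first family with independent differentials, those in the second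
being simple roots of polynomials with coefficients in the first. -/
lemma exists_residue_gens : ∃ (q r : ℕ) (e : Fin q → k) (z : Fin r → k)
    (p : Fin r → Polynomial (MvPolynomial (Fin q) Λ)),
    (∀ c : Fin q → k, ∃ D : Derivation Λ k k, ∀ b, D (e b) = c b) ∧
    Submodule.span Λ (Set.range z) = ⊤ ∧
    ∀ b, Polynomial.eval₂ (MvPolynomial.aeval e).toRingHom (z b) (p b) = 0 ∧
      Polynomial.eval₂ (MvPolynomial.aeval e).toRingHom (z b) (Polynomial.derivative (p b)) ≠ 0 := by
  classical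
  obtain ⟨r, z, hz⟩ := Module.Finite.exists_fin (R := Λ) (M := k)
  have hspan : (⊤ : Submodule k Ω[k⁄Λ]) ≤ Submodule.span k (Set.range (KaehlerDifferential.D Λ k)) :=
    (KaehlerDifferential.span_range_derivation Λ k).ge
  let bas := Module.Basis.ofSpan hspan
  have := FiniteDimensional.fintypeBasisIndex bas
  obtain ⟨n, bas', hbas'⟩ : ∃ (n : ℕ) (b : Module.Basis (Fin n) k Ω[k⁄Λ]),
      ∀ i, b i ∈ Set.range (KaehlerDifferential.D Λ k) :=
    ⟨_, bas.reindex (Fintype.equivFin _), fun i =>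
      Module.Basis.ofSpan_subset hspan ⟨_, (bas.reindex_apply _ i).symm⟩⟩
  choose e he using hbas'
  let Λ' := MvPolynomial (Fin n) Λ
  let _ : Algebra Λ' k := (MvPolynomial.aeval e).toRingHom.toAlgebra
  have : IsScalarTower Λ Λ' k := IsScalarTower.of_algebraMap_eq fun x =>
    ((MvPolynomial.aeval e).commutes x).symm
  have hD : ∀ x, (KaehlerDifferential.D Λ' k) x = 0 := fun x => by
    let L := ((KaehlerDifferential.D Λ' k).restrictScalars Λ).liftKaehlerDifferential
    have hL : L = 0 := bas'.ext fun i => by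
      rw [← he i, Derivation.liftKaehlerDifferential_comp_D, LinearMap.zero_apply]
      change (KaehlerDifferential.D Λ' k) (e i) = 0
      rw [show e i = algebraMap Λ' k (MvPolynomial.X i) from (MvPolynomial.aeval_X e i).symm]
      exact Derivation.map_algebraMap _ _
    have := LinearMap.congr_fun hL (KaehlerDifferential.D Λ k x)
    rwa [Derivation.liftKaehlerDifferential_comp_D] at this
  have hsub : Subsingleton Ω[k⁄Λ'] := by
    refine subsingleton_of_forall_eq 0 fun y => ?_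
    have h1 : Submodule.span k (Set.range (KaehlerDifferential.D Λ' k)) = ⊥ :=
      Submodule.span_eq_bot.mpr (by rintro _ ⟨x, rfl⟩; exact hD x)
    rw [KaehlerDifferential.span_range_derivation] at h1
    exact (Submodule.eq_bot_iff _).mp h1 y trivial
  have : Algebra.FormallyUnramified Λ' k := ⟨hsub⟩
  let K := (Algebra.ofId Λ' k).range
  have hfinK : Module.Finite (↥K) k :=
    have : Module.Finite Λ' k := Module.Finite.of_restrictScalars_finite Λ Λ' k
    Module.Finite.of_restrictScalars_finite Λ' (↥K) k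
  have : Algebra.IsIntegral (↥K) k := Algebra.IsIntegral.of_finite _ _
  have hfld : IsField ↥K :=
    isField_of_isIntegral_of_isField Subtype.val_injective (Field.toIsField k)
  let _ : Field ↥K := hfld.toField
  have : Algebra.FormallyUnramified (↥K) k := Algebra.FormallyUnramified.of_restrictScalars Λ' (↥K) k
  have : Algebra.IsSeparable (↥K) k := Algebra.FormallyUnramified.isSeparable (↥K) k
  have hsurj : Function.Surjective (algebraMap Λ' ↥K) := fun ⟨x, y, hy⟩ => ⟨y, Subtype.ext hy⟩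
  choose p hp using fun b => Polynomial.map_surjective _ hsurj (minpoly (↥K) (z b))
  refine ⟨_, r, e, z, p, fun c => ?_, hz, fun b => ?_⟩
  · refine ⟨(bas'.constr k c).compDer (KaehlerDifferential.D Λ k), fun i => ?_⟩
    change bas'.constr k c (KaehlerDifferential.D Λ k (e i)) = c i
    rw [he i]
    exact bas'.constr_basis k c i
  · have hev : ∀ s : Polynomial Λ', Polynomial.eval₂ (MvPolynomial.aeval e).toRingHom (z b) s =
        Polynomial.aeval (z b) (s.map (algebraMap Λ' ↥K)) := fun s => by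
      rw [Polynomial.aeval_map_algebraMap]
      rfl
    refine ⟨by rw [hev, hp]; exact minpoly.aeval _ _, fun h0 => ?_⟩
    rw [hev, ← Polynomial.derivative_map, hp] at h0
    exact Polynomial.Separable.aeval_derivative_ne_zero
      (Algebra.IsSeparable.isSeparable (↥K) (z b)) (minpoly.aeval _ _) h0

/-- A smooth coefficient ring whose tangent vectors are derivations of `k` plus linear forms on `k^d`. -/
lemma exists_smooth_ring (d : ℕ) : ∃ (S : CRing Λ k) (c : HomSet S.carrier S.res (dualN Λ k d)),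
    (∀ ⦃B A : Art Λ k⦄ (μ : B ⟶ A), Function.Surjective μ → ∀ φ : HomSet S.carrier S.res A,
      ∃ ψ : HomSet S.carrier S.res B, HomSet.map μ ψ = φ) ∧
    Function.Surjective c.1 ∧
    ∀ χ : HomSet S.carrier S.res (dual Λ k), ∃ σ l, HomSet.map (tNσ σ l) c = χ := by
  classical
  obtain ⟨q, r, e, z, p, hD, hz, hp⟩ := exists_residue_gens (Λ := Λ) (k := k)
  let iy : MvPolynomial (Fin q) Λ →ₐ[Λ] MvPolynomial ((Fin q ⊕ Fin r) ⊕ Fin d) Λ :=
    MvPolynomial.rename fun b => Sum.inl (Sum.inl b)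
  let g : Fin r → MvPolynomial ((Fin q ⊕ Fin r) ⊕ Fin d) Λ := fun b =>
    Polynomial.eval₂ iy.toRingHom (MvPolynomial.X (Sum.inl (Sum.inr b))) (p b)
  set J := Ideal.span (Set.range g)
  let val : ∀ {A : Art Λ k}, ((Fin q → A) × (Fin r → A) × (Fin d → A)) →
      (MvPolynomial ((Fin q ⊕ Fin r) ⊕ Fin d) Λ →ₐ[Λ] A) := fun t =>
    MvPolynomial.aeval (Sum.elim (Sum.elim t.1 t.2.1) t.2.2)
  have hval : ∀ {A : Type u} [CommRing A] [Algebra Λ A] (φ : MvPolynomial ((Fin q ⊕ Fin r) ⊕ Fin d) Λ →ₐ[Λ] A) b,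
      φ (g b) = Polynomial.eval₂ (MvPolynomial.aeval fun i => φ (MvPolynomial.X (Sum.inl (Sum.inl i)))).toRingHom
        (φ (MvPolynomial.X (Sum.inl (Sum.inr b)))) (p b) := by
    intro A _ _ φ b
    refine (Polynomial.hom_eval₂ _ _ φ.toRingHom _).trans ?_
    congr 1
    exact congrArg AlgHom.toRingHom (MvPolynomial.algHom_ext (f := φ.comp iy) fun i => by simp [iy])
  let π₀ : MvPolynomial ((Fin q ⊕ Fin r) ⊕ Fin d) Λ →ₐ[Λ] k :=
    MvPolynomial.aeval (Sum.elim (Sum.elim e z) 0)
  have hπ₀ : ∀ a ∈ J, π₀ a = 0 := fun a ha => by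
    refine (Ideal.span_le (I := RingHom.ker π₀.toRingHom)).mpr ?_ ha
    rintro _ ⟨b, rfl⟩
    refine (hval π₀ b).trans ?_
    simp only [π₀, MvPolynomial.aeval_X, Sum.elim_inl, Sum.elim_inr]
    exact (hp b).1
  let P := MvPolynomial ((Fin q ⊕ Fin r) ⊕ Fin d) Λ ⧸ J
  let π : P →ₐ[Λ] k := Ideal.Quotient.liftₐ J π₀ hπ₀
  let Xp : (Fin q ⊕ Fin r) ⊕ Fin d → P := fun i => Ideal.Quotient.mk J (MvPolynomial.X i)
  have hπX : ∀ i, π (Xp i) = Sum.elim (Sum.elim e z) 0 i := fun i => MvPolynomial.aeval_X _ i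
  -- roots are unique
  have huniq : ∀ (A : Art Λ k) (y : Fin q → A) (_ : ∀ i, A.res (y i) = e i) (b : Fin r),
      ∃! w : A, A.res w = z b ∧ Polynomial.eval₂ (MvPolynomial.aeval y).toRingHom w (p b) = 0 := by
    intro A y hy b
    let _ : Algebra (MvPolynomial (Fin q) Λ) A := (MvPolynomial.aeval y).toRingHom.toAlgebra
    have hres : A.res.toRingHom.comp (MvPolynomial.aeval y).toRingHom = (MvPolynomial.aeval e).toRingHom :=
      congrArg AlgHom.toRingHom (MvPolynomial.algHom_ext (f := A.res.comp (MvPolynomial.aeval y))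
        fun i => by simp [hy])
    obtain ⟨x, hx⟩ := A.res_surjective (z b)
    have hev : ∀ s, A.res (Polynomial.aeval x s) = Polynomial.eval₂ (MvPolynomial.aeval e).toRingHom (z b) s :=
      fun s => by
        rw [← hres, ← hx]
        exact Polynomial.hom_eval₂ s _ A.res.toRingHom x
    have h1 : IsNilpotent (Polynomial.aeval x (p b)) := isNilpotent_of_res ((hev _).trans (hp b).1)
    have h2 : IsUnit (Polynomial.aeval x (Polynomial.derivative (p b))) := by
      by_contra h
      exact (hp b).2 ((hev _).symm.trans ((Art.mem_maximalIdeal_iff A _).mp ((IsLocalRing.mem_maximalIdeal _).mpr h)))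
    obtain ⟨w, ⟨hw₁, hw₂⟩, hw₃⟩ := Polynomial.existsUnique_nilpotent_sub_and_aeval_eq_zero h1 h2
    refine ⟨w, ⟨?_, hw₂⟩, fun u hu => hw₃ u ⟨isNilpotent_of_res (by rw [map_sub, hx, hu.1, sub_self]), hu.2⟩⟩
    have := (hw₁.map A.res).eq_zero
    rw [map_sub, hx, sub_eq_zero] at this
    exact this.symm
  have hroot : ∀ {A : Art Λ k} (φ : HomSet P π A) (b : Fin r),
      Polynomial.eval₂ (MvPolynomial.aeval fun i => φ.1 (Xp (Sum.inl (Sum.inl i)))).toRingHom
        (φ.1 (Xp (Sum.inl (Sum.inr b)))) (p b) = 0 := fun φ b => by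
    refine (hval (φ.1.comp (Ideal.Quotient.mkₐ Λ J)) b).symm.trans ?_
    change φ.1 (Ideal.Quotient.mk J (g b)) = 0
    rw [Ideal.Quotient.eq_zero_iff_mem.mpr (show g b ∈ J from Ideal.subset_span ⟨b, rfl⟩), map_zero]
  have hphom : ∀ {A : Art Λ k} (φ ψ : HomSet P π A),
      (∀ i, φ.1 (Xp (Sum.inl (Sum.inl i))) = ψ.1 (Xp (Sum.inl (Sum.inl i)))) →
      (∀ i, φ.1 (Xp (Sum.inr i)) = ψ.1 (Xp (Sum.inr i))) → φ = ψ := by
    intro A φ ψ h₁ h₂
    refine Subtype.ext (Ideal.Quotient.algHom_ext Λ (MvPolynomial.algHom_ext fun i => ?_))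
    rcases i with (i | b) | i
    · exact h₁ i
    · refine (huniq A (fun i => φ.1 (Xp (Sum.inl (Sum.inl i))))
        (fun i => (DFunLike.congr_fun φ.2 _).trans (hπX _)) b).unique
        ⟨(DFunLike.congr_fun φ.2 _).trans (hπX _), hroot φ b⟩
        ⟨(DFunLike.congr_fun ψ.2 _).trans (hπX _), ?_⟩
      rw [show (fun i => φ.1 (Xp (Sum.inl (Sum.inl i)))) = fun i => ψ.1 (Xp (Sum.inl (Sum.inl i))) from funext h₁]
      exact hroot ψ b
    · exact h₂ i
  have hmk : ∀ {A : Art Λ k} (y : Fin q → A) (x : Fin d → A), (∀ i, A.res (y i) = e i) →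
      (∀ i, A.res (x i) = 0) → ∃ φ : HomSet P π A,
      (∀ i, φ.1 (Xp (Sum.inl (Sum.inl i))) = y i) ∧ ∀ i, φ.1 (Xp (Sum.inr i)) = x i := by
    intro A y x hy hx
    choose w hw using fun b => (huniq A y hy b).exists
    let φ₀ := val (A := A) (y, w, x)
    have hk : ∀ a ∈ J, φ₀ a = 0 := fun a ha => by
      refine (Ideal.span_le (I := RingHom.ker φ₀.toRingHom)).mpr ?_ ha
      rintro _ ⟨b, rfl⟩
      refine (hval φ₀ b).trans ?_
      simp only [φ₀, val, MvPolynomial.aeval_X, Sum.elim_inl, Sum.elim_inr]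
      exact (hw b).2
    refine ⟨⟨Ideal.Quotient.liftₐ J φ₀ hk, Ideal.Quotient.algHom_ext Λ (MvPolynomial.algHom_ext fun i => ?_)⟩,
      fun i => MvPolynomial.aeval_X _ _, fun i => MvPolynomial.aeval_X _ _⟩
    change A.res (φ₀ (MvPolynomial.X i)) = π₀ (MvPolynomial.X i)
    rw [MvPolynomial.aeval_X, MvPolynomial.aeval_X]
    rcases i with (i | b) | i
    exacts [hy i, (hw b).1, hx i]
  have hπ : Function.Surjective π := fun c => by
    have hc : c ∈ Submodule.span Λ (Set.range z) := hz ▸ Submodule.mem_top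
    obtain ⟨a, rfl⟩ := (Submodule.mem_span_range_iff_exists_fun Λ).mp hc
    exact ⟨∑ b, a b • Xp (Sum.inl (Sum.inr b)), by simp [map_sum, hπX]⟩
  obtain ⟨S, ι, hι, hu⟩ := exists_completion P π hπ (IsNoetherian.noetherian _)
  obtain ⟨c₀, hc₀y, hc₀x⟩ := hmk (A := dualN Λ k d)
    (fun i => (TrivSqZeroExt.inl (e i) : TrivSqZeroExt k (Fin d → k)))
    (fun i => (TrivSqZeroExt.inr (Pi.single i (1 : k) : Fin d → k) : TrivSqZeroExt k (Fin d → k)))
    (fun i => rfl) (fun i => rfl)
  obtain ⟨c, hc⟩ := (hu _).2 c₀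
  refine ⟨S, c, completion_lift ι hι hu fun B A μ hμ φ => ?_, fun t => ?_, fun χ => ?_⟩
  · choose y hy using fun i => hμ (φ.1 (Xp (Sum.inl (Sum.inl i))))
    choose x hx using fun i => hμ (φ.1 (Xp (Sum.inr i)))
    obtain ⟨ψ, hψy, hψx⟩ := hmk y x
      (fun i => by rw [← Art.res_app μ, hy]; exact (DFunLike.congr_fun φ.2 _).trans (hπX _))
      (fun i => by rw [← Art.res_app μ, hx]; exact (DFunLike.congr_fun φ.2 _).trans (hπX _))
    exact ⟨ψ, hphom _ _ (fun i => (congrArg μ (hψy i)).trans (hy i)) fun i => (congrArg μ (hψx i)).trans (hx i)⟩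
  · let cA : S.carrier →ₐ[Λ] TrivSqZeroExt k (Fin d → k) := c.1
    suffices key : ∀ t : TrivSqZeroExt k (Fin d → k), ∃ u, cA u = t from key t
    intro t
    obtain ⟨v, hv⟩ := hπ (TrivSqZeroExt.fst t)
    have hcv : TrivSqZeroExt.fst (cA (ι v)) = π v :=
      (homSet_res c (ι v)).trans (DFunLike.congr_fun hι v)
    let w : Fin d → k := TrivSqZeroExt.snd t - TrivSqZeroExt.snd (cA (ι v))
    choose u hu' using fun i => hπ (w i)
    refine ⟨ι v + ∑ i, ι (u i * Xp (Sum.inr i)), ?_⟩
    have hterm : ∀ i, cA (ι (u i * Xp (Sum.inr i))) =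
        (TrivSqZeroExt.inr (Pi.single i (w i)) : TrivSqZeroExt k (Fin d → k)) := fun i => by
      rw [map_mul, map_mul,
        show cA (ι (Xp (Sum.inr i))) = (TrivSqZeroExt.inr (Pi.single i 1) : TrivSqZeroExt k (Fin d → k)) from
          (DFunLike.congr_fun (congrArg Subtype.val hc) _).trans (hc₀x i)]
      refine TrivSqZeroExt.ext ((TrivSqZeroExt.fst_mul _ _).trans (by simp)) ((TrivSqZeroExt.snd_mul _ _).trans ?_)
      rw [show TrivSqZeroExt.fst (cA (ι (u i))) = w i from
        ((homSet_res c _).trans (DFunLike.congr_fun hι _)).trans (hu' i)]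
      simp [← Pi.single_smul']
    rw [map_add, map_sum, Finset.sum_congr rfl fun i _ => hterm i]
    refine TrivSqZeroExt.ext ?_ ?_
    · refine (TrivSqZeroExt.fst_add _ _).trans ?_
      rw [hcv, hv, TrivSqZeroExt.fst_sum]
      simp
    · refine (TrivSqZeroExt.snd_add _ _).trans ?_
      rw [TrivSqZeroExt.snd_sum]
      simp only [TrivSqZeroExt.snd_inr, Finset.univ_sum_single, w]
      exact add_sub_cancel _ _
  · let χ₀ := compHomSet ι hι χ
    obtain ⟨D, hDe⟩ := hD fun i => TrivSqZeroExt.snd (show DualNumber k from χ₀.1 (Xp (Sum.inl (Sum.inl i))))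
    let l : (Fin d → k) →ₗ[k] k := (Pi.basisFun k (Fin d)).constr k fun i =>
      TrivSqZeroExt.snd (show DualNumber k from χ₀.1 (Xp (Sum.inr i)))
    refine ⟨derHom D, l, (hu _).1 (hphom _ _ (fun i => ?_) fun i => ?_)⟩
    all_goals
      refine TrivSqZeroExt.ext ((Art.res_app (tNσ (derHom D) l) _).trans ?_) ((snd_tNσ (derHom D) l _).trans ?_)
    · exact ((homSet_res c _).trans (DFunLike.congr_fun hι _)).trans (DFunLike.congr_fun χ₀.2 _).symm
    · have h : c.1 (ι (Xp (Sum.inl (Sum.inl i)))) = (TrivSqZeroExt.inl (e i) : TrivSqZeroExt k (Fin d → k)) :=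
        (DFunLike.congr_fun (congrArg Subtype.val hc) _).trans (hc₀y i)
      refine Eq.trans ?_ (hDe i)
      erw [h, snd_derHom]
      change D (e i) + l 0 = D (e i)
      rw [map_zero, add_zero]
    · exact ((homSet_res c _).trans (DFunLike.congr_fun hι _)).trans (DFunLike.congr_fun χ₀.2 _).symm
    · have h : c.1 (ι (Xp (Sum.inr i))) = (TrivSqZeroExt.inr (Pi.single i 1) : TrivSqZeroExt k (Fin d → k)) :=
        (DFunLike.congr_fun (congrArg Subtype.val hc) _).trans (hc₀x i)
      erw [h, snd_derHom]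
      change D 0 + l (Pi.single i 1) = _
      rw [map_zero, zero_add]
      rw [← Pi.basisFun_apply (R := k)]
      exact (Pi.basisFun k (Fin d)).constr_basis k _ i

end Groth.Agent.ArtFunLib
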