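import Groth.Agent.ArtFunLib.Completion

/-!
# Completed tensor products of coefficient rings
-/

set_option autoImplicit false

universe u

open CategoryTheory ArtFun ArtFun.Art ArtFun.CRing
open scoped TensorProduct

noncomputable section

namespace Groth.Agent.ArtFunLib

variable {Λ k : Type u} [CommRing Λ] [Field k] [Algebra Λ k] [IsNoetherianRing Λ] [Module.Finite Λ k]

/-- The augmentation of a tensor product. -/
def tensorRes (S₁ S₂ : CRing Λ k) : S₁.carrier ⊗[Λ] S₂.carrier →ₐ[Λ] k :=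
  Algebra.TensorProduct.productMap S₁.res S₂.res

lemma tensorRes_fg (S₁ S₂ : CRing Λ k) : (RingHom.ker (tensorRes S₁ S₂)).FG := by
  classical
  obtain ⟨q, e, he⟩ := Module.Finite.exists_fin (R := Λ) (M := k)
  choose a ha using fun b => S₁.res_surjective (e b)
  choose a' ha' using fun b => S₂.res_surjective (e b)
  let i₁ : S₁.carrier →ₐ[Λ] S₁.carrier ⊗[Λ] S₂.carrier := Algebra.TensorProduct.includeLeft
  let i₂ : S₂.carrier →ₐ[Λ] S₁.carrier ⊗[Λ] S₂.carrier := Algebra.TensorProduct.includeRight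
  let M := (IsLocalRing.maximalIdeal S₁.carrier).map i₁.toRingHom ⊔
    (IsLocalRing.maximalIdeal S₂.carrier).map i₂.toRingHom ⊔
    Ideal.span (Set.range fun b => i₁ (a b) - i₂ (a' b))
  have hMfg : M.FG := Submodule.FG.sup (Submodule.FG.sup (Ideal.FG.map (IsNoetherian.noetherian _) _)
    (Ideal.FG.map (IsNoetherian.noetherian _) _)) (Submodule.fg_span (Set.finite_range _))
  have h₂ : ∀ y : S₂.carrier, ∃ x : S₁.carrier, i₂ y - i₁ x ∈ M := fun y => by
    have hy : S₂.res y ∈ Submodule.span Λ (Set.range e) := he ▸ Submodule.mem_top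
    obtain ⟨c, hc⟩ := (Submodule.mem_span_range_iff_exists_fun Λ).mp hy
    refine ⟨∑ b, c b • a b, ?_⟩
    rw [show i₂ y - i₁ (∑ b, c b • a b) = i₂ (y - ∑ b, c b • a' b) - ∑ b, c b • (i₁ (a b) - i₂ (a' b)) by
      simp only [map_sub, map_sum, map_smul, smul_sub, Finset.sum_sub_distrib]; abel]
    refine sub_mem (Ideal.mem_sup_left (Ideal.mem_sup_right (Ideal.mem_map_of_mem i₂.toRingHom ?_))) (Ideal.sum_mem _ fun b _ => ?_)
    · rw [CRing.mem_maximalIdeal_iff, map_sub, map_sum]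
      simp only [map_smul, ha', hc, sub_self]
    · rw [Algebra.smul_def]
      exact Ideal.mem_sup_right (Ideal.mul_mem_left _ _ (Ideal.subset_span ⟨b, rfl⟩))
  have key : ∀ t, ∃ x : S₁.carrier, t - i₁ x ∈ M := fun t => by
    induction t using TensorProduct.induction_on with
    | zero => exact ⟨0, by simp⟩
    | tmul x y =>
      obtain ⟨x', hx'⟩ := h₂ y
      refine ⟨x * x', ?_⟩
      rw [show x ⊗ₜ[Λ] y = i₁ x * i₂ y by simp [i₁, i₂], map_mul, ← mul_sub]
      exact Ideal.mul_mem_left _ _ hx'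
    | add t u ht hu =>
      obtain ⟨x, hx⟩ := ht
      obtain ⟨x', hx'⟩ := hu
      refine ⟨x + x', ?_⟩
      rw [map_add, add_sub_add_comm]
      exact add_mem hx hx'
  have hπ₁ : ∀ x, tensorRes S₁ S₂ (i₁ x) = S₁.res x := fun x =>
    DFunLike.congr_fun (Algebra.TensorProduct.productMap_left _ _) x
  have hπ₂ : ∀ y, tensorRes S₁ S₂ (i₂ y) = S₂.res y := fun y =>
    DFunLike.congr_fun (Algebra.TensorProduct.productMap_right _ _) y
  have hle : M ≤ RingHom.ker (tensorRes S₁ S₂) :=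
    sup_le (sup_le (Ideal.map_le_iff_le_comap.mpr fun x hx => (hπ₁ x).trans ((CRing.mem_maximalIdeal_iff S₁ x).mp hx))
      (Ideal.map_le_iff_le_comap.mpr fun y hy => (hπ₂ y).trans ((CRing.mem_maximalIdeal_iff S₂ y).mp hy)))
      (Ideal.span_le.mpr (by
        rintro _ ⟨b, rfl⟩
        rw [SetLike.mem_coe, RingHom.mem_ker, map_sub, hπ₁, hπ₂, ha, ha', sub_self]))
  suffices RingHom.ker (tensorRes S₁ S₂) = M by rw [this]; exact hMfg
  refine le_antisymm (fun t ht => ?_) hle
  obtain ⟨x, hx⟩ := key t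
  have hx0 : S₁.res x = 0 := by
    have := hle hx
    rw [RingHom.mem_ker, map_sub, RingHom.mem_ker.mp ht, hπ₁, zero_sub, neg_eq_zero] at this
    exact this
  exact (sub_add_cancel t (i₁ x)) ▸ add_mem hx (Ideal.mem_sup_left (Ideal.mem_sup_left
    (Ideal.mem_map_of_mem i₁.toRingHom ((CRing.mem_maximalIdeal_iff S₁ x).mpr hx0))))

/-- A completed tensor product modulo relations, with its universal property. -/
lemma exists_pushout_of (S₁ S₂ : CRing Λ k) (J : Ideal (S₁.carrier ⊗[Λ] S₂.carrier))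
    (hJ : ∀ x ∈ J, tensorRes S₁ S₂ x = 0) :
    ∃ (P : CRing Λ k) (i₁ : S₁.carrier →ₐ[Λ] P.carrier) (i₂ : S₂.carrier →ₐ[Λ] P.carrier),
      P.res.comp i₁ = S₁.res ∧ P.res.comp i₂ = S₂.res ∧
      (∀ x ∈ J, Algebra.TensorProduct.productMap i₁ i₂ x = 0) ∧
      ∀ (T : CRing Λ k) (g₁ : S₁.carrier →ₐ[Λ] T.carrier) (g₂ : S₂.carrier →ₐ[Λ] T.carrier),
        T.res.comp g₁ = S₁.res → T.res.comp g₂ = S₂.res →
        (∀ x ∈ J, Algebra.TensorProduct.productMap g₁ g₂ x = 0) →
          ∃! h : P.carrier →ₐ[Λ] T.carrier, T.res.comp h = P.res ∧ h.comp i₁ = g₁ ∧ h.comp i₂ = g₂ := by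
  let q := Ideal.Quotient.mkₐ Λ J
  let π := Ideal.Quotient.liftₐ J (tensorRes S₁ S₂) hJ
  have hπ : Function.Surjective π := fun c => by
    obtain ⟨x, hx⟩ := S₁.res_surjective c
    exact ⟨q (Algebra.TensorProduct.includeLeft (S := Λ) x),
      (DFunLike.congr_fun (Algebra.TensorProduct.productMap_left _ _) x).trans hx⟩
  have hfg : (RingHom.ker π).FG := by
    have : RingHom.ker π = (RingHom.ker (tensorRes S₁ S₂)).map q.toRingHom := by
      refine le_antisymm (fun t ht => ?_) (Ideal.map_le_iff_le_comap.mpr fun x hx => hx)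
      obtain ⟨x, rfl⟩ := Ideal.Quotient.mk_surjective t
      exact Ideal.mem_map_of_mem _ (show x ∈ RingHom.ker (tensorRes S₁ S₂) from ht)
    rw [this]
    exact (tensorRes_fg S₁ S₂).map _
  obtain ⟨P, ι, hι, hu⟩ := exists_completion _ π hπ hfg
  let i₁ : S₁.carrier →ₐ[Λ] P.carrier := (ι.comp q).comp Algebra.TensorProduct.includeLeft
  let i₂ : S₂.carrier →ₐ[Λ] P.carrier := (ι.comp q).comp Algebra.TensorProduct.includeRight
  have hpm : Algebra.TensorProduct.productMap i₁ i₂ = ι.comp q :=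
    Algebra.TensorProduct.ext' fun x y => by
      rw [Algebra.TensorProduct.productMap_apply_tmul]
      simp only [i₁, i₂, AlgHom.comp_apply, ← map_mul]
      simp
  refine ⟨P, i₁, i₂, AlgHom.ext fun x => ?_, AlgHom.ext fun y => ?_, fun x hx => ?_, fun T g₁ g₂ hg₁ hg₂ hg => ?_⟩
  · exact (DFunLike.congr_fun hι _).trans (DFunLike.congr_fun (Algebra.TensorProduct.productMap_left _ _) x)
  · exact (DFunLike.congr_fun hι _).trans (DFunLike.congr_fun (Algebra.TensorProduct.productMap_right _ _) y)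
  · rw [hpm]
    change ι (Ideal.Quotient.mk J x) = 0
    rw [Ideal.Quotient.eq_zero_iff_mem.mpr hx, map_zero]
  let g := Ideal.Quotient.liftₐ J (Algebra.TensorProduct.productMap g₁ g₂) hg
  have hgπ : T.res.comp g = π := Ideal.Quotient.algHom_ext Λ (Algebra.TensorProduct.ext' fun x y => by
    change T.res (Algebra.TensorProduct.productMap g₁ g₂ (x ⊗ₜ y)) = tensorRes S₁ S₂ (x ⊗ₜ y)
    rw [tensorRes, Algebra.TensorProduct.productMap_apply_tmul, Algebra.TensorProduct.productMap_apply_tmul,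
      map_mul, ← hg₁, ← hg₂]
    rfl)
  have hiff : ∀ h : P.carrier →ₐ[Λ] T.carrier, h.comp ι = g ↔ h.comp i₁ = g₁ ∧ h.comp i₂ = g₂ := by
    intro h
    constructor
    · intro he
      exact ⟨AlgHom.ext fun x => (DFunLike.congr_fun he _).trans
          (DFunLike.congr_fun (Algebra.TensorProduct.productMap_left g₁ g₂) x),
        AlgHom.ext fun y => (DFunLike.congr_fun he _).trans
          (DFunLike.congr_fun (Algebra.TensorProduct.productMap_right g₁ g₂) y)⟩
    · rintro ⟨h₁, h₂⟩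
      refine Ideal.Quotient.algHom_ext Λ (Algebra.TensorProduct.ext' fun x y => ?_)
      change h (ι (q (x ⊗ₜ y))) = Algebra.TensorProduct.productMap g₁ g₂ (x ⊗ₜ y)
      rw [← AlgHom.comp_apply ι q, ← hpm, Algebra.TensorProduct.productMap_apply_tmul,
        Algebra.TensorProduct.productMap_apply_tmul, map_mul, ← h₁, ← h₂]
      rfl
  obtain ⟨h, ⟨hh, hhι⟩, huniq⟩ := existsUnique_completion_hom ι hι hu T g hgπ
  exact ⟨h, ⟨hh, (hiff h).mp hhι⟩, fun h' hh' => huniq h' ⟨hh'.1, (hiff h').mpr hh'.2⟩⟩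

end Groth.Agent.ArtFunLib
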