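import Groth.Agent.ArtFunLib.Trunc

/-!
# The case of a separable residue field: simple roots and sections
-/

set_option autoImplicit false

universe u

open CategoryTheory ArtFun ArtFun.Art Polynomial

noncomputable section

namespace Groth.Agent.ArtFunLib

variable {Λ k : Type u} [CommRing Λ] [Field k] [Algebra Λ k]
variable [Algebra.IsSeparable (↥(algebraMap Λ k).range) k]

/-- Every residue class has a canonical lift in every object: a root of a fixed polynomial. -/
lemma exists_unique_root (c : k) : ∃ p : Λ[X], ∀ A : Art Λ k,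
    ∃! r : A, A.res r = c ∧ aeval r p = 0 := by
  have hsep : (minpoly (↥(algebraMap Λ k).range) c).Separable := Algebra.IsSeparable.isSeparable _ c
  obtain ⟨p, hp⟩ := Polynomial.map_surjective _ (algebraMap Λ k).rangeRestrict_surjective
    (minpoly (↥(algebraMap Λ k).range) c)
  have hcomp : (algebraMap (↥(algebraMap Λ k).range) k).comp (algebraMap Λ k).rangeRestrict =
      algebraMap Λ k := rfl
  have hpc : aeval c p = 0 := by
    rw [aeval_def, ← hcomp, ← eval₂_map, hp]
    exact minpoly.aeval _ c
  have hpd : aeval c (derivative p) ≠ 0 := by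
    intro h0
    rw [aeval_def, ← hcomp, ← eval₂_map, ← derivative_map, hp] at h0
    obtain ⟨a, b, hab⟩ := hsep
    have h1 := congrArg (aeval c) hab
    rw [map_add, map_mul, map_mul, minpoly.aeval, map_one, mul_zero, zero_add, aeval_def, aeval_def,
      h0, mul_zero] at h1
    exact zero_ne_one h1
  refine ⟨p, fun A => ?_⟩
  obtain ⟨x, hx⟩ := A.res_surjective c
  have h1 : IsNilpotent (aeval x p) :=
    isNilpotent_of_res (by rw [← Polynomial.aeval_algHom_apply, hx, hpc])
  have h2 : IsUnit (aeval x (derivative p)) := by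
    by_contra h
    have := (Art.mem_maximalIdeal_iff A _).mp ((IsLocalRing.mem_maximalIdeal _).mpr h)
    rw [← Polynomial.aeval_algHom_apply, hx] at this
    exact hpd this
  obtain ⟨r, ⟨hr₁, hr₂⟩, hr₃⟩ := existsUnique_nilpotent_sub_and_aeval_eq_zero h1 h2
  refine ⟨r, ⟨?_, hr₂⟩, fun y hy => hr₃ y ⟨isNilpotent_of_res (by rw [map_sub, hx, hy.1, sub_self]), hy.2⟩⟩
  have := (hr₁.map A.res).eq_zero
  rw [map_sub, hx, sub_eq_zero] at this
  exact this.symm

/-- An object killed by the kernel of `Λ → k` contains the residue field. -/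
lemma exists_section [Module.Finite Λ k] (E : Art Λ k)
    (hE : Ideal.map (algebraMap Λ E) (RingHom.ker (algebraMap Λ k)) = ⊥) :
    Nonempty (base Λ k ⟶ E) := by
  set K := (algebraMap Λ k).range
  have hint : Algebra.IsIntegral (↥K) k := ⟨fun x => Algebra.IsSeparable.isIntegral (↥K) x⟩
  have hfld : IsField ↥K :=
    isField_of_isIntegral_of_isField Subtype.val_injective (Field.toIsField k)
  let _ : Field ↥K := hfld.toField
  have hker : RingHom.ker (algebraMap Λ k).rangeRestrict ≤ RingHom.ker (algebraMap Λ E) := fun r hr => by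
    rw [RingHom.ker_rangeRestrict] at hr
    exact hE.le (Ideal.mem_map_of_mem _ hr)
  let φ : ↥K →+* E := RingHom.liftOfSurjective (algebraMap Λ k).rangeRestrict
    (algebraMap Λ k).rangeRestrict_surjective ⟨algebraMap Λ E, hker⟩
  have hφ : ∀ r, φ ((algebraMap Λ k).rangeRestrict r) = algebraMap Λ E r :=
    RingHom.liftOfSurjective_comp_apply _ _ _
  let _ : Algebra ↥K E := φ.toAlgebra
  let resK : E →ₐ[↥K] k :=
    { toRingHom := E.res.toRingHom
      commutes' := fun c => by
        obtain ⟨r, rfl⟩ := (algebraMap Λ k).rangeRestrict_surjective c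
        show E.res (φ _) = _
        rw [hφ, AlgHom.commutes]
        rfl }
  have : Algebra.FormallyEtale (↥K) k := Algebra.FormallyEtale.of_isSeparable (↥K) k
  let s : k →ₐ[↥K] E := Algebra.FormallySmooth.liftOfSurjective (AlgHom.id (↥K) k) resK E.res_surjective
    (by
      obtain ⟨n, hn⟩ := isNilpotent_maximalIdeal E
      refine ⟨n, le_bot_iff.mp ?_⟩
      calc RingHom.ker (resK : E →+* k) ^ n ≤ IsLocalRing.maximalIdeal E ^ n :=
            Ideal.pow_right_mono (fun x hx => (Art.mem_maximalIdeal_iff E x).mpr hx) n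
        _ = ⊥ := hn)
  refine ⟨⟨{ s.toRingHom with commutes' := fun r => ?_ }, AlgHom.ext fun c => ?_⟩⟩
  · show s ((algebraMap Λ k) r) = algebraMap Λ E r
    rw [← hφ]
    exact s.commutes ((algebraMap Λ k).rangeRestrict r)
  · exact DFunLike.congr_fun (Algebra.FormallySmooth.comp_liftOfSurjective (AlgHom.id (↥K) k) resK
      E.res_surjective _) c

end Groth.Agent.ArtFunLib
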