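import Groth.Agent.ArtFunLib.Criteria

/-!
# Split square-zero objects and the vector space structure on the tangent space
-/

set_option autoImplicit false

universe u v

open CategoryTheory ArtFun ArtFun.Art

noncomputable section

namespace Groth.Agent.ArtFunLib

variable {Λ k : Type u} [CommRing Λ] [Field k] [Algebra Λ k]
variable {F : Art Λ k ⥤ Type v} {A B C D : Art Λ k}

/-- A small quotient of a split square-zero object splits off a copy of `k[ε]`. -/
lemma exists_split_small {s : D ⟶ C} (hs : IsSmallExt s) (σ : base Λ k ⟶ D)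
    (hD : IsLocalRing.maximalIdeal D ^ 2 = ⊥) :
    ∃ g : D ⟶ dual Λ k, IsFibreProd s g (toBase C) (toBase (dual Λ k)) := by
  obtain ⟨t, ht⟩ := exists_gen hs
  let algk : Algebra k D := σ.toAlgHom.toRingHom.toAlgebra
  have hσ : ∀ c : k, algebraMap k D c = σ c := fun c => rfl
  have hres : ∀ c : k, D.res (algebraMap k D c) = c := fun c => Art.res_app σ c
  have hts : s t = 0 := (ht ▸ Ideal.mem_span_singleton_self t : t ∈ RingHom.ker s.toAlgHom)
  have htm : D.res t = 0 := by rw [← Art.res_app s, hts, map_zero]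
  have ht0 : t ≠ 0 := fun h => hs.2.1 (by rw [ht, h, Ideal.span_singleton_eq_bot])
  obtain ⟨l₀, hl₀t, hl₀1⟩ := Submodule.exists_dual_map_eq_bot_of_notMem
    (p := Submodule.span k ({1} : Set D)) (x := t) (by
      intro h
      obtain ⟨c, hc⟩ := Submodule.mem_span_singleton.mp h
      rw [Algebra.smul_def, mul_one] at hc
      rw [← hc, hres] at htm
      exact ht0 (by rw [← hc, htm, map_zero])) inferInstance
  let l : D →ₗ[k] k := (l₀ t)⁻¹ • l₀
  have hlt : l t = 1 := by simp [l, hl₀t]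
  have hlc : ∀ c : k, l (algebraMap k D c) = 0 := fun c => by
    have h1 : l₀ 1 = 0 := by
      have : l₀ 1 ∈ (Submodule.span k ({1} : Set D)).map l₀ :=
        Submodule.mem_map_of_mem (Submodule.mem_span_singleton_self 1)
      rwa [hl₀1, Submodule.mem_bot] at this
    rw [Algebra.algebraMap_eq_smul_one, map_smul]
    simp [l, h1]
  let g : D →ₐ[Λ] DualNumber k :=
    { toFun := fun x => (D.res x, l x)
      map_one' := TrivSqZeroExt.ext (by simp) ((map_one (algebraMap k D)) ▸ hlc 1)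
      map_zero' := TrivSqZeroExt.ext (by simp) (map_zero l)
      map_add' := fun x y => TrivSqZeroExt.ext (by simp <;> rfl) (map_add l x y)
      map_mul' := fun x y => TrivSqZeroExt.ext (by simp <;> rfl) <| by
        change l (x * y) = D.res x • l y + MulOpposite.op (D.res y) • l x
        have hmn : (x - algebraMap k D (D.res x)) * (y - algebraMap k D (D.res y)) = 0 := by
          have := Ideal.mul_mem_mul
            ((Art.mem_maximalIdeal_iff D _).mpr (show D.res (x - algebraMap k D (D.res x)) = 0 by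
              rw [map_sub, hres, sub_self]))
            ((Art.mem_maximalIdeal_iff D _).mpr (show D.res (y - algebraMap k D (D.res y)) = 0 by
              rw [map_sub, hres, sub_self]))
          rwa [← sq, hD, Ideal.mem_bot] at this
        have hxy : x * y = D.res x • y + D.res y • x - algebraMap k D (D.res x * D.res y) := by
          rw [Algebra.smul_def, Algebra.smul_def, map_mul]
          linear_combination hmn
        rw [hxy, map_sub, map_add, map_smul, map_smul, hlc, sub_zero, op_smul_eq_mul, smul_eq_mul,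
          smul_eq_mul]
        ring
      commutes' := fun r => TrivSqZeroExt.ext (by simp <;> rfl) <| by
        change l (algebraMap Λ D r) = (algebraMap Λ (DualNumber k) r).snd
        rw [TrivSqZeroExt.algebraMap_eq_inl', TrivSqZeroExt.snd_inl, ← σ.toAlgHom.commutes r]
        exact hlc _ }
  let G : D ⟶ dual Λ k := ⟨g, AlgHom.ext fun x => rfl⟩
  refine ⟨G, (eq_toBase _).trans (eq_toBase _).symm, fun x y h₁ h₂ => ?_, fun c d hcd => ?_⟩
  · obtain ⟨b, hb⟩ := exists_mul_gen ht (x := x - y) (by rw [map_sub, h₁, sub_self])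
    have hb' : b * t = algebraMap k D (D.res b) * t := (mul_gen_eq_iff hs ht _ _).mpr (hres _).symm
    rw [hb', ← Algebra.smul_def] at hb
    have : l x = l y := congrArg TrivSqZeroExt.snd h₂
    rw [← sub_eq_zero, ← map_sub, ← hb, map_smul, hlt, smul_eq_mul, mul_one] at this
    rw [← sub_eq_zero, ← hb, this, zero_smul]
  · obtain ⟨x, hx⟩ := hs.1 c
    refine ⟨x + (TrivSqZeroExt.snd (show DualNumber k from d) - l x) • t, ?_,
      TrivSqZeroExt.ext ?_ ?_⟩
    · rw [map_add, Algebra.smul_def, map_mul, hts, mul_zero, add_zero, hx]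
    · change D.res (x + _) = _
      rw [map_add, Algebra.smul_def, map_mul, htm, mul_zero, add_zero, ← Art.res_app s, hx]
      exact hcd
    · change l (x + _) = _
      rw [map_add, map_smul, hlt, smul_eq_mul, mul_one, add_sub_cancel]

section Finite

variable [IsNoetherianRing Λ] [Module.Finite Λ k]

/-- The condition `Heps` extends to split square-zero objects. -/
lemma heps_split (hF : Heps F) {E : Art Λ k} (hσ : Nonempty (base Λ k ⟶ E))
    (hE : IsLocalRing.maximalIdeal E ^ 2 = ⊥) ⦃B A : Art Λ k⦄ (p' : B ⟶ A) (p'' : B ⟶ E)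
    (h : IsFibreProd p' p'' (toBase A) (toBase E)) : Function.Bijective (cmp F h) := by
  revert B A
  refine surj_induction (P := fun C D μ => Nonempty (base Λ k ⟶ D) →
      IsLocalRing.maximalIdeal D ^ 2 = ⊥ →
      (∀ ⦃B A : Art Λ k⦄ (p' : B ⟶ A) (p'' : B ⟶ C) (h : IsFibreProd p' p'' (toBase A) (toBase C)),
        Function.Bijective (cmp F h)) →
      ∀ ⦃B A : Art Λ k⦄ (p' : B ⟶ A) (p'' : B ⟶ D) (h : IsFibreProd p' p'' (toBase A) (toBase D)),
        Function.Bijective (cmp F h)) ?_ ?_ (toBase E) (toBase_surjective E) hσ hE ?_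
  · intro C D e he _ _ ih B A p' p'' h
    have h' : IsFibreProd p' (p'' ≫ e) (toBase A) (toBase C) :=
      ⟨(eq_toBase _).trans (eq_toBase _).symm, fun b b' h₁ h₂ => h.inj b b' h₁ (he.1 h₂),
        fun a c hac => by
          obtain ⟨d, rfl⟩ := he.2 c
          obtain ⟨b, hb₁, hb₂⟩ := h.surj a d (hac.trans ((congr_hom (eq_toBase (e ≫ toBase C)) d)))
          exact ⟨b, hb₁, congrArg e hb₂⟩⟩
    refine ⟨cmp_injective fun z z' h₁ h₂ => eq_of_inj (ih _ _ h').1 h₁
      (by rw [map_comp', map_comp', h₂]), cmp_surjective fun x y hxy => ?_⟩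
    obtain ⟨z, hz₁, hz₂⟩ := exists_of_surj (ih _ _ h').2 x (F.map e y)
      (by rw [hxy, ← map_comp', eq_toBase (e ≫ toBase C)])
    exact ⟨z, hz₁, (map_bijective (F := F) he).1 (by rw [← map_comp', hz₂])⟩
  · intro C D C' q s hq hs ih hσ hD hC
    obtain ⟨σ⟩ := hσ
    have hC'2 : IsLocalRing.maximalIdeal C' ^ 2 = ⊥ := by
      rw [sq]
      refine le_bot_iff.mp (Ideal.mul_le.mpr fun x hx y hy => ?_)
      obtain ⟨a, rfl⟩ := hq x
      obtain ⟨b, rfl⟩ := hq y
      rw [Art.mem_maximalIdeal_iff, Art.res_app] at hx hy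
      have := Ideal.mul_mem_mul ((Art.mem_maximalIdeal_iff D a).mpr hx)
        ((Art.mem_maximalIdeal_iff D b).mpr hy)
      rw [← sq, hD, Ideal.mem_bot] at this
      rw [Ideal.mem_bot, ← map_mul, this, map_zero]
    obtain ⟨g, hg⟩ := exists_split_small hs (σ ≫ q) hC'2
    refine ih ⟨σ⟩ hD fun B A p' p'' h => ?_
    obtain ⟨Q, d₁, d₂, hQ⟩ := exists_fibreProd (toBase A) (toBase C) (toBase_surjective C)
    have h' : IsFibreProd p' p'' (toBase A) (s ≫ toBase C) := by
      rwa [eq_toBase (s ≫ toBase C)]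
    obtain ⟨r, hr₁, hr₂, hR⟩ := exists_paste h' hQ
    have hB : IsFibreProd r (p'' ≫ g) (toBase Q) (toBase (dual Λ k)) := by
      refine ⟨(eq_toBase _).trans (eq_toBase _).symm, fun b b' h₁ h₂ => ?_, fun d e hde => ?_⟩
      · refine hR.inj b b' h₁ (hg.inj _ _ ?_ h₂)
        rw [← hR.w_apply, ← hR.w_apply, h₁]
      · obtain ⟨c, hc₁, hc₂⟩ := hg.surj (d₂ d) e
          ((Art.res_app d₂ d).trans hde)
        obtain ⟨b, hb₁, hb₂⟩ := hR.surj d c hc₁.symm
        exact ⟨b, hb₁, (congrArg g hb₂).trans hc₂⟩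
    refine ⟨cmp_injective fun z z' h₁ h₂ => ?_, cmp_surjective fun x y hxy => ?_⟩
    · refine eq_of_inj (hF r (p'' ≫ g) hB).1 (eq_of_inj (hC d₁ d₂ hQ).1 ?_ ?_) ?_
      · rw [← map_comp', ← map_comp', hr₁, h₁]
      · rw [← map_comp', ← map_comp', hr₂, map_comp', map_comp', h₂]
      · rw [map_comp', map_comp', h₂]
    · obtain ⟨d, hd₁, hd₂⟩ := exists_of_surj (hC d₁ d₂ hQ).2 x (F.map s y)
        (by rw [← map_comp', eq_toBase (s ≫ toBase C), hxy])
      obtain ⟨z, hz₁, hz₂⟩ := exists_of_surj (hF r (p'' ≫ g) hB).2 d (F.map g y)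
        (by rw [← map_comp', eq_toBase (g ≫ toBase _), ← eq_toBase (d₁ ≫ toBase A),
          map_comp', hd₁, hxy])
      refine ⟨z, by rw [← hr₁, map_comp', hz₁, hd₁], eq_of_inj (hF s g hg).1 ?_ ?_⟩
      · rw [← map_comp', ← hr₂, map_comp', hz₁, hd₂]
      · rw [← map_comp', hz₂]
  · intro B A p' p'' h
    have hid : toBase (base Λ k) = 𝟙 _ := (eq_toBase _).symm
    have hb : Function.Bijective (toBase (base Λ k)) := by
      rw [hid]; exact Function.bijective_id
    refine ⟨cmp_injective fun z z' h₁ _ =>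
      (map_bijective (F := F) (fibreProd_bijective_fst h hb)).1 h₁, cmp_surjective fun x y hxy => ?_⟩
    obtain ⟨z, rfl⟩ := (map_bijective (F := F) (fibreProd_bijective_fst h hb)).2 x
    refine ⟨z, rfl, (map_bijective (F := F) hb).1 ?_⟩
    rw [← hxy, map_eq_of_comp F h.w z]

end Finite

/-! ## The tangent space -/

section Tangent

variable (Λ k)

/-- `k ⊕ k³` with square zero. -/
def dual3 : Art Λ k :=
  { carrier := TrivSqZeroExt k (k × (k × k))
    isLocalRing := isLocalRing_tsze k (k × (k × k))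
    isArtinianRing := isArtinianRing_tsze k (k × (k × k))
    res := TrivSqZeroExt.fstHom Λ k (k × (k × k))
    res_surjective := fun a => ⟨TrivSqZeroExt.inl a, rfl⟩ }

variable {Λ k}

/-- linear forms on `k³` as maps to `k[ε]`. -/
def t3 (l : k × (k × k) →ₗ[k] k) : dual3 Λ k ⟶ dual Λ k := ⟨tszeMap l, AlgHom.ext fun _ => rfl⟩

/-- linear forms on `k²` as maps to `k[ε]`. -/
def t2 (l : k × k →ₗ[k] k) : dual2 Λ k ⟶ dual Λ k := ⟨tszeMap l, AlgHom.ext fun _ => rfl⟩

/-- linear forms on `k` as maps to `k[ε]`. -/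
def t1 (l : k →ₗ[k] k) : dual Λ k ⟶ dual Λ k := ⟨tszeMap l, AlgHom.ext fun _ => rfl⟩

/-- The projection `k³ → k²`. -/
def t32 : dual3 Λ k ⟶ dual2 Λ k := ⟨tszeMap (LinearMap.snd k k (k × k)), AlgHom.ext fun _ => rfl⟩

lemma isFibreProd_dual3 : IsFibreProd (t32 : dual3 Λ k ⟶ _) (t3 (LinearMap.fst k k (k × k)))
    (toBase (dual2 Λ k)) (toBase (dual Λ k)) where
  w := (eq_toBase _).trans (eq_toBase _).symm
  inj b₁ b₂ h₁ h₂ := by
    have e₁ : b₁.fst = b₂.fst := by have e := congrArg TrivSqZeroExt.fst h₁; exact e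
    have e₂ : b₁.snd.2 = b₂.snd.2 := by have e := congrArg TrivSqZeroExt.snd h₁; exact e
    have e₃ : b₁.snd.1 = b₂.snd.1 := by have e := congrArg TrivSqZeroExt.snd h₂; exact e
    exact TrivSqZeroExt.ext e₁ (Prod.ext e₃ e₂)
  surj a' a'' h := by
    have h' : a'.fst = a''.fst := h
    exact ⟨(a'.fst, (a''.snd, a'.snd)), TrivSqZeroExt.ext rfl rfl, TrivSqZeroExt.ext h' rfl⟩

variable (h0 : H0 F) (h2 : Heps F)

include h0 h2 in
lemma exists_pair (x y : F.obj (dual Λ k)) :
    ∃ z : F.obj (dual2 Λ k), F.map pr₁ z = x ∧ F.map pr₂ z = y :=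
  exists_of_surj (h2 _ _ isFibreProd_dual2).2 x y (H0.eq h0 _ _)

/-- The sum on `t_F`. -/
def tAdd (x y : F.obj (dual Λ k)) : F.obj (dual Λ k) := F.map plus (exists_pair h0 h2 x y).choose

lemma tAdd_map {E : Art Λ k} (c : E ⟶ dual2 Λ k) (z : F.obj E) :
    tAdd h0 h2 (F.map (c ≫ pr₁) z) (F.map (c ≫ pr₂) z) = F.map (c ≫ plus) z := by
  rw [map_comp', map_comp', map_comp']
  exact congrArg (F.map plus) (eq_of_inj (h2 _ _ isFibreProd_dual2).1
    (exists_pair h0 h2 _ _).choose_spec.1 (exists_pair h0 h2 _ _).choose_spec.2)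

lemma tAdd_t2 (l l' : k × k →ₗ[k] k) (z : F.obj (dual2 Λ k)) :
    tAdd h0 h2 (F.map (t2 l) z) (F.map (t2 l') z) = F.map (t2 (l + l')) z :=
  tAdd_map h0 h2 (⟨tszeMap (l.prod l'), AlgHom.ext fun _ => rfl⟩ : dual2 Λ k ⟶ dual2 Λ k) z

lemma tAdd_t3 (l l' : k × (k × k) →ₗ[k] k) (z : F.obj (dual3 Λ k)) :
    tAdd h0 h2 (F.map (t3 l) z) (F.map (t3 l') z) = F.map (t3 (l + l')) z :=
  tAdd_map h0 h2 (⟨tszeMap (l.prod l'), AlgHom.ext fun _ => rfl⟩ : dual3 Λ k ⟶ dual2 Λ k) z

lemma tAdd_t1 (l l' : k →ₗ[k] k) (z : F.obj (dual Λ k)) :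
    tAdd h0 h2 (F.map (t1 l) z) (F.map (t1 l') z) = F.map (t1 (l + l')) z :=
  tAdd_map h0 h2 (⟨tszeMap (l.prod l'), AlgHom.ext fun _ => rfl⟩ : dual Λ k ⟶ dual2 Λ k) z

lemma t1_id : (t1 LinearMap.id : dual Λ k ⟶ dual Λ k) = 𝟙 _ :=
  hom_ext' fun x => TrivSqZeroExt.ext rfl rfl

lemma t1_zero : (t1 0 : dual Λ k ⟶ dual Λ k) = toBase _ ≫ baseToDual :=
  hom_ext' fun x => TrivSqZeroExt.ext rfl rfl

lemma scale_comp (a b : k) : (scale b : dual Λ k ⟶ _) ≫ scale a = scale (a * b) :=
  hom_ext' fun x => TrivSqZeroExt.ext rfl (mul_assoc a b _).symm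

/-- The zero of `t_F`. -/
def tZero : F.obj (dual Λ k) := F.map baseToDual h0.1.some

include h0 in
lemma map_t1_zero (x : F.obj (dual Λ k)) : F.map (t1 0) x = tZero h0 := by
  rw [t1_zero, map_comp', tZero, H0.eq h0 (F.map (toBase _) x) h0.1.some]

/-- The group structure on `t_F`. -/
def tGroup : AddCommGroup (F.obj (dual Λ k)) :=
  letI : Add (F.obj (dual Λ k)) := ⟨tAdd h0 h2⟩
  letI : Zero (F.obj (dual Λ k)) := ⟨tZero h0⟩
  letI : Neg (F.obj (dual Λ k)) := ⟨fun x => F.map (t1 (-LinearMap.id)) x⟩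
  have hz : ∀ x : F.obj (dual Λ k), tAdd h0 h2 (tZero h0) x = x := fun x => by
    conv_rhs => rw [← map_id' F x, ← t1_id, ← zero_add LinearMap.id]
    rw [← tAdd_t1 h0 h2, map_t1_zero h0, t1_id, map_id']
  have hn : ∀ x : F.obj (dual Λ k), tAdd h0 h2 (F.map (t1 (-LinearMap.id)) x) x = tZero h0 := fun x => by
    conv_lhs => arg 4; rw [← map_id' F x, ← t1_id]
    rw [tAdd_t1, neg_add_cancel, map_t1_zero h0]
  have hcomm : ∀ x y : F.obj (dual Λ k), tAdd h0 h2 x y = tAdd h0 h2 y x := fun x y => by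
    obtain ⟨z, rfl, rfl⟩ := exists_pair h0 h2 x y
    change tAdd h0 h2 (F.map (t2 (LinearMap.fst k k k)) z) (F.map (t2 (LinearMap.snd k k k)) z) =
      tAdd h0 h2 (F.map (t2 (LinearMap.snd k k k)) z) (F.map (t2 (LinearMap.fst k k k)) z)
    rw [tAdd_t2, tAdd_t2, add_comm]
  { add := tAdd h0 h2
    zero := tZero h0
    neg := fun x => F.map (t1 (-LinearMap.id)) x
    nsmul := nsmulRec
    zsmul := zsmulRec
    zero_add := hz
    add_zero := fun x => (hcomm _ _).trans (hz x)
    neg_add_cancel := hn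
    add_comm := hcomm
    add_assoc := fun x y w => by
      obtain ⟨z₂, hy, hw⟩ := exists_pair h0 h2 y w
      obtain ⟨z, hz₁, hz₂⟩ := exists_of_surj (h2 _ _ isFibreProd_dual3).2 z₂ x (H0.eq h0 _ _)
      have ey : F.map (t3 (LinearMap.fst k k k ∘ₗ LinearMap.snd k k (k × k))) z = y := by
        rw [← hy, ← hz₁, ← map_comp']; rfl
      have ew : F.map (t3 (LinearMap.snd k k k ∘ₗ LinearMap.snd k k (k × k))) z = w := by
        rw [← hw, ← hz₁, ← map_comp']; rfl
      show tAdd h0 h2 (tAdd h0 h2 x y) w = tAdd h0 h2 x (tAdd h0 h2 y w)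
      rw [← ey, ← ew, ← hz₂, tAdd_t3, tAdd_t3, tAdd_t3, tAdd_t3, add_assoc] }

include h0 h2 in
lemma exists_tangentStr : Nonempty (TangentStr F) := by
  letI G := tGroup h0 h2
  have hadd : ∀ x y : F.obj (dual Λ k), x + y = tAdd h0 h2 x y := fun _ _ => rfl
  have hzero : (0 : F.obj (dual Λ k)) = tZero h0 := rfl
  let M : Module k (F.obj (dual Λ k)) :=
    { smul := fun c x => F.map (scale c) x
      one_smul := fun x => by
        show F.map (t1 ((1 : k) • LinearMap.id)) x = x
        rw [one_smul, t1_id, map_id']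
      mul_smul := fun a b x => by
        show F.map (scale (a * b)) x = F.map (scale a) (F.map (scale b) x)
        rw [← map_comp', scale_comp]
      smul_zero := fun a => by
        show F.map (scale a) (tZero h0) = tZero h0
        rw [tZero, ← map_comp', show (baseToDual : base Λ k ⟶ _) ≫ scale a = baseToDual from
          hom_ext' fun c => TrivSqZeroExt.ext rfl (mul_zero a)]
      smul_add := fun a x y => by
        obtain ⟨z, rfl, rfl⟩ := exists_pair h0 h2 x y
        show F.map (scale a) (tAdd h0 h2 _ _) = tAdd h0 h2 (F.map (scale a) _) (F.map (scale a) _)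
        rw [← map_comp', ← map_comp']
        change F.map (scale a) (tAdd h0 h2 (F.map (t2 (LinearMap.fst k k k)) z)
          (F.map (t2 (LinearMap.snd k k k)) z)) = tAdd h0 h2 (F.map (t2 (a • LinearMap.fst k k k)) z)
          (F.map (t2 (a • LinearMap.snd k k k)) z)
        rw [tAdd_t2, tAdd_t2, ← smul_add, ← map_comp']
        rfl
      add_smul := fun a b x => by
        show F.map (scale (a + b)) x = tAdd h0 h2 (F.map (scale a) x) (F.map (scale b) x)
        change F.map (t1 ((a + b) • LinearMap.id)) x =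
          tAdd h0 h2 (F.map (t1 (a • LinearMap.id)) x) (F.map (t1 (b • LinearMap.id)) x)
        rw [tAdd_t1, add_smul]
      zero_smul := fun x => by
        show F.map (t1 ((0 : k) • LinearMap.id)) x = tZero h0
        rw [zero_smul, map_t1_zero h0] }
  refine ⟨{ addCommGroup := G, module := M, smul_eq := fun c x => rfl, add_eq := fun z => ?_ }⟩
  change tAdd h0 h2 (F.map (t2 (LinearMap.fst k k k)) z) (F.map (t2 (LinearMap.snd k k k)) z) = _
  rw [tAdd_t2]
  rfl

end Tangent

end Groth.Agent.ArtFunLib
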