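import Groth.Agent.ArtFunLib.Criteria
import Groth.Agent.ArtFunLib.Split
import Groth.Prelude.Def_W4sfdMinVersal

/-!
# Truncations, formal elements, surjectivity criteria
-/

set_option autoImplicit false

universe u v

open CategoryTheory ArtFun ArtFun.Art ArtFun.CRing

noncomputable section

namespace Groth.Agent.ArtFunLib

variable {Λ k : Type u} [CommRing Λ] [Field k] [Algebra Λ k]
variable {F : Art Λ k ⥤ Type v} {A B C D : Art Λ k} {R S : CRing Λ k}

lemma trunc_hom_ext {n : ℕ} {f g : R.trunc n ⟶ A}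
    (h : HomSet.map f (R.truncHom n) = HomSet.map g (R.truncHom n)) : f = g := by
  refine hom_ext' fun x => ?_
  obtain ⟨a, rfl⟩ := Ideal.Quotient.mk_surjective x
  exact DFunLike.congr_fun (congrArg Subtype.val h) a

lemma homSet_res (φ : HomSet R.carrier R.res A) (a : R.carrier) : A.res (φ.1 a) = R.res a :=
  DFunLike.congr_fun φ.2 a

lemma homSet_mpow (φ : HomSet R.carrier R.res A) (n : ℕ) {a : R.carrier} (ha : a ∈ mpow R n) :
    φ.1 a ∈ IsLocalRing.maximalIdeal A ^ (n + 1) := by
  have h : (IsLocalRing.maximalIdeal R.carrier).map φ.1 ≤ IsLocalRing.maximalIdeal A :=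
    Ideal.map_le_iff_le_comap.mpr fun x hx => by
      rw [Ideal.mem_comap, Art.mem_maximalIdeal_iff]
      rw [CRing.mem_maximalIdeal_iff] at hx
      exact (homSet_res φ x).trans hx
  exact Ideal.pow_right_mono h (n + 1) (by rw [← Ideal.map_pow]; exact Ideal.mem_map_of_mem _ ha)

lemma exists_trunc_factor (φ : HomSet R.carrier R.res A) :
    ∃ N : ℕ, ∀ n, N ≤ n → ∀ a ∈ mpow R n, φ.1 a = 0 := by
  obtain ⟨N, hN⟩ := isNilpotent_maximalIdeal A
  refine ⟨N, fun n hn a ha => ?_⟩
  have := Ideal.pow_le_pow_right (show N ≤ n + 1 by omega) (homSet_mpow φ n ha)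
  rwa [hN, Ideal.mem_bot] at this

/-- A map out of `R` killing `m^(n+1)` factors through the truncation. -/
def truncLift (φ : HomSet R.carrier R.res A) (n : ℕ) (h : ∀ a ∈ mpow R n, φ.1 a = 0) :
    R.trunc n ⟶ A :=
  ⟨Ideal.Quotient.liftₐ (mpow R n) φ.1 h, by
    apply AlgHom.ext
    intro x
    obtain ⟨a, rfl⟩ := Ideal.Quotient.mk_surjective x
    exact homSet_res φ a⟩

lemma truncLift_truncHom (φ : HomSet R.carrier R.res A) (n : ℕ) (h : ∀ a ∈ mpow R n, φ.1 a = 0) :
    HomSet.map (truncLift φ n h) (R.truncHom n) = φ :=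
  Subtype.ext (AlgHom.ext fun _ => rfl)

/-- The transition `R/m^(m+1) → R/m^(n+1)`. -/
def truncTrans (R : CRing Λ k) {n m : ℕ} (h : n ≤ m) : R.trunc m ⟶ R.trunc n :=
  truncLift (R.truncHom n) m fun _ ha =>
    Ideal.Quotient.eq_zero_iff_mem.mpr (Ideal.pow_le_pow_right (by omega) ha)

lemma truncTrans_truncHom {n m : ℕ} (h : n ≤ m) :
    HomSet.map (truncTrans R h) (R.truncHom m) = R.truncHom n :=
  truncLift_truncHom _ _ _

lemma truncTrans_surjective {n m : ℕ} (h : n ≤ m) : Function.Surjective (truncTrans R h) := fun x => by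
  obtain ⟨a, rfl⟩ := Ideal.Quotient.mk_surjective x
  exact ⟨Ideal.Quotient.mk _ a, rfl⟩

lemma truncMap_surjective (n : ℕ) : Function.Surjective (R.truncMap n) := fun x => by
  obtain ⟨a, rfl⟩ := Ideal.Quotient.mk_surjective x
  exact ⟨Ideal.Quotient.mk _ a, rfl⟩

lemma formalElt_compat (u : FormalElt F R) {n m : ℕ} (h : n ≤ m) :
    F.map (truncTrans R h) (u.elt m) = u.elt n := by
  induction m, h using Nat.le_induction with
  | base =>
    rw [show truncTrans R le_rfl = 𝟙 (R.trunc n) from
      trunc_hom_ext ((truncTrans_truncHom _).trans (homSet_map_id _).symm), map_id']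
  | succ m hm ih =>
    rw [show truncTrans R (hm.trans m.le_succ) = R.truncMap m ≫ truncTrans R hm from
      trunc_hom_ext (by rw [truncTrans_truncHom, homSet_map_comp, truncMap_truncHom, truncTrans_truncHom]),
      map_comp', u.compat, ih]

/-- Yoneda for formal elements. -/
lemma toFormalElt_bijective (R : CRing Λ k) (F : Art Λ k ⥤ Type v) :
    Function.Bijective (fun ξ : Family R.carrier R.res F => ξ.toFormalElt) := by
  constructor
  · intro ξ ξ' h
    have hn : ∀ n, ξ.app _ (R.truncHom n) = ξ'.app _ (R.truncHom n) := fun n =>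
      congrArg (fun u : FormalElt F R => u.elt n) h
    have happ : ξ.app = ξ'.app := funext fun A => funext fun φ => by
      obtain ⟨N, hN⟩ := exists_trunc_factor φ
      rw [← truncLift_truncHom φ N (hN N le_rfl), ξ.natural, ξ'.natural, hn]
    cases ξ
    cases ξ'
    cases happ
    rfl
  · intro u
    have hind : ∀ (A : Art Λ k) (φ : HomSet R.carrier R.res A) (n m : ℕ)
        (hn : ∀ a ∈ mpow R n, φ.1 a = 0) (hm : ∀ a ∈ mpow R m, φ.1 a = 0), n ≤ m →
        F.map (truncLift φ m hm) (u.elt m) = F.map (truncLift φ n hn) (u.elt n) := by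
      intro A φ n m hn hm hle
      rw [show truncLift φ m hm = truncTrans R hle ≫ truncLift φ n hn from
        trunc_hom_ext (by rw [truncLift_truncHom, homSet_map_comp, truncTrans_truncHom, truncLift_truncHom]),
        map_comp', formalElt_compat]
    let app : ∀ A, HomSet R.carrier R.res A → F.obj A := fun A φ =>
      F.map (truncLift φ _ ((exists_trunc_factor φ).choose_spec _ le_rfl)) (u.elt _)
    have hany : ∀ A φ n (hn : ∀ a ∈ mpow R n, φ.1 a = 0),
        app A φ = F.map (truncLift φ n hn) (u.elt n) := fun A φ n hn => by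
      rcases le_total n (exists_trunc_factor φ).choose with hle | hle
      · exact hind A φ _ _ hn _ hle
      · exact (hind A φ _ _ _ hn hle).symm
    refine ⟨⟨app, fun {A B} f φ => ?_⟩, FormalElt.ext' fun n => ?_⟩
    · obtain ⟨N, hN⟩ := exists_trunc_factor φ
      rw [hany A φ N (hN N le_rfl), hany B (HomSet.map f φ) N (fun a ha => by
        change f (φ.1 a) = 0
        rw [hN N le_rfl a ha, map_zero]), ← map_comp']
      exact congrArg (fun g => F.map g (u.elt N)) (trunc_hom_ext (by
        rw [truncLift_truncHom, homSet_map_comp, truncLift_truncHom]))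
    · change app _ (R.truncHom n) = u.elt n
      rw [hany _ _ n (fun a ha => Ideal.Quotient.eq_zero_iff_mem.mpr ha)]
      exact (congrArg (fun g => F.map g (u.elt n)) (trunc_hom_ext
        ((truncLift_truncHom _ _ _).trans (homSet_map_id _).symm))).trans (map_id' F _)

/-- Compatible maps into the truncations give a map into the complete ring. -/
lemma exists_algHom_of_trunc {T : Type u} [CommRing T] [Algebra Λ T] {resT : T →ₐ[Λ] k}
    (φ : ∀ n, HomSet T resT (R.trunc n)) (hφ : ∀ n, HomSet.map (R.truncMap n) (φ (n + 1)) = φ n) :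
    ∃ g : T →ₐ[Λ] R.carrier, R.res.comp g = resT ∧
      ∀ n x, Ideal.Quotient.mk (mpow R n) (g x) = (φ n).1 x := by
  have := R.isAdicComplete
  set I := IsLocalRing.maximalIdeal R.carrier
  have hcomp : ∀ {n m : ℕ} (h : n ≤ m), HomSet.map (truncTrans R h) (φ m) = φ n := by
    intro n m h
    induction m, h using Nat.le_induction with
    | base =>
      rw [show truncTrans R le_rfl = 𝟙 (R.trunc n) from
        trunc_hom_ext ((truncTrans_truncHom _).trans (homSet_map_id _).symm), homSet_map_id]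
    | succ m hm ih =>
      rw [show truncTrans R (hm.trans m.le_succ) = R.truncMap m ≫ truncTrans R hm from
        trunc_hom_ext (by rw [truncTrans_truncHom, homSet_map_comp, truncMap_truncHom, truncTrans_truncHom]),
        homSet_map_comp, hφ, ih]
  let f : ∀ n : ℕ, T →ₐ[Λ] R.carrier ⧸ I ^ n := fun n =>
    (Ideal.Quotient.factorₐ Λ (Ideal.pow_le_pow_right n.le_succ : mpow R n ≤ I ^ n)).comp (φ n).1
  have fval : ∀ n x a, Ideal.Quotient.mk (mpow R n) a = (φ n).1 x →
      f n x = Ideal.Quotient.mk (I ^ n) a := fun n x a ha => by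
    change Ideal.Quotient.factorₐ Λ (Ideal.pow_le_pow_right n.le_succ : mpow R n ≤ I ^ n) ((φ n).1 x) = _
    rw [← ha]
    rfl
  have hf : ∀ {m n : ℕ} (hle : m ≤ n),
      (Ideal.Quotient.factorₐ Λ (Ideal.pow_le_pow_right hle)).comp (f n) = f m := by
    intro m n hle
    apply AlgHom.ext
    intro x
    obtain ⟨a, ha⟩ := Ideal.Quotient.mk_surjective ((φ n).1 x)
    have ha' : Ideal.Quotient.mk (mpow R m) a = (φ m).1 x := by
      rw [← hcomp hle]
      change _ = (truncTrans R hle) ((φ n).1 x)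
      rw [← ha]
      rfl
    rw [AlgHom.comp_apply, fval n x a ha, fval m x a ha']
    rfl
  refine ⟨IsAdicComplete.liftAlgHom I f hf, ?_, fun n x => ?_⟩
  · apply AlgHom.ext
    intro x
    obtain ⟨a, ha⟩ := Ideal.Quotient.mk_surjective ((φ 1).1 x)
    have h3 := Ideal.Quotient.eq.mp
      ((IsAdicComplete.mk_liftAlgHom I f hf 1 x).trans (fval 1 x a ha))
    rw [pow_one, CRing.mem_maximalIdeal_iff, map_sub, sub_eq_zero] at h3
    refine h3.trans ?_
    rw [← DFunLike.congr_fun (φ 1).2 x]
    change R.res a = (R.trunc 1).res ((φ 1).1 x)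
    rw [← ha]
    rfl
  · obtain ⟨a, ha⟩ := Ideal.Quotient.mk_surjective ((φ (n + 1)).1 x)
    refine ((IsAdicComplete.mk_liftAlgHom I f hf (n + 1) x).trans (fval (n + 1) x a ha)).trans ?_
    rw [← hφ n]
    change _ = R.truncMap n ((φ (n + 1)).1 x)
    rw [← ha]
    rfl

/-- A map of objects surjective on cotangent spaces is surjective. -/
lemma surjective_of_cotangent (f : A ⟶ B)
    (h : IsLocalRing.maximalIdeal B ≤
      Ideal.map f.toAlgHom (IsLocalRing.maximalIdeal A) ⊔ IsLocalRing.maximalIdeal B ^ 2) :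
    Function.Surjective f := by
  set mA := IsLocalRing.maximalIdeal A
  set mB := IsLocalRing.maximalIdeal B
  have hle : Ideal.map f.toAlgHom mA = mB := by
    refine le_antisymm (Ideal.map_le_iff_le_comap.mpr fun a ha => map_mem_maximalIdeal f ha) ?_
    refine Submodule.le_of_le_smul_of_le_jacobson_bot (I := mB) (IsNoetherian.noetherian _)
      (IsLocalRing.jacobson_eq_maximalIdeal ⊥ bot_ne_top).ge ?_
    rwa [smul_eq_mul, ← sq]
  have hstep : ∀ n, ∀ b : B, ∃ a : A, b - f a ∈ mB ^ n := by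
    intro n
    induction n with
    | zero => exact fun b => ⟨0, by rw [pow_zero, Ideal.one_eq_top]; trivial⟩
    | succ n ih =>
      intro b
      obtain ⟨a, ha⟩ := ih b
      suffices key : ∀ y ∈ mB ^ n, ∃ x : A, y - f x ∈ mB ^ (n + 1) by
        obtain ⟨x, hx⟩ := key _ ha
        exact ⟨a + x, by rwa [map_add, ← sub_sub]⟩
      intro y hy
      rw [← hle, ← Ideal.map_pow] at hy
      induction hy using Submodule.span_induction with
      | mem z hz => obtain ⟨x, -, rfl⟩ := hz; exact ⟨x, by rw [sub_self]; exact zero_mem _⟩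
      | zero => exact ⟨0, by rw [map_zero, sub_self]; exact zero_mem _⟩
      | add z w _ _ hz hw =>
        obtain ⟨x, hx⟩ := hz
        obtain ⟨x', hx'⟩ := hw
        exact ⟨x + x', by rw [map_add, add_sub_add_comm]; exact add_mem hx hx'⟩
      | smul c z hz hih =>
        obtain ⟨x, hx⟩ := hih
        obtain ⟨e, he⟩ := A.res_surjective (B.res c)
        have hc : c - f e ∈ mB := (Art.mem_maximalIdeal_iff B _).mpr (by
          rw [map_sub, Art.res_app, he, sub_self])
        have hz' : z ∈ mB ^ n := by rwa [← hle, ← Ideal.map_pow]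
        refine ⟨e * x, ?_⟩
        rw [smul_eq_mul, map_mul, show c * z - f e * f x = (c - f e) * z + f e * (z - f x) by ring]
        exact add_mem (by rw [pow_succ']; exact Ideal.mul_mem_mul hc hz') (Ideal.mul_mem_left _ _ hx)
  intro b
  obtain ⟨n, hn⟩ := isNilpotent_maximalIdeal B
  obtain ⟨a, ha⟩ := hstep n b
  rw [hn, Ideal.mem_bot, sub_eq_zero] at ha
  exact ⟨a, ha.symm⟩

/-- Morphisms to `k[ε]` detect surjectivity onto a square-zero object. -/
lemma surjective_of_dual_separating (g : C ⟶ D) (hD : IsLocalRing.maximalIdeal D ^ 2 = ⊥)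
    (h : ∀ d d' : D ⟶ dual Λ k, g ≫ d = g ≫ d' → d = d') : Function.Surjective g := by
  apply surjective_of_cotangent
  rw [hD, sup_bot_eq]
  by_contra hne
  set W := Ideal.map g.toAlgHom (IsLocalRing.maximalIdeal C)
  have hW : W ≤ IsLocalRing.maximalIdeal D :=
    Ideal.map_le_iff_le_comap.mpr fun a ha => map_mem_maximalIdeal g ha
  let q := quotMk D W hW
  obtain ⟨a, ha, haW⟩ := SetLike.not_le_iff_exists.mp hne
  have hker : RingHom.ker (toBase (quot D W hW)).toAlgHom ≠ ⊥ := fun hbot => haW (by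
    have h1 : q a ∈ RingHom.ker (toBase (quot D W hW)).toAlgHom := by
      rw [RingHom.mem_ker]
      exact (Art.res_app q a).trans ((Art.mem_maximalIdeal_iff D a).mp ha)
    rw [hbot, Ideal.mem_bot] at h1
    exact Ideal.Quotient.eq_zero_iff_mem.mp h1)
  obtain ⟨E, q₂, s, -, hq₂, hs, -⟩ := exists_factor _ (toBase_surjective _) hker
  have hk : RingHom.ker (toBase C).toAlgHom ≤ RingHom.ker (g ≫ q ≫ q₂).toAlgHom := fun x hx => by
    have hx' : g x ∈ W := Ideal.mem_map_of_mem _ ((Art.mem_maximalIdeal_iff C x).mpr hx)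
    change q₂ (q (g x)) = 0
    rw [show q (g x) = 0 from Ideal.Quotient.eq_zero_iff_mem.mpr hx', map_zero]
  let σ := factor (toBase C) (toBase_surjective C) (g ≫ q ≫ q₂) hk
  have hE : IsLocalRing.maximalIdeal E ^ 2 = ⊥ := by
    rw [sq]
    refine le_bot_iff.mp (Ideal.mul_le.mpr fun x hx y hy => ?_)
    obtain ⟨x, rfl⟩ := hq₂.comp (quotMk_surjective D W hW) x
    obtain ⟨y, rfl⟩ := hq₂.comp (quotMk_surjective D W hW) y
    simp only [Function.comp_apply, Art.mem_maximalIdeal_iff, Art.res_app] at hx hy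
    have := Ideal.mul_mem_mul ((Art.mem_maximalIdeal_iff D x).mpr hx)
      ((Art.mem_maximalIdeal_iff D y).mpr hy)
    rw [← sq, hD, Ideal.mem_bot] at this
    simp only [Function.comp_apply, Ideal.mem_bot, ← map_mul, this, map_zero]
  obtain ⟨d₀, hd₀⟩ := exists_split_small hs σ hE
  have hagree : g ≫ (q ≫ q₂ ≫ d₀) = g ≫ (q ≫ q₂ ≫ s ≫ σ ≫ d₀) := by
    have e₁ : g ≫ q ≫ q₂ = toBase C ≫ σ := (comp_factor _ _ _ _).symm
    have e₂ : g ≫ q ≫ q₂ ≫ s = toBase C := eq_toBase _
    simp only [← Category.assoc] at e₁ e₂ ⊢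
    rw [e₂, e₁]
  obtain ⟨t, ht⟩ := exists_gen hs
  have hst : s t = 0 := (ht ▸ Ideal.mem_span_singleton_self t : t ∈ RingHom.ker s.toAlgHom)
  obtain ⟨x, hx⟩ := hq₂.comp (quotMk_surjective D W hW) t
  have := congr_hom (h _ _ hagree) x
  change d₀ (q₂ (q x)) = d₀ (σ (s (q₂ (q x)))) at this
  rw [show q₂ (q x) = t from hx, hst, map_zero, map_zero] at this
  apply hs.2.1
  rw [ht, Ideal.span_singleton_eq_bot]
  exact hd₀.inj t 0 (by rw [hst, map_zero]) (by rw [this, map_zero])

/-- A map of complete rings surjective modulo the square of the maximal ideal is surjective. -/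
lemma surjective_of_trunc (f : R.carrier →ₐ[Λ] S.carrier) (hf : S.res.comp f = R.res)
    (h : Function.Surjective (truncMapOfHom f hf 1)) : Function.Surjective f := by
  set I := IsLocalRing.maximalIdeal R.carrier
  set mS := IsLocalRing.maximalIdeal S.carrier
  have hmap : I.map f.toRingHom = mS := by
    refine le_antisymm (Ideal.map_le_iff_le_comap.mpr fun a ha => maximalIdeal_le_comap f hf ha) ?_
    refine Submodule.le_of_le_smul_of_le_jacobson_bot (I := mS) (IsNoetherian.noetherian _)
      (IsLocalRing.jacobson_eq_maximalIdeal ⊥ bot_ne_top).ge fun y hy => ?_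
    obtain ⟨x, hx⟩ := h (Ideal.Quotient.mk _ y)
    obtain ⟨a, rfl⟩ := Ideal.Quotient.mk_surjective x
    have h1 : f a - y ∈ mpow S 1 := Ideal.Quotient.eq.mp hx
    have ha : a ∈ I := by
      rw [CRing.mem_maximalIdeal_iff, ← res_comp_apply f hf]
      have h2 : S.res (f a - y) = 0 := (CRing.mem_maximalIdeal_iff S _).mp (mpow_le S 1 h1)
      rw [map_sub, (CRing.mem_maximalIdeal_iff S y).mp hy, sub_zero] at h2
      exact h2
    rw [smul_eq_mul, ← sq, ← sub_sub_cancel (f a) y]
    exact Submodule.sub_mem_sup (Ideal.mem_map_of_mem _ ha) h1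
  have := R.isAdicComplete
  have := S.isAdicComplete
  have hh : IsHausdorff (I.map f.toRingHom) S.carrier := by
    rw [hmap]
    infer_instance
  refine surjective_of_mk_map_comp_surjective (I := I) f.toRingHom fun y => ?_
  obtain ⟨y, rfl⟩ := Ideal.Quotient.mk_surjective y
  obtain ⟨a, ha⟩ := R.res_surjective (S.res y)
  refine ⟨a, Ideal.Quotient.eq.mpr ?_⟩
  rw [hmap, CRing.mem_maximalIdeal_iff, map_sub]
  change S.res (f a) - S.res y = 0
  rw [res_comp_apply f hf, ha, sub_self]

/-- A finite nilpotent thickening of an object, as an object. -/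
lemma exists_art_over [IsNoetherianRing Λ] [Module.Finite Λ k] (T : Type u) [CommRing T] [Algebra Λ T]
    [Module.Finite Λ T] (pr : T →ₐ[Λ] D) (hpr : Function.Surjective pr)
    (hnil : ∀ z, D.res (pr z) = 0 → IsNilpotent z) :
    ∃ (B : Art Λ k) (μ : B ⟶ D) (ι : B →ₐ[Λ] T), Function.Surjective μ ∧ ∀ b, pr (ι b) = μ b :=
  ⟨mkArt T (D.res.comp pr) (D.res_surjective.comp hpr) hnil, Art.homMk pr rfl, AlgHom.id Λ T,
    hpr, fun _ => rfl⟩

end Groth.Agent.ArtFunLib
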