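import Groth.Agent.ArtFunLib.Tangent
import Groth.Agent.S12731

/-!
# Schlessinger's criterion in the classical case
-/

set_option autoImplicit false

universe u v

open CategoryTheory ArtFun ArtFun.Art ArtFun.CRing

noncomputable section

namespace Groth.Agent.ArtFunLib

variable {Λ k : Type u} [CommRing Λ] [Field k] [Algebra Λ k] {F : Art Λ k ⥤ Type v}
variable {R : CRing Λ k} {ξ : Family R.carrier R.res F}

/-- A universal family is versal. -/
lemma IsUniversal.versal (hu : IsUniversal ξ) : IsVersal ξ := fun B A μ _ φ y hy => by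
  obtain ⟨ψ, hψ⟩ := (hu B).2 y
  exact ⟨ψ, (hu A).1 (by rw [ξ.natural, hψ, hy]), hψ⟩

/-- A pro-representable functor is left exact. -/
lemma IsUniversal.leftExact (hu : IsUniversal ξ) : IsLeftExact F := by
  intro B A A' A'' p' p'' f' f'' hP
  refine ⟨cmp_injective fun z z' h₁ h₂ => ?_, cmp_surjective fun x₁ x₂ hx => ?_⟩
  · obtain ⟨φ, rfl⟩ := (hu B).2 z
    obtain ⟨φ', rfl⟩ := (hu B).2 z'
    refine congrArg _ (Subtype.ext (AlgHom.ext fun r => hP.inj _ _ ?_ ?_))
    · exact DFunLike.congr_fun (congrArg Subtype.val ((hu A').1 (a₁ := HomSet.map p' φ)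
        (a₂ := HomSet.map p' φ') (by rw [ξ.natural, ξ.natural, h₁]))) r
    · exact DFunLike.congr_fun (congrArg Subtype.val ((hu A'').1 (a₁ := HomSet.map p'' φ)
        (a₂ := HomSet.map p'' φ') (by rw [ξ.natural, ξ.natural, h₂]))) r
  · obtain ⟨φ₁, rfl⟩ := (hu A').2 x₁
    obtain ⟨φ₂, rfl⟩ := (hu A'').2 x₂
    obtain ⟨φ, h₁, h₂⟩ := exists_homSet_lift hP (g₁ := φ₁) (g₂ := φ₂)
      ((hu A).1 (by rw [ξ.natural, ξ.natural, hx]))
    exact ⟨ξ.app B φ, by rw [← ξ.natural, h₁], by rw [← ξ.natural, h₂]⟩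

variable [IsNoetherianRing Λ] [Module.Finite Λ k]

/-- A miniversal family of a functor satisfying `HSq` is universal. -/
lemma isUniversal_of_miniversal' (hξ : IsMiniversal ξ)
    (h0 : H0 F) (hsq : HSq F) : IsUniversal ξ := by
  intro A
  refine ⟨?_, IsVersal.app_surjective hξ.1 h0 A⟩
  refine surj_induction (P := fun A B μ => Function.Injective (ξ.app A) → Function.Injective (ξ.app B))
    ?_ ?_ (toBase A) (toBase_surjective A) (fun x y _ => Subsingleton.elim x y)
  · intro A B e he hA x y hxy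
    exact homSet_map_injective he.1 (hA (by rw [ξ.natural, ξ.natural, hxy]))
  · intro A B C q s _ hs' ih hA
    refine ih fun x y hxy => ?_
    obtain ⟨Q, p₁, p₂, hQ⟩ := exists_fibreProd s s hs'.1
    obtain ⟨g, hg, hgδ⟩ := exists_torsor hs' hQ
    obtain ⟨δ, hδ₁, hδ₂⟩ := exists_lift hQ (g₁ := 𝟙 _) (g₂ := 𝟙 _) rfl
    have hsxy : HomSet.map s x = HomSet.map s y := hA (by rw [ξ.natural, ξ.natural, hxy])
    obtain ⟨ψ, hψ₁, hψ₂⟩ := exists_homSet_lift hQ (g₁ := x) (g₂ := y) hsxy
    have hξψ : ξ.app Q ψ = F.map δ (ξ.app _ x) := eq_of_inj (hsq p₁ p₂ s hQ hs').1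
      (by rw [← ξ.natural, hψ₁, ← map_comp', hδ₁, map_id'])
      (by rw [← ξ.natural, hψ₂, ← map_comp', hδ₂, map_id', hxy])
    have h₁ : HomSet.map g ψ = HomSet.map g (HomSet.map δ x) := hξ.2.1 (by
      rw [ξ.natural, hξψ, ξ.natural, ξ.natural])
    have h₂ : ψ = HomSet.map δ x := Subtype.ext (AlgHom.ext fun r => hg.inj _ _
      ((DFunLike.congr_fun (congrArg Subtype.val hψ₁) r).trans (congr_hom hδ₁ (x.1 r)).symm)
      (DFunLike.congr_fun (congrArg Subtype.val h₁) r))
    rw [← hψ₂, h₂, ← homSet_map_comp, hδ₂, homSet_map_id]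

/-- Pro-representability gives a hull and finite dimensional tangent space. -/
lemma hfin_of_prorep [TangentStr F] (h0 : H0 F) (P : ProRep F) : Hfin F :=
  (Groth.Agent.S12731.result F h0 ⟨⟨P.ring, P.family, IsUniversal.versal P.universal,
    P.universal _⟩⟩).2.2

/-- Schlessinger's criterion when `k` has no derivations over `Λ`. -/
lemma prorep_of_hSq [TangentStr F] (hk : Subsingleton (Derivation Λ k k)) (h0 : H0 F)
    (hbar : Hbar F) (he : Heps F) (hf : Hfin F) (hsq : HSq F) : IsProrepresentable F := by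
  have := subsingleton_base_dual hk
  obtain ⟨⟨R, ξ, hm⟩⟩ := exists_hull h0 (s1_of_hbar hbar) he hf fun x₀ σ τ _ => Subsingleton.elim σ τ
  exact ⟨⟨R, ξ, isUniversal_of_miniversal' hm h0 hsq⟩⟩

omit [IsNoetherianRing Λ] [Module.Finite Λ k] in
lemma subsingleton_derivation_of_surjective (h : Function.Surjective (algebraMap Λ k)) :
    Subsingleton (Derivation Λ k k) := ⟨fun D D' => Derivation.ext fun x => by
  obtain ⟨y, rfl⟩ := h x
  rw [Derivation.map_algebraMap, Derivation.map_algebraMap]⟩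

omit [IsNoetherianRing Λ] [Module.Finite Λ k] in
lemma algebraMap_surjective_of_tower [Algebra k Λ] [IsScalarTower k Λ k] :
    Function.Surjective (algebraMap Λ k) := fun c =>
  ⟨algebraMap k Λ c, (IsScalarTower.algebraMap_apply k Λ k c).symm⟩

end Groth.Agent.ArtFunLib
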