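import Groth.Agent.ArtFunLib.Basic

/-!
# Small extensions: factorisation, induction, the torsor square
-/

set_option autoImplicit false

universe u

open CategoryTheory ArtFun ArtFun.Art

noncomputable section

namespace Groth.Agent.ArtFunLib

variable {Λ k : Type u} [CommRing Λ] [Field k] [Algebra Λ k]
variable {A B C : Art Λ k}

/-- A nonzero ideal contains a sub-ideal with quotient `k`. -/
lemma exists_cov (B : Art Λ k) {I : Ideal B} (hI : I ≠ ⊥) :
    ∃ (J : Ideal B) (t : B), J < I ∧ t ∈ I ∧ t ∉ J ∧ J ⊔ Ideal.span {t} = I ∧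
      IsLocalRing.maximalIdeal B * I ≤ J := by
  obtain ⟨J, hJ, hmax⟩ := (wellFounded_gt (α := Ideal B)).has_min
    {J : Ideal B | J < I} ⟨⊥, bot_lt_iff_ne_bot.mpr hI⟩
  replace hJ : J < I := hJ
  obtain ⟨t, htI, htJ⟩ := SetLike.exists_of_lt hJ
  have hsup : J ⊔ Ideal.span {t} = I := by
    refine (sup_le hJ.le ((Ideal.span_singleton_le_iff_mem I).mpr htI)).eq_of_not_lt fun hlt => ?_
    refine hmax _ hlt (left_lt_sup.mpr fun hle => htJ (hle (Ideal.mem_span_singleton_self t)))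
  refine ⟨J, t, hJ, htI, htJ, hsup, ?_⟩
  by_contra hle
  have heq : J ⊔ IsLocalRing.maximalIdeal B * I = I :=
    (sup_le hJ.le Ideal.mul_le_right).eq_of_not_lt fun hlt => hmax _ hlt (left_lt_sup.mpr hle)
  have hpow : ∀ n : ℕ, I ≤ J ⊔ IsLocalRing.maximalIdeal B ^ n * I := by
    intro n
    induction n with
    | zero => rw [pow_zero, one_mul]; exact le_sup_right
    | succ n ih =>
      refine ih.trans (sup_le le_sup_left ?_)
      calc IsLocalRing.maximalIdeal B ^ n * I
          = IsLocalRing.maximalIdeal B ^ n * (J ⊔ IsLocalRing.maximalIdeal B * I) := by rw [heq]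
        _ ≤ _ := by
          rw [Ideal.mul_sup, ← mul_assoc, ← pow_succ]
          exact sup_le_sup Ideal.mul_le_right le_rfl
  obtain ⟨n, hn⟩ := isNilpotent_maximalIdeal B
  have := hpow n
  rw [hn, Ideal.bot_mul, sup_bot_eq] at this
  exact hJ.not_ge this

/-- A surjection with nonzero kernel ends in a small extension. -/
lemma exists_factor (f : B ⟶ A) (hf : Function.Surjective f) (hker : RingHom.ker f.toAlgHom ≠ ⊥) :
    ∃ (C : Art Λ k) (q : B ⟶ C) (s : C ⟶ A), q ≫ s = f ∧ Function.Surjective q ∧ IsSmallExt s ∧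
      RingHom.ker q.toAlgHom < RingHom.ker f.toAlgHom := by
  obtain ⟨J, t, hJ, ht, htJ, hsup, hmul⟩ := exists_cov B hker
  have hJm : J ≤ IsLocalRing.maximalIdeal B := hJ.le.trans (ker_le_maximalIdeal f)
  refine ⟨quot B J hJm, quotMk B J hJm, quotFactor hJm f hJ.le, quotMk_quotFactor hJm f hJ.le,
    quotMk_surjective B J hJm, ?_, by rwa [ker_quotMk]⟩
  have hs : ∀ x, quotFactor hJm f hJ.le (quotMk B J hJm x) = f x := fun x => rfl
  have hkey : ∀ y, y ∈ RingHom.ker (quotFactor hJm f hJ.le).toAlgHom →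
      ∃ x ∈ RingHom.ker f.toAlgHom, quotMk B J hJm x = y := fun y hy => by
    obtain ⟨x, rfl⟩ := quotMk_surjective B J hJm y
    exact ⟨x, hy, rfl⟩
  have hspan : RingHom.ker (quotFactor hJm f hJ.le).toAlgHom =
      Ideal.span {quotMk B J hJm t} := by
    refine le_antisymm (fun y hy => ?_) ((Ideal.span_singleton_le_iff_mem _).mpr ht)
    obtain ⟨x, hx, rfl⟩ := hkey y hy
    rw [← hsup] at hx
    obtain ⟨j, hj, z, hz, rfl⟩ := Submodule.mem_sup.mp hx
    obtain ⟨c, rfl⟩ := Ideal.mem_span_singleton'.mp hz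
    refine Ideal.mem_span_singleton'.mpr ⟨quotMk B J hJm c, ?_⟩
    rw [map_add, map_mul, show quotMk B J hJm j = 0 from Ideal.Quotient.eq_zero_iff_mem.mpr hj,
      zero_add]
  refine ⟨fun a => ?_, ?_, ⟨⟨_, hspan⟩⟩, ?_⟩
  · obtain ⟨x, rfl⟩ := hf a
    exact ⟨_, hs x⟩
  · rw [hspan, Ne, Ideal.span_singleton_eq_bot]
    exact fun h => htJ (Ideal.Quotient.eq_zero_iff_mem.mp h)
  · refine le_bot_iff.mp (Ideal.mul_le.mpr fun m hm y hy => ?_)
    obtain ⟨m, rfl⟩ := quotMk_surjective B J hJm m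
    obtain ⟨x, hx, rfl⟩ := hkey y hy
    rw [Ideal.mem_bot, ← map_mul]
    refine Ideal.Quotient.eq_zero_iff_mem.mpr (hmul (Ideal.mul_mem_mul ?_ hx))
    rw [Art.mem_maximalIdeal_iff] at hm ⊢
    exact (Art.res_app (quotMk B J hJm) m).symm.trans hm

/-- Induction along surjections by small extensions at the end. -/
lemma surj_induction {P : ∀ ⦃A B : Art Λ k⦄, (B ⟶ A) → Prop}
    (hbij : ∀ ⦃A B : Art Λ k⦄ (e : B ⟶ A), Function.Bijective e → P e)
    (hstep : ∀ ⦃A B C : Art Λ k⦄ (q : B ⟶ C) (s : C ⟶ A), Function.Surjective q → IsSmallExt s →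
      P q → P (q ≫ s))
    (f : B ⟶ A) (hf : Function.Surjective f) : P f := by
  induction hI : RingHom.ker f.toAlgHom using WellFoundedLT.induction generalizing A with
  | _ I ih =>
    by_cases hker : RingHom.ker f.toAlgHom = ⊥
    · exact hbij f ⟨(injective_iff_ker f).mpr hker, hf⟩
    obtain ⟨C, q, s, rfl, hq, hs, hlt⟩ := exists_factor f hf hker
    exact hstep q s hq hs (ih _ (hI ▸ hlt) q hq rfl)

section SmallExt

variable {p : B ⟶ A} (hp : IsSmallExt p) {t : B} (ht : RingHom.ker p.toAlgHom = Ideal.span {t})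

lemma exists_gen (hp : IsSmallExt p) : ∃ t : B, RingHom.ker p.toAlgHom = Ideal.span {t} :=
  hp.2.2.1.principal

include hp ht in
lemma mul_gen_eq_iff (b b' : B) : b * t = b' * t ↔ B.res b = B.res b' := by
  rw [← sub_eq_zero, ← sub_mul, ← sub_eq_zero (a := B.res b), ← map_sub]
  constructor
  · intro h
    by_contra hne
    have hu : IsUnit (b - b') := by
      by_contra hu
      exact hne ((Art.mem_maximalIdeal_iff B _).mp ((IsLocalRing.mem_maximalIdeal _).mpr hu))
    apply hp.2.1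
    rw [ht, Ideal.span_singleton_eq_bot]
    exact hu.mul_right_eq_zero.mp h
  · intro h
    have := hp.2.2.2.le (Ideal.mul_mem_mul ((Art.mem_maximalIdeal_iff B _).mpr h)
      (ht ▸ Ideal.mem_span_singleton_self t : t ∈ RingHom.ker p.toAlgHom))
    exact this

include ht in
lemma exists_mul_gen {x : B} (hx : p x = 0) : ∃ b, b * t = x :=
  Ideal.mem_span_singleton'.mp (ht ▸ (hx : x ∈ RingHom.ker p.toAlgHom))

/-- The torsor square of a small extension: `B ×_A B = B ×_k k[ε]`. -/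
lemma exists_torsor (hp : IsSmallExt p) {P : Art Λ k} {p₁ p₂ : P ⟶ B} (hP : IsFibreProd p₁ p₂ p p) :
    ∃ g : P ⟶ dual Λ k, IsFibreProd p₁ g (toBase B) (toBase (dual Λ k)) ∧
      ∀ δ : B ⟶ P, δ ≫ p₁ = δ ≫ p₂ → δ ≫ g = toBase B ≫ baseToDual := by
  obtain ⟨t, ht⟩ := exists_gen hp
  have hk : ∀ z : P, ∃ b, b * t = p₂ z - p₁ z := fun z =>
    exists_mul_gen ht (by rw [map_sub, ← hP.w_apply, sub_self])
  choose cf hcf using hk
  have hu : ∀ z b, b * t = p₂ z - p₁ z → B.res (cf z) = B.res b := fun z b hb =>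
    (mul_gen_eq_iff hp ht _ _).mp ((hcf z).trans hb.symm)
  have hres : ∀ z, B.res (p₂ z) = B.res (p₁ z) := fun z => (Art.res_app p₂ z).trans (Art.res_app p₁ z).symm
  let g : P →ₐ[Λ] DualNumber k :=
    { toFun := fun z => (B.res (p₁ z), B.res (cf z))
      map_one' := TrivSqZeroExt.ext (by simp) ((hu 1 0 (by simp)).trans (map_zero _))
      map_zero' := TrivSqZeroExt.ext (by simp) ((hu 0 0 (by simp)).trans (map_zero _))
      map_add' := fun x y => TrivSqZeroExt.ext (by simp <;> rfl)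
        ((hu (x + y) (cf x + cf y) (by rw [add_mul, hcf, hcf, map_add, map_add]; ring)).trans (map_add _ _ _))
      map_mul' := fun x y => TrivSqZeroExt.ext (by simp <;> rfl) <| by
        refine (hu (x * y) (p₁ x * cf y + cf x * p₂ y) ?_).trans ?_
        · rw [add_mul, mul_assoc, hcf, mul_right_comm, hcf, map_mul, map_mul]
          ring
        · rw [map_add, map_mul, map_mul, hres]
          change _ = B.res (p₁ x) • B.res (cf y) + MulOpposite.op (B.res (p₁ y)) • B.res (cf x)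
          rw [smul_eq_mul, op_smul_eq_mul]
      commutes' := fun l => TrivSqZeroExt.ext (by simp; rfl)
        ((hu (algebraMap Λ P l) 0 (by simp)).trans ((map_zero _).trans
          (by rw [TrivSqZeroExt.algebraMap_eq_inl', TrivSqZeroExt.snd_inl]))) }
  let G : P ⟶ dual Λ k := ⟨g, AlgHom.ext fun z => Art.res_app p₁ z⟩
  refine ⟨G, ⟨(eq_toBase _).trans (eq_toBase _).symm, fun z z' h₁ h₂ => hP.inj z z' h₁ ?_,
    fun b d hd => ?_⟩, fun δ hδ => hom_ext' fun b => ?_⟩
  · have hc : cf z * t = cf z' * t :=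
      (mul_gen_eq_iff hp ht _ _).mpr (congrArg TrivSqZeroExt.snd h₂)
    rw [hcf, hcf, h₁] at hc
    exact sub_left_inj.mp hc
  · obtain ⟨c, hc⟩ := B.res_surjective (TrivSqZeroExt.snd (show DualNumber k from d))
    obtain ⟨z, hz₁, hz₂⟩ := hP.surj b (b + c * t) (by
      have : p t = 0 := (ht ▸ Ideal.mem_span_singleton_self t : t ∈ RingHom.ker p.toAlgHom)
      rw [map_add, map_mul, this, mul_zero, add_zero])
    refine ⟨z, hz₁, TrivSqZeroExt.ext ?_ ((hu z c ?_).trans hc)⟩
    · exact (congrArg B.res hz₁).trans hd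
    · rw [hz₁, hz₂, add_sub_cancel_left]
  · refine TrivSqZeroExt.ext (Art.res_app (δ ≫ p₁) b) ((hu (δ b) 0 ?_).trans (map_zero _))
    rw [zero_mul, show p₂ (δ b) = p₁ (δ b) from (congr_hom hδ b).symm, sub_self]

end SmallExt

end Groth.Agent.ArtFunLib
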