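import Groth.Agent.ArtFunLib.Trunc
import Mathlib.RingTheory.Noetherian.Basic

/-!
# Morphisms out of the ring of a versal family
-/

set_option autoImplicit false

universe u v

open CategoryTheory ArtFun ArtFun.Art ArtFun.CRing

noncomputable section

namespace Groth.Agent.ArtFunLib

variable {Λ k : Type u} [CommRing Λ] [Field k] [Algebra Λ k]
variable {F : Art Λ k ⥤ Type v} {R S : CRing Λ k}

/-- Maps to `k[ε]` kill the square of the maximal ideal. -/
lemma homSet_dual_kill (χ : HomSet R.carrier R.res (dual Λ k)) {r : R.carrier} (hr : r ∈ mpow R 1) :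
    χ.1 r = 0 := by
  have := homSet_mpow χ 1 hr
  rw [sq] at this
  refine Submodule.mul_induction_on this (fun u hu v hv => ?_) (fun u v hu hv => by rw [hu, hv, add_zero])
  rw [Art.mem_maximalIdeal_iff] at hu hv
  exact TrivSqZeroExt.ext ((TrivSqZeroExt.fst_mul _ _).trans (by
      rw [show TrivSqZeroExt.fst (show DualNumber k from u) = 0 from hu, zero_mul]; rfl))
    ((TrivSqZeroExt.snd_mul _ _).trans (by
      rw [show TrivSqZeroExt.fst (show DualNumber k from u) = 0 from hu,
        show TrivSqZeroExt.fst (show DualNumber k from v) = 0 from hv]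
      simp only [zero_smul, MulOpposite.op_zero, add_zero]
      rfl))

/-- The induced map of truncations is composition with the quotient map. -/
lemma truncMapOfHom_truncHom (g : R.carrier →ₐ[Λ] S.carrier) (hg : S.res.comp g = R.res) (n : ℕ) :
    (HomSet.map (truncMapOfHom g hg n) (R.truncHom n)).1 = (S.truncHom n).1.comp g :=
  AlgHom.ext fun _ => rfl

lemma push_toFormalElt (ξ : Family R.carrier R.res F) (g : R.carrier →ₐ[Λ] S.carrier)
    (hg : S.res.comp g = R.res) : ξ.toFormalElt.push g hg = (ξ.along g hg).toFormalElt := by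
  refine FormalElt.ext' fun n => ?_
  change F.map (truncMapOfHom g hg n) (ξ.app _ (R.truncHom n)) = ξ.app _ _
  rw [← ξ.natural]
  exact congrArg (ξ.app _) (Subtype.ext (truncMapOfHom_truncHom g hg n))

/-- A formal element with values in a complete ring is pulled back from a versal family along a
map prescribed at one level. -/
lemma exists_hom_of_versal {ξ : Family R.carrier R.res F} (hξ : IsVersal ξ) (u : FormalElt F S)
    (φ₀ : HomSet R.carrier R.res (S.trunc 0)) (hφ₀ : ξ.app _ φ₀ = u.elt 0) :
    ∃ (g : R.carrier →ₐ[Λ] S.carrier) (hg : S.res.comp g = R.res),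
      (ξ.along g hg).toFormalElt = u := by
  have step : ∀ n (φ : HomSet R.carrier R.res (S.trunc n)), ξ.app _ φ = u.elt n →
      ∃ ψ, HomSet.map (S.truncMap n) ψ = φ ∧ ξ.app _ ψ = u.elt (n + 1) := fun n φ hφ =>
    hξ (S.truncMap n) (truncMap_surjective _) φ _ (by rw [hφ, u.compat])
  choose next hnext₁ hnext₂ using step
  let seq : ∀ n, {φ : HomSet R.carrier R.res (S.trunc n) // ξ.app _ φ = u.elt n} := fun n =>
    Nat.rec ⟨φ₀, hφ₀⟩ (fun m p => ⟨next m p.1 p.2, hnext₂ m p.1 p.2⟩) n
  obtain ⟨g, hg, hmk⟩ := exists_algHom_of_trunc (R := S) (fun n => (seq n).1)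
    (fun n => hnext₁ n _ (seq n).2)
  refine ⟨g, hg, FormalElt.ext' fun n => ?_⟩
  exact (congrArg (ξ.app _) (Subtype.ext (AlgHom.ext fun x => hmk n x))).trans (seq n).2

/-- Every formal element is pulled back from a versal family. -/
lemma exists_hom_of_versal' {ξ : Family R.carrier R.res F} (hξ : IsVersal ξ) (h0 : H0 F)
    (u : FormalElt F S) : ∃ (g : R.carrier →ₐ[Λ] S.carrier) (hg : S.res.comp g = R.res),
      (ξ.along g hg).toFormalElt = u := by
  obtain ⟨φ₀, hφ₀⟩ := IsVersal.app_surjective hξ h0 _ (u.elt 0)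
  exact exists_hom_of_versal hξ u φ₀ hφ₀

/-- A surjective endomorphism of a noetherian ring is injective. -/
lemma injective_of_surjective_endo {A : Type*} [CommRing A] [IsNoetherianRing A] (g : A →+* A)
    (hg : Function.Surjective g) : Function.Injective g := by
  obtain ⟨n, hn⟩ := monotone_stabilizes_iff_noetherian.mpr (inferInstance : IsNoetherianRing A)
    ⟨fun n => RingHom.ker (g ^ n), monotone_nat_of_le_succ fun n x hx => by
      rw [RingHom.mem_ker, pow_succ', RingHom.mul_def, RingHom.comp_apply, RingHom.mem_ker.mp hx, map_zero]⟩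
  refine (injective_iff_map_eq_zero g).mpr fun x hx => ?_
  have hs : Function.Surjective (g ^ n : A →+* A) := by
    rw [RingHom.coe_pow]
    exact hg.iterate n
  obtain ⟨y, rfl⟩ := hs x
  have h1 : y ∈ RingHom.ker (g ^ (n + 1)) := by
    rw [RingHom.mem_ker, pow_succ', RingHom.mul_def, RingHom.comp_apply, hx]
  rw [← show RingHom.ker (g ^ n) = RingHom.ker (g ^ (n + 1)) from hn (n + 1) n.le_succ] at h1
  exact h1

end Groth.Agent.ArtFunLib
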