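import Groth.Agent.ArtFunLib.PowerSeries
import Groth.Agent.ArtFunLib.Versal
import Groth.Agent.ArtFunLib.Hull

/-!
# Smooth morphisms of coefficient rings and power series
-/

set_option autoImplicit false

universe u v

open CategoryTheory ArtFun ArtFun.Art ArtFun.CRing

noncomputable section

namespace Groth.Agent.ArtFunLib

variable {Λ k : Type u} [CommRing Λ] [Field k] [Algebra Λ k] [IsNoetherianRing Λ] [Module.Finite Λ k]

/-- Versal families lift along surjections of coefficient rings. -/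
lemma exists_versal_lift_cring {F : Art Λ k ⥤ Type v} (hRS : RS F) {R : CRing Λ k}
    {ξ : Family R.carrier R.res F} (hξ : IsVersal ξ) (A' A : CRing Λ k) (g : A'.carrier →ₐ[Λ] A.carrier)
    (hg : A.res.comp g = A'.res) (hgs : Function.Surjective g) (η' : FormalElt F A')
    (φ : R.carrier →ₐ[Λ] A.carrier) (hφ : A.res.comp φ = R.res)
    (hsq : (ξ.along φ hφ).toFormalElt = η'.push g hg) :
    ∃ (ψ : R.carrier →ₐ[Λ] A'.carrier) (hψ : A'.res.comp ψ = R.res),
      g.comp ψ = φ ∧ (ξ.along ψ hψ).toFormalElt = η' := by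
  have hmg : Ideal.map g (IsLocalRing.maximalIdeal A'.carrier) = IsLocalRing.maximalIdeal A.carrier := by
    refine le_antisymm (Ideal.map_le_iff_le_comap.mpr (maximalIdeal_le_comap g hg)) fun y hy => ?_
    obtain ⟨x, rfl⟩ := hgs y
    refine Ideal.mem_map_of_mem _ ((CRing.mem_maximalIdeal_iff A' x).mpr ?_)
    rw [← res_comp_apply g hg]
    exact (CRing.mem_maximalIdeal_iff A _).mp hy
  let G := fun n => truncMapOfHom g hg n
  have hGs : ∀ n, Function.Surjective (G n) := fun n t => by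
    obtain ⟨y, rfl⟩ := Ideal.Quotient.mk_surjective t
    obtain ⟨x, rfl⟩ := hgs y
    exact ⟨Ideal.Quotient.mk _ x, rfl⟩
  let φn : ∀ n, HomSet R.carrier R.res (A.trunc n) := fun n =>
    ⟨(A.truncHom n).1.comp φ, AlgHom.ext fun x =>
      (homSet_res (A.truncHom n) (φ x)).trans (DFunLike.congr_fun hφ x)⟩
  have hφn : ∀ n, ξ.app _ (φn n) = F.map (G n) (η'.elt n) := fun n =>
    congrArg (fun u : FormalElt F A => u.elt n) hsq
  have hφc : ∀ n, HomSet.map (A.truncMap n) (φn (n + 1)) = φn n := fun n => Subtype.ext (AlgHom.ext fun x => rfl)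
  have hG0 : Function.Bijective (G 0) := ⟨fun a b h => by
    obtain ⟨a, rfl⟩ := Ideal.Quotient.mk_surjective a
    obtain ⟨b, rfl⟩ := Ideal.Quotient.mk_surjective b
    refine Ideal.Quotient.eq.mpr ?_
    have h' : g a - g b ∈ mpow A 0 := Ideal.Quotient.eq.mp h
    rw [mpow, zero_add, pow_one, CRing.mem_maximalIdeal_iff] at h' ⊢
    rwa [← map_sub, res_comp_apply g hg] at h', hGs 0⟩
  have base : ∃ ψ : HomSet R.carrier R.res (A'.trunc 0),
      HomSet.map (G 0) ψ = φn 0 ∧ ξ.app _ ψ = η'.elt 0 := by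
    refine ⟨HomSet.map (homInv (G 0) hG0) (φn 0), ?_, ?_⟩
    · rw [← homSet_map_comp, homInv_comp, homSet_map_id]
    · rw [ξ.natural, hφn, ← map_comp', comp_homInv, map_id']
  have step : ∀ n (ψ : HomSet R.carrier R.res (A'.trunc n)),
      HomSet.map (G n) ψ = φn n → ξ.app _ ψ = η'.elt n → ∃ ψ' : HomSet R.carrier R.res (A'.trunc (n + 1)),
        HomSet.map (A'.truncMap n) ψ' = ψ ∧ HomSet.map (G (n + 1)) ψ' = φn (n + 1) ∧
          ξ.app _ ψ' = η'.elt (n + 1) := by
    intro n ψ h₁ h₂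
    obtain ⟨W, w₁, w₂, hW⟩ := exists_fibreProd (G n) (A.truncMap n) (truncMap_surjective n)
    obtain ⟨μ, hμ₁, hμ₂⟩ := exists_lift hW (g₁ := A'.truncMap n) (g₂ := G (n + 1))
      (truncMapOfHom_truncMap g hg n).symm
    have hμ : Function.Surjective μ := fun z => by
      obtain ⟨a, ha⟩ := Ideal.Quotient.mk_surjective (w₁ z)
      obtain ⟨b, hb⟩ := Ideal.Quotient.mk_surjective (w₂ z)
      have he : g a - b ∈ mpow A n := by
        refine Ideal.Quotient.eq.mp ?_
        have := hW.w_apply z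
        rw [← ha, ← hb] at this
        exact this
      rw [mpow, ← hmg, ← Ideal.map_pow] at he
      obtain ⟨c, hc, hcb⟩ := (Ideal.mem_map_iff_of_surjective g hgs).mp he
      refine ⟨Ideal.Quotient.mk _ (a - c), hW.inj _ _ ((congr_hom hμ₁ _).trans ?_) ((congr_hom hμ₂ _).trans ?_)⟩
      · rw [← ha]
        exact Ideal.Quotient.eq.mpr (by rw [sub_sub_cancel_left]; exact neg_mem hc)
      · rw [← hb]
        exact Ideal.Quotient.eq.mpr (by rw [map_sub, show (g : A'.carrier →+* A.carrier) c = (g : A'.carrier →+* A.carrier) a - b from hcb, sub_sub_cancel, sub_self]; exact zero_mem _)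
    obtain ⟨χ, hχ₁, hχ₂⟩ := exists_homSet_lift hW (g₁ := ψ) (g₂ := φn (n + 1)) (h₁.trans (hφc n).symm)
    have hy : F.map μ (η'.elt (n + 1)) = ξ.app W χ :=
      eq_of_inj (hRS w₁ w₂ _ _ hW (truncMap_surjective n)).1
        (by rw [← map_comp', hμ₁, η'.compat, ← ξ.natural, hχ₁, h₂])
        (by rw [← map_comp', hμ₂, ← ξ.natural, hχ₂, hφn])
    obtain ⟨ψ', hψ', hψy⟩ := hξ μ hμ χ _ hy
    exact ⟨ψ', by rw [← hμ₁, homSet_map_comp, hψ', hχ₁], by rw [← hμ₂, homSet_map_comp, hψ', hχ₂], hψy⟩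
  choose next h₁ h₂ h₃ using step
  obtain ⟨ψ₀, hb₁, hb₂⟩ := base
  let seq : ∀ n, {ψ : HomSet R.carrier R.res (A'.trunc n) // HomSet.map (G n) ψ = φn n ∧ ξ.app _ ψ = η'.elt n} :=
    fun n => Nat.rec ⟨ψ₀, hb₁, hb₂⟩ (fun m p => ⟨next m p.1 p.2.1 p.2.2, h₂ m _ _ _, h₃ m _ _ _⟩) n
  obtain ⟨ψ, hψ, hmk⟩ := exists_algHom_of_trunc (R := A') (fun n => (seq n).1) fun n => h₁ n _ (seq n).2.1 (seq n).2.2
  refine ⟨ψ, hψ, cring_hom_ext A _ _ fun n x => ?_, FormalElt.ext' fun n =>
    (congrArg (ξ.app _) (Subtype.ext (AlgHom.ext fun x => hmk n x))).trans (seq n).2.2⟩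
  exact (congrArg (G n) (hmk n x)).trans (DFunLike.congr_fun (congrArg Subtype.val (seq n).2.1) x)

lemma rs_hR (R : CRing Λ k) : RS (hR R.carrier R.res) := by
  intro B A A' A'' p' p'' f' f'' hP _
  refine ⟨cmp_injective fun z z' h₁ h₂ => Subtype.ext (AlgHom.ext fun r => hP.inj _ _
    (DFunLike.congr_fun (congrArg Subtype.val h₁) r) (DFunLike.congr_fun (congrArg Subtype.val h₂) r)),
    cmp_surjective fun x y hxy => exists_homSet_lift hP hxy⟩

/-- A homomorphism to `k` extending the augmentation is evaluation at the origin. -/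
lemma ps_res_unique {R : CRing Λ k} {n : ℕ} (h : MvPowerSeries (Fin n) R.carrier →+* k)
    (hC : ∀ r, h (MvPowerSeries.C r) = R.res r) (f : MvPowerSeries (Fin n) R.carrier) :
    h f = R.res (MvPowerSeries.constantCoeff f) := by
  set g := f - MvPowerSeries.C (MvPowerSeries.constantCoeff f)
  suffices h g = 0 by
    rw [map_sub, hC, sub_eq_zero] at this
    exact this
  by_contra ha
  obtain ⟨r, hr⟩ := R.res_surjective (-(h g)⁻¹)
  have hu : IsUnit (1 + MvPowerSeries.C r * g) := MvPowerSeries.isUnit_iff_constantCoeff.mpr (by simp [g])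
  have := hu.map h
  rw [map_add, map_mul, map_one, hC, hr, neg_mul, inv_mul_cancel₀ ha, add_neg_cancel] at this
  exact not_isUnit_zero this

/-- Minimal generators of `J` over `K`. -/
lemma exists_minimal_gens {S : Type u} [CommRing S] [IsLocalRing S] [IsNoetherianRing S] {J K : Ideal S}
    (hK : K ≤ J) : ∃ (n : ℕ) (x : Fin n → S), Ideal.span (Set.range x) ⊔ K = J ∧
      ∀ c : Fin n → S, ∑ i, c i * x i ∈ K → ∀ i, c i ∈ IsLocalRing.maximalIdeal S := by
  classical
  have hex : ∃ n : ℕ, ∃ x : Fin n → S, Ideal.span (Set.range x) ⊔ K = J := by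
    obtain ⟨n, x, hx⟩ := Submodule.fg_iff_exists_fin_generating_family.mp (IsNoetherian.noetherian J)
    exact ⟨n, x, by rw [show Ideal.span (Set.range x) = J from hx, sup_eq_left.mpr hK]⟩
  obtain ⟨x, hx⟩ := Nat.find_spec hex
  refine ⟨Nat.find hex, x, hx, fun c hc j => ?_⟩
  by_contra hj
  have hu : IsUnit (c j) := by
    by_contra h
    exact hj ((IsLocalRing.mem_maximalIdeal _).mpr h)
  obtain ⟨m, hm⟩ : ∃ m, Nat.find hex = m + 1 := ⟨_, (Nat.sub_add_cancel (Fin.pos j)).symm⟩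
  let e : Fin (m + 1) ≃ Fin (Nat.find hex) := finCongr hm.symm
  refine Nat.find_min hex (show m < Nat.find hex by omega) ⟨fun i => x (e ((e.symm j).succAbove i)), le_antisymm ?_ ?_⟩
  · refine sup_le (Ideal.span_le.mpr ?_) hK
    rintro _ ⟨i, rfl⟩
    exact hx.le (Ideal.mem_sup_left (Ideal.subset_span ⟨_, rfl⟩))
  · refine hx.ge.trans ?_
    refine sup_le (Ideal.span_le.mpr ?_) le_sup_right
    rintro _ ⟨i, rfl⟩
    rcases eq_or_ne i j with rfl | hij
    · refine (Submodule.smul_mem_iff_of_isUnit _ hu).mp ?_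
      rw [smul_eq_mul, ← sub_sub_cancel (∑ l, c l * x l) (c i * x i),
        Finset.sum_eq_add_sum_sdiff_singleton_of_mem (Finset.mem_univ i), add_sub_cancel_left]
      refine sub_mem (Ideal.mem_sup_right ?_) (Ideal.mem_sup_left (Ideal.sum_mem _ fun l hl => Ideal.mul_mem_left _ _ ?_))
      · rwa [← Finset.sum_eq_add_sum_sdiff_singleton_of_mem (Finset.mem_univ i) fun l => c l * x l]
      · simp only [Finset.mem_sdiff, Finset.mem_singleton] at hl
        obtain ⟨l', hl'⟩ := Fin.exists_succAbove_eq (x := e.symm l) (y := e.symm i) fun h => hl.2 (e.symm.injective h)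
        exact Ideal.subset_span ⟨l', by simp [hl']⟩
    · obtain ⟨i', hi'⟩ := Fin.exists_succAbove_eq (x := e.symm i) (y := e.symm j) fun h => hij (e.symm.injective h)
      exact Ideal.mem_sup_left (Ideal.subset_span ⟨i', by simp [hi']⟩)

/-- The maximal ideal of a power series ring, to first order. -/
lemma psRing_maximal_le {R : CRing Λ k} {n : ℕ} (Q : PSRing R n) :
    IsLocalRing.maximalIdeal Q.ring.carrier ≤
      Ideal.span (Set.range Q.X) ⊔ Ideal.map Q.C.toRingHom (IsLocalRing.maximalIdeal R.carrier) ⊔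
        IsLocalRing.maximalIdeal Q.ring.carrier ^ 2 := by
  have hXm : ∀ i, Q.ring.res (Q.X i) = 0 := fun i => by
    rw [Q.res_e, Q.e_X, MvPowerSeries.constantCoeff_X, map_zero]
  have hCres : ∀ r, Q.ring.res (Q.C r) = R.res r := fun r => by
    rw [Q.res_e, Q.e_C, MvPowerSeries.constantCoeff_C]
  let T := Q.ring.trunc 1
  let mk : Q.ring.carrier →ₐ[Λ] T := (Q.ring.truncHom 1).1
  set W₀ := Ideal.span (Set.range Q.X) ⊔ Ideal.map Q.C.toRingHom (IsLocalRing.maximalIdeal R.carrier)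
  let W : Ideal T := W₀.map mk
  have hW₀ : W₀ ≤ IsLocalRing.maximalIdeal Q.ring.carrier := by
    refine sup_le (Ideal.span_le.mpr ?_) (Ideal.map_le_iff_le_comap.mpr fun r hr => ?_)
    · rintro _ ⟨i, rfl⟩; exact (CRing.mem_maximalIdeal_iff Q.ring _).mpr (hXm i)
    · exact (CRing.mem_maximalIdeal_iff Q.ring _).mpr ((hCres r).trans ((CRing.mem_maximalIdeal_iff R r).mp hr))
  have hW : W ≤ IsLocalRing.maximalIdeal T := Ideal.map_le_iff_le_comap.mpr fun a ha =>
    Ideal.mem_comap.mpr ((Art.mem_maximalIdeal_iff T _).mpr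
      ((homSet_res (Q.ring.truncHom 1) a).trans ((CRing.mem_maximalIdeal_iff Q.ring a).mp (hW₀ ha))))
  let q := quotMk T W hW
  let φT : HomSet Q.ring.carrier Q.ring.res (quot T W hW) := HomSet.map q (Q.ring.truncHom 1)
  obtain ⟨σ, hσ⟩ := exists_homSet_factor (⟨R.res, AlgHom.id_comp _⟩ : HomSet R.carrier R.res (base Λ k))
    R.res_surjective (⟨φT.1.comp Q.C, AlgHom.ext fun r => (homSet_res φT _).trans (hCres r)⟩)
    fun r hr => Ideal.Quotient.eq_zero_iff_mem.mpr (Ideal.mem_map_of_mem mk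
      (Ideal.mem_sup_right (Ideal.mem_map_of_mem Q.C.toRingHom ((CRing.mem_maximalIdeal_iff R r).mpr hr))))
  let φ' : HomSet Q.ring.carrier Q.ring.res (quot T W hW) :=
    HomSet.map σ (⟨Q.ring.res, AlgHom.id_comp _⟩ : HomSet Q.ring.carrier Q.ring.res (base Λ k))
  have heq : φT = φ' := by
    refine (Q.univ _ ⟨φT.1.comp Q.C, AlgHom.ext fun r => (homSet_res φT _).trans (hCres r)⟩ (fun _ => 0)
      fun _ => map_zero _).unique ⟨rfl, fun i => ?_⟩ ⟨AlgHom.ext fun r => ?_, fun i => ?_⟩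
    · exact Ideal.Quotient.eq_zero_iff_mem.mpr (Ideal.mem_map_of_mem mk
        (Ideal.mem_sup_left (Ideal.subset_span ⟨i, rfl⟩)))
    · exact (congrArg σ.toAlgHom (hCres r)).trans (DFunLike.congr_fun (congrArg Subtype.val hσ) r)
    · exact (congrArg σ.toAlgHom (hXm i)).trans (map_zero _)
  intro a ha
  have h1 : mk a ∈ W := Ideal.Quotient.eq_zero_iff_mem.mp
    ((DFunLike.congr_fun (congrArg Subtype.val heq) a).trans
      ((congrArg σ.toAlgHom ((CRing.mem_maximalIdeal_iff Q.ring a).mp ha)).trans (map_zero _)))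
  obtain ⟨b, hb, hab⟩ := (Ideal.mem_map_iff_of_surjective mk Ideal.Quotient.mk_surjective).mp h1
  exact (sub_add_cancel a b) ▸ add_mem (Ideal.mem_sup_right (Ideal.Quotient.eq.mp hab.symm)) (Ideal.mem_sup_left hb)

/-- A map of coefficient rings surjective on cotangent spaces is surjective. -/
lemma surjective_of_cring_cotangent {R S : CRing Λ k} (g : R.carrier →ₐ[Λ] S.carrier) (hg : S.res.comp g = R.res)
    (h : IsLocalRing.maximalIdeal S.carrier ≤
      Ideal.map g.toRingHom (IsLocalRing.maximalIdeal R.carrier) ⊔ IsLocalRing.maximalIdeal S.carrier ^ 2) :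
    Function.Surjective g := by
  refine surjective_of_trunc g hg (surjective_of_cotangent _ fun t ht => ?_)
  obtain ⟨a, rfl⟩ := Ideal.Quotient.mk_surjective t
  have ha : a ∈ IsLocalRing.maximalIdeal S.carrier :=
    (CRing.mem_maximalIdeal_iff S a).mpr ((Art.mem_maximalIdeal_iff (S.trunc 1) _).mp ht)
  obtain ⟨u, hu, w, hw, rfl⟩ := Submodule.mem_sup.mp (h ha)
  rw [map_add]
  have hw0 : Ideal.Quotient.mk (mpow S 1) w = 0 := Ideal.Quotient.eq_zero_iff_mem.mpr hw
  rw [hw0, add_zero]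
  refine Ideal.mem_sup_left ?_
  clear ht ha
  induction hu using Submodule.span_induction with
  | mem z hz =>
    obtain ⟨r, hr, rfl⟩ := hz
    have hmem : (R.truncHom 1).1 r ∈ IsLocalRing.maximalIdeal (R.trunc 1) := (Art.mem_maximalIdeal_iff _ _).mpr
      ((homSet_res (R.truncHom 1) r).trans ((CRing.mem_maximalIdeal_iff R r).mp hr))
    exact Ideal.mem_map_of_mem (truncMapOfHom g hg 1).toAlgHom hmem
  | zero => rw [map_zero]; exact zero_mem _
  | add y z _ _ hy hz => rw [map_add]; exact add_mem hy hz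
  | smul c y _ hy => rw [smul_eq_mul, map_mul]; exact Ideal.mul_mem_left _ _ hy

/-- Smoothness over a coefficient ring means being a power series ring. -/
lemma exists_ps_equiv_of_versal {R S : CRing Λ k} (i : R.carrier →ₐ[Λ] S.carrier) (hi : S.res.comp i = R.res)
    (hv : IsVersal ((Family.self R.carrier R.res).along i hi)) :
    ∃ (n : ℕ) (Q : PSRing R n) (E : Q.ring.carrier ≃ₐ[Λ] S.carrier), ∀ r, E (Q.C r) = i r := by
  set mS := IsLocalRing.maximalIdeal S.carrier
  set mR := IsLocalRing.maximalIdeal R.carrier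
  have hK : mS ^ 2 ⊔ mR.map i.toRingHom ≤ mS := sup_le (Ideal.pow_le_self two_ne_zero)
    (Ideal.map_le_iff_le_comap.mpr (maximalIdeal_le_comap i hi))
  obtain ⟨n, x, hx, hind⟩ := exists_minimal_gens hK
  obtain ⟨Q⟩ := exists_psRing R n
  have hxm : ∀ j, S.res (x j) = 0 := fun j =>
    (CRing.mem_maximalIdeal_iff S _).mp (hx.le (Ideal.mem_sup_left (Ideal.subset_span ⟨j, rfl⟩)))
  obtain ⟨Φ, ⟨hΦ, hΦC, hΦX⟩, -⟩ := Q.univC S i hi x hxm
  have hQC : Q.ring.res.comp Q.C = R.res := AlgHom.ext fun r => by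
    rw [AlgHom.comp_apply, Q.res_e, Q.e_C, MvPowerSeries.constantCoeff_C]
  have hΦs : Function.Surjective Φ := by
    refine surjective_of_cring_cotangent Φ hΦ ?_
    refine hx.ge.trans ?_
    refine sup_le (le_sup_of_le_left (Ideal.span_le.mpr ?_)) (sup_le ?_ ?_)
    · rintro _ ⟨j, rfl⟩
      rw [← hΦX j]
      exact Ideal.mem_map_of_mem Φ.toRingHom ((CRing.mem_maximalIdeal_iff Q.ring _).mpr (by
        rw [Q.res_e, Q.e_X, MvPowerSeries.constantCoeff_X, map_zero]))
    · exact le_sup_right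
    · refine le_sup_of_le_left (Ideal.map_le_iff_le_comap.mpr fun r hr => ?_)
      rw [Ideal.mem_comap, show i.toRingHom r = Φ (Q.C r) from (DFunLike.congr_fun hΦC r).symm]
      exact Ideal.mem_map_of_mem Φ.toRingHom (maximalIdeal_le_comap Q.C hQC hr)
  obtain ⟨ψ, hψ, hΦψ, hψi⟩ := exists_versal_lift_cring (rs_hR R) hv Q.ring S Φ hΦ hΦs
    ((Family.self R.carrier R.res).along Q.C hQC).toFormalElt (AlgHom.id Λ _) (AlgHom.comp_id _)
    (FormalElt.ext' fun m => Subtype.ext (AlgHom.ext fun r =>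
      congrArg (Ideal.Quotient.mk (mpow S m)) (DFunLike.congr_fun hΦC r).symm))
  have hψC : ψ.comp i = Q.C := cring_hom_ext Q.ring _ _ fun m r =>
    DFunLike.congr_fun (congrArg Subtype.val (congrArg (fun u : FormalElt _ Q.ring => u.elt m) hψi)) r
  let h : Q.ring.carrier →ₐ[Λ] Q.ring.carrier := ψ.comp Φ
  have hh : Q.ring.res.comp h = Q.ring.res := by rw [← AlgHom.comp_assoc, hψ, hΦ]
  set mQ := IsLocalRing.maximalIdeal Q.ring.carrier
  set K' := mR.map Q.C.toRingHom ⊔ mQ ^ 2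
  have hker : ∀ z ∈ mQ, Φ z = 0 → z ∈ K' := fun z hz hz0 => by
    have h1 := psRing_maximal_le Q hz
    rw [sup_assoc] at h1
    obtain ⟨s, hs, w, hw, rfl⟩ := Submodule.mem_sup.mp h1
    obtain ⟨c, rfl⟩ := (Submodule.mem_span_range_iff_exists_fun _).mp hs
    refine add_mem (Ideal.sum_mem _ fun j _ => ?_) hw
    have h2 : Φ w ∈ mS ^ 2 ⊔ mR.map i.toRingHom := by
      have : Ideal.map Φ.toRingHom K' ≤ mS ^ 2 ⊔ mR.map i.toRingHom := by
        rw [Ideal.map_sup, Ideal.map_map, Ideal.map_pow,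
          show Φ.toRingHom.comp Q.C.toRingHom = i.toRingHom from congrArg AlgHom.toRingHom hΦC]
        exact sup_le le_sup_right (le_sup_of_le_left
          (Ideal.pow_right_mono (Ideal.map_le_iff_le_comap.mpr (maximalIdeal_le_comap Φ hΦ)) 2))
      exact this (Ideal.mem_map_of_mem Φ.toRingHom hw)
    have h3 : ∑ l, Φ (c l) * x l ∈ mS ^ 2 ⊔ mR.map i.toRingHom := by
      have : Φ (∑ l, c l • Q.X l) = ∑ l, Φ (c l) * x l := by simp [map_sum, hΦX]
      rw [← this, eq_neg_of_add_eq_zero_left ((map_add Φ _ _).symm.trans hz0)]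
      exact neg_mem h2
    have hcj : c j ∈ mQ := by
      rw [CRing.mem_maximalIdeal_iff, ← res_comp_apply Φ hΦ]
      exact (CRing.mem_maximalIdeal_iff S _).mp (hind _ h3 j)
    rw [smul_eq_mul]
    refine Ideal.mem_sup_right ?_
    rw [sq]
    exact Ideal.mul_mem_mul hcj ((CRing.mem_maximalIdeal_iff Q.ring _).mpr (by
      rw [Q.res_e, Q.e_X, MvPowerSeries.constantCoeff_X, map_zero]))
  have hK' : K' ≤ Ideal.map h.toRingHom mQ ⊔ mQ ^ 2 := sup_le
    (le_sup_of_le_left (Ideal.map_le_iff_le_comap.mpr fun r hr => by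
      have : h (Q.C r) = Q.C r :=
        (congrArg ψ (DFunLike.congr_fun hΦC r)).trans (DFunLike.congr_fun hψC r)
      rw [Ideal.mem_comap, show Q.C.toRingHom r = h (Q.C r) from this.symm]
      exact Ideal.mem_map_of_mem h.toRingHom (maximalIdeal_le_comap Q.C hQC hr))) le_sup_right
  have hhs : Function.Surjective h := by
    refine surjective_of_cring_cotangent h hh ((psRing_maximal_le Q).trans ?_)
    refine sup_le (sup_le (Ideal.span_le.mpr ?_) (le_sup_left.trans hK')) le_sup_right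
    rintro _ ⟨j, rfl⟩
    have hXm : Q.X j ∈ mQ := (CRing.mem_maximalIdeal_iff Q.ring _).mpr (by
      rw [Q.res_e, Q.e_X, MvPowerSeries.constantCoeff_X, map_zero])
    have hk : h (Q.X j) - Q.X j ∈ K' := hker _ (sub_mem (maximalIdeal_le_comap h hh hXm) hXm) (by
      rw [map_sub, sub_eq_zero]; exact DFunLike.congr_fun hΦψ _)
    exact (sub_sub_cancel (h (Q.X j)) (Q.X j)) ▸
      sub_mem (Ideal.mem_sup_left (Ideal.mem_map_of_mem h.toRingHom hXm)) (hK' hk)
  have hψs : Function.Surjective ψ := fun q => (hhs q).elim fun p hp => ⟨Φ p, hp⟩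
  refine ⟨n, Q, AlgEquiv.ofBijective Φ ⟨fun a b hab => ?_, hΦs⟩, fun r => DFunLike.congr_fun hΦC r⟩
  obtain ⟨a, rfl⟩ := hψs a
  obtain ⟨b, rfl⟩ := hψs b
  exact congrArg ψ (((DFunLike.congr_fun hΦψ a).symm.trans hab).trans (DFunLike.congr_fun hΦψ b))

/-- Power series rings are smooth over the coefficients. -/
lemma versal_of_ps_equiv {R S : CRing Λ k} (i : R.carrier →ₐ[Λ] S.carrier) (hi : S.res.comp i = R.res) {n : ℕ}
    (e : S.carrier ≃ₐ[Λ] MvPowerSeries (Fin n) R.carrier) (he : ∀ r, e (i r) = MvPowerSeries.C r) :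
    IsVersal ((Family.self R.carrier R.res).along i hi) := by
  obtain ⟨Q⟩ := exists_psRing R n
  let E : S.carrier ≃ₐ[Λ] Q.ring.carrier := e.trans Q.e.symm
  have hEi : ∀ r, E (i r) = Q.C r := fun r => Q.e.injective (by simp [E, he, Q.e_C])
  have hres : ∀ s, Q.ring.res (E s) = S.res s := fun s => by
    rw [Q.res_e, show Q.e (E s) = e s by simp [E]]
    have := ps_res_unique (S.res.toRingHom.comp e.symm.toAlgHom.toRingHom) (fun r => by
      change S.res (e.symm (MvPowerSeries.C r)) = R.res r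
      rw [← he, AlgEquiv.symm_apply_apply]
      exact DFunLike.congr_fun hi r) (e s)
    simp only [RingHom.comp_apply] at this
    rw [← this]
    change S.res (e.symm (e s)) = _
    rw [AlgEquiv.symm_apply_apply]
  intro B A μ hμ φ y hy
  let φQ : HomSet Q.ring.carrier Q.ring.res A := ⟨φ.1.comp E.symm.toAlgHom, AlgHom.ext fun q =>
    (homSet_res φ (E.symm q)).trans (by rw [← hres, AlgEquiv.apply_symm_apply])⟩
  choose b hb using fun j => hμ (φQ.1 (Q.X j))
  have hb0 : ∀ j, B.res (b j) = 0 := fun j => by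
    rw [← Art.res_app μ, hb, homSet_res φQ, Q.res_e, Q.e_X, MvPowerSeries.constantCoeff_X, map_zero]
  obtain ⟨ψ, ⟨hψC, hψX⟩, -⟩ := Q.univ B y b hb0
  have hQC : Q.ring.res.comp Q.C = R.res := AlgHom.ext fun r => by
    rw [AlgHom.comp_apply, Q.res_e, Q.e_C, MvPowerSeries.constantCoeff_C]
  have hμψ : HomSet.map μ ψ = φQ := (Q.univ A ⟨φQ.1.comp Q.C, by rw [← AlgHom.comp_assoc, φQ.2, hQC]⟩
    (fun j => φQ.1 (Q.X j)) fun j => by rw [← hb j, Art.res_app]; exact hb0 j).unique
      ⟨AlgHom.ext fun r => by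
        refine (congrArg μ (DFunLike.congr_fun hψC r)).trans ?_
        refine (DFunLike.congr_fun (congrArg Subtype.val hy) r).trans ?_
        exact congrArg φ.1 (E.injective (by rw [AlgEquiv.apply_symm_apply, hEi]) : i r = E.symm (Q.C r)),
      fun j => (congrArg μ (hψX j)).trans (hb j)⟩ ⟨rfl, fun j => rfl⟩
  refine ⟨⟨ψ.1.comp E.toAlgHom, AlgHom.ext fun s => (homSet_res ψ (E s)).trans (hres s)⟩,
    Subtype.ext (AlgHom.ext fun s => (DFunLike.congr_fun (congrArg Subtype.val hμψ) (E s)).trans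
      (congrArg φ.1 (E.symm_apply_apply s))), Subtype.ext (AlgHom.ext fun r => ?_)⟩
  exact (congrArg ψ.1 (hEi r)).trans (DFunLike.congr_fun hψC r)

end Groth.Agent.ArtFunLib
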