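import Groth.Agent.ArtFunLib.Hull

/-!
# Elements realising tangent vectors; universal families
-/

set_option autoImplicit false

universe u v

open CategoryTheory ArtFun ArtFun.Art ArtFun.CRing

noncomputable section

namespace Groth.Agent.ArtFunLib

variable {Λ k : Type u} [CommRing Λ] [Field k] [Algebra Λ k] {F : Art Λ k ⥤ Type v}

/-- The inclusion `k → k ⊕ k^0`. -/
def baseToDualN0 : base Λ k ⟶ dualN Λ k 0 :=
  ⟨(TrivSqZeroExt.inlAlgHom Λ k (Fin 0 → k)), AlgHom.ext fun _ => rfl⟩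

/-- The projection `k^{d+1} → k^d`. -/
def tailN (d : ℕ) : dualN Λ k (d + 1) ⟶ dualN Λ k d :=
  ⟨tszeMap (LinearMap.funLeft k k Fin.succ), AlgHom.ext fun _ => rfl⟩

lemma isFibreProd_dualN (d : ℕ) :
    IsFibreProd (tailN d) (tN (LinearMap.proj (0 : Fin (d + 1)))) (toBase (dualN Λ k d)) (toBase (dual Λ k)) where
  w := (eq_toBase _).trans (eq_toBase _).symm
  inj b₁ b₂ h₁ h₂ := by
    have e₁ : b₁.fst = b₂.fst := by have e := congrArg TrivSqZeroExt.fst h₁; exact e
    have e₂ : ∀ i : Fin d, b₁.snd i.succ = b₂.snd i.succ := fun i => by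
      have e := congrFun (congrArg TrivSqZeroExt.snd h₁) i; exact e
    have e₃ : b₁.snd 0 = b₂.snd 0 := by have e := congrArg TrivSqZeroExt.snd h₂; exact e
    exact TrivSqZeroExt.ext e₁ (funext (Fin.cases e₃ e₂))
  surj a' a'' h := by
    have h' : a'.fst = a''.fst := h
    exact ⟨(a'.fst, Fin.cases a''.snd a'.snd), TrivSqZeroExt.ext rfl (funext fun i => rfl),
      TrivSqZeroExt.ext h' rfl⟩

/-- Finitely many tangent vectors come from one element over `k ⊕ k^d`. -/
lemma exists_tangent_elt (h0 : H0 F) (h2 : Heps F) : ∀ (d : ℕ) (v : Fin d → F.obj (dual Λ k)),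
    ∃ x : F.obj (dualN Λ k d), ∀ i, F.map (tN (LinearMap.proj i)) x = v i
  | 0, _ => ⟨F.map baseToDualN0 h0.1.some, fun i => i.elim0⟩
  | d + 1, v => by
    obtain ⟨x, hx⟩ := exists_tangent_elt h0 h2 d fun i => v i.succ
    obtain ⟨z, hz₁, hz₂⟩ := exists_of_surj (h2 _ _ (isFibreProd_dualN d)).2 x (v 0) (H0.eq h0 _ _)
    refine ⟨z, fun i => ?_⟩
    induction i using Fin.cases with
    | zero => exact hz₂
    | succ i =>
      rw [← hx i, ← hz₁, ← map_comp']
      rfl

lemma map_tNσ [TangentStr F] (h0 : H0 F) {d : ℕ} (x : F.obj (dualN Λ k d)) (x₀ : F.obj (base Λ k))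
    (σ : base Λ k ⟶ dual Λ k) (l : (Fin d → k) →ₗ[k] k) :
    (F.map (tNσ σ l) x : TangentSpace F) =
      TangentSpace.mk (F := F) (F.map σ x₀) + TangentSpace.mk (F := F) (F.map (tN l) x) := by
  have h : F.map σ x₀ = F.map (toBase _ ≫ σ) x := by
    rw [map_comp', H0.eq h0 (F.map (toBase _) x) x₀]
  have e₁ : F.map (toBase _ ≫ σ) x = F.map pr₁ (F.map (exists_tNσ σ l).choose x) := by
    rw [← map_comp', (exists_tNσ σ l).choose_spec.1]
  have e₂ : F.map (tN l) x = F.map pr₂ (F.map (exists_tNσ σ l).choose x) := by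
    rw [← map_comp', (exists_tNσ σ l).choose_spec.2]
  rw [h, e₁, e₂]
  exact (map_comp' F _ _ x).trans (TangentStr.add_eq (F.map (exists_tNσ σ l).choose x)).symm

/-- The tangent vector of a linear form, linearly. -/
def tangentLin [TangentStr F] {d : ℕ} (x : F.obj (dualN Λ k d)) :
    ((Fin d → k) →ₗ[k] k) →ₗ[k] TangentSpace F where
  toFun l := TangentSpace.mk (F := F) (F.map (tN l) x)
  map_add' l l' := by
    let c : dualN Λ k d ⟶ dual2 Λ k := ⟨tszeMap (l.prod l'), AlgHom.ext fun _ => rfl⟩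
    rw [show tN (l + l') = c ≫ plus from rfl, show tN l = c ≫ pr₁ from rfl,
      show tN l' = c ≫ pr₂ from rfl, map_comp', map_comp', map_comp']
    exact (TangentStr.add_eq (F.map c x)).symm
  map_smul' a l := by
    rw [show tN (a • l) = tN l ≫ scale a from rfl, map_comp', RingHom.id_apply]
    exact (TangentStr.smul_eq a _).symm

lemma tangentLin_eq [TangentStr F] {d : ℕ} {x : F.obj (dualN Λ k d)} {v : Fin d → TangentSpace F}
    (hx : ∀ i, F.map (tN (LinearMap.proj i)) x = v i) (l : (Fin d → k) →ₗ[k] k) :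
    tangentLin x l = ∑ i, l (Pi.single i 1) • v i := by
  have hl : l = ∑ i, l (Pi.single i 1) • LinearMap.proj i := LinearMap.ext fun w => by
    rw [LinearMap.sum_apply]
    conv_lhs => rw [← Finset.univ_sum_single w, map_sum]
    refine Finset.sum_congr rfl fun i _ => ?_
    rw [LinearMap.smul_apply, LinearMap.proj_apply, smul_eq_mul,
      show Pi.single i (w i) = w i • (Pi.single i (1 : k) : Fin d → k) by rw [← Pi.single_smul, smul_eq_mul, mul_one],
      map_smul, smul_eq_mul, mul_comm]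
  conv_lhs => rw [hl, map_sum]
  exact Finset.sum_congr rfl fun i _ => (map_smul _ _ _).trans (congrArg _ (hx i))

variable [IsNoetherianRing Λ] [Module.Finite Λ k]

/-- A miniversal family of a functor satisfying `HSq` is universal. -/
lemma isUniversal_of_miniversal_hsq {R : CRing Λ k} {ξ : Family R.carrier R.res F} (hξ : IsMiniversal ξ)
    (h0 : H0 F) (hrs : HSq F) : IsUniversal ξ := by
  intro A
  refine ⟨?_, IsVersal.app_surjective hξ.1 h0 A⟩
  refine surj_induction (P := fun A B μ => Function.Injective (ξ.app A) → Function.Injective (ξ.app B))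
    ?_ ?_ (toBase A) (toBase_surjective A) (fun x y _ => Subsingleton.elim x y)
  · intro A B e he hA x y hxy
    exact homSet_map_injective he.1 (hA (by rw [ξ.natural, ξ.natural, hxy]))
  · intro A B C q s _ hs' ih hA
    refine ih fun x y hxy => ?_
    obtain ⟨Q, p₁, p₂, hQ⟩ := exists_fibreProd s s hs'.1
    obtain ⟨g, hg, hgδ⟩ := exists_torsor hs' hQ
    obtain ⟨δ, hδ₁, hδ₂⟩ := exists_lift hQ (g₁ := 𝟙 _) (g₂ := 𝟙 _) rfl
    have hsxy : HomSet.map s x = HomSet.map s y := hA (by rw [ξ.natural, ξ.natural, hxy])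
    obtain ⟨ψ, hψ₁, hψ₂⟩ := exists_homSet_lift hQ (g₁ := x) (g₂ := y) hsxy
    have hξψ : ξ.app Q ψ = F.map δ (ξ.app _ x) := eq_of_inj (hrs p₁ p₂ s hQ hs').1
      (by rw [← ξ.natural, hψ₁, ← map_comp', hδ₁, map_id'])
      (by rw [← ξ.natural, hψ₂, ← map_comp', hδ₂, map_id', hxy])
    have h₁ : HomSet.map g ψ = HomSet.map g (HomSet.map δ x) := hξ.2.1 (by
      rw [ξ.natural, hξψ, ξ.natural, ξ.natural])
    have h₂ : ψ = HomSet.map δ x := Subtype.ext (AlgHom.ext fun r => hg.inj _ _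
      ((DFunLike.congr_fun (congrArg Subtype.val hψ₁) r).trans (congr_hom hδ₁ (x.1 r)).symm)
      (DFunLike.congr_fun (congrArg Subtype.val h₁) r))
    rw [← hψ₂, h₂, ← homSet_map_comp, hδ₂, homSet_map_id]

/-- A miniversal family of a functor satisfying `RS` is universal. -/
lemma isUniversal_of_miniversal {R : CRing Λ k} {ξ : Family R.carrier R.res F} (hξ : IsMiniversal ξ)
    (h0 : H0 F) (hrs : RS F) : IsUniversal ξ :=
  isUniversal_of_miniversal_hsq hξ h0 fun _ _ _ p₁ p₂ f h hf => hrs p₁ p₂ f f h hf.1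

/-- No derivations: one morphism from the base to `k[ε]`. -/
lemma subsingleton_base_dual (hk : Subsingleton (Derivation Λ k k)) :
    Subsingleton (base Λ k ⟶ dual Λ k) := by
  have h : ∀ σ : base Λ k ⟶ dual Λ k, ∀ z, sndD (σ z) = 0 := fun σ => by
    let g : k →ₐ[Λ] DualNumber k := σ.toAlgHom
    have hfst : ∀ z, TrivSqZeroExt.fst (g z) = z := fun z => Art.res_app σ z
    let D : Derivation Λ k k := Derivation.mk' ((TrivSqZeroExt.sndHom k k).restrictScalars Λ ∘ₗ g.toLinearMap)
      fun y z => by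
        change TrivSqZeroExt.snd (g (y * z)) = y • TrivSqZeroExt.snd (g z) + z • TrivSqZeroExt.snd (g y)
        rw [map_mul, TrivSqZeroExt.snd_mul, hfst, hfst, op_smul_eq_smul]
    exact fun z => DFunLike.congr_fun (Subsingleton.elim D 0) z
  exact ⟨fun σ τ => hom_ext' fun z => TrivSqZeroExt.ext ((Art.res_app σ z).trans (Art.res_app τ z).symm)
    ((h σ z).trans (h τ z).symm)⟩

/-- A hull from the tangent conditions, when derivations of `k` act freely on tangent vectors. -/
lemma exists_hull [TangentStr F] (h0 : H0 F) (h1 : S1 F) (h2 : Heps F) (h3 : Hfin F)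
    (hc : ∀ x₀ : F.obj (base Λ k), Function.Injective (fun σ : base Λ k ⟶ dual Λ k => F.map σ x₀)) :
    HasHull F := by
  obtain ⟨x₀⟩ := h0.1
  let w : (base Λ k ⟶ dual Λ k) → TangentSpace F := fun σ => TangentSpace.mk (F := F) (F.map σ x₀)
  let W : Submodule k (TangentSpace F) :=
    { carrier := Set.range w
      add_mem' := by
        rintro _ _ ⟨σ, rfl⟩ ⟨τ, rfl⟩
        obtain ⟨g, hg₁, hg₂⟩ := exists_lift isFibreProd_dual2 (g₁ := σ) (g₂ := τ)
          ((eq_toBase _).trans (eq_toBase _).symm)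
        refine ⟨g ≫ plus, ?_⟩
        subst hg₁ hg₂
        simp only [w, map_comp']
        exact (TangentStr.add_eq (F.map g x₀)).symm
      zero_mem' := ⟨baseToDual ≫ scale 0, by
        simp only [w, map_comp']
        exact (TangentStr.smul_eq 0 _).symm.trans (zero_smul k (TangentSpace.mk (F := F) _))⟩
      smul_mem' := by
        rintro a _ ⟨σ, rfl⟩
        refine ⟨σ ≫ scale a, ?_⟩
        simp only [w, map_comp']
        exact (TangentStr.smul_eq a _).symm }
  obtain ⟨W', hW'⟩ := Submodule.exists_isCompl W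
  have : Module.Finite k (TangentSpace F) := h3
  let b := Module.finBasis k W'
  obtain ⟨S, c, hS, hcs, hfac⟩ := exists_smooth_ring (Λ := Λ) (k := k) (Module.finrank k W')
  obtain ⟨x, hx⟩ := exists_tangent_elt h0 h2 _ (fun i => TangentSpace.val (b i : TangentSpace F))
  have hform : ∀ a : dualN Λ k _ ⟶ dual Λ k, ∃ σ l, a = tNσ σ l := fun a => by
    obtain ⟨σ, l, h⟩ := hfac (HomSet.map a c)
    exact ⟨σ, l, (homSet_cancel c hcs h).symm⟩
  have hlin : ∀ l, tangentLin x l = ((∑ i, l (Pi.single i 1) • b i : W') : TangentSpace F) := fun l => by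
    rw [tangentLin_eq hx l]
    simp only [Submodule.coe_sum, Submodule.coe_smul]
    rfl
  have hmap : ∀ σ l, TangentSpace.mk (F := F) (F.map (tNσ σ l) x) = w σ + tangentLin x l := fun σ l =>
    map_tNσ h0 x x₀ σ l
  obtain ⟨R, ξ, hv, hmini⟩ := exists_versal_of h1 h2 hS c hcs x fun y => by
    obtain ⟨⟨_, σ, rfl⟩, ⟨u, hu⟩, hy⟩ : ∃ p : W, ∃ q : W', (p : TangentSpace F) + q = TangentSpace.mk (F := F) y :=
      Submodule.mem_sup.mp (hW'.sup_eq_top.ge (Submodule.mem_top (x := TangentSpace.mk (F := F) y))) |>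
        fun ⟨p, hp, q, hq, h⟩ => ⟨⟨p, hp⟩, ⟨q, hq⟩, h⟩
    let l : (Fin _ → k) →ₗ[k] k := (Pi.basisFun k _).constr k fun i => b.repr ⟨u, hu⟩ i
    refine ⟨tNσ σ l, (show TangentSpace.mk (F := F) (F.map (tNσ σ l) x) = _ from ?_)⟩
    rw [hmap, hlin]
    refine Eq.trans ?_ hy
    congr 2
    refine Eq.trans (Finset.sum_congr rfl fun i _ => ?_) (b.sum_repr ⟨u, hu⟩)
    rw [← Pi.basisFun_apply (R := k)]
    simp only [l, Module.Basis.constr_basis]
  refine ⟨⟨R, ξ, hmini (fun χ => ?_) fun a a' h => ?_⟩⟩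
  · obtain ⟨σ, l, h⟩ := hfac χ
    exact ⟨_, h⟩
  · obtain ⟨σ, l, rfl⟩ := hform a
    obtain ⟨σ', l', rfl⟩ := hform a'
    have h' : w σ + tangentLin x l = w σ' + tangentLin x l' :=
      (hmap σ l).symm.trans ((congrArg (TangentSpace.mk (F := F)) h).trans (hmap σ' l'))
    rw [hlin, hlin] at h'
    have hd : w σ - w σ' = ((∑ i, l' (Pi.single i 1) • b i : W') : TangentSpace F) -
        ((∑ i, l (Pi.single i 1) • b i : W') : TangentSpace F) := sub_eq_sub_iff_add_eq_add.mpr (h'.trans (add_comm _ _))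
    have hzero : w σ - w σ' = 0 := Submodule.disjoint_def.mp hW'.disjoint _
      (W.sub_mem ⟨σ, rfl⟩ ⟨σ', rfl⟩) (hd ▸ W'.sub_mem (Subtype.coe_prop _) (Subtype.coe_prop _))
    obtain rfl := hc x₀ (sub_eq_zero.mp hzero : w σ = w σ')
    have he := Subtype.ext (add_left_cancel h')
    have hl : l = l' := (Pi.basisFun k _).ext fun i => by
      have h₃ := congrArg (fun u => b.repr u i) he
      simp only [b.repr_sum_self] at h₃
      rw [Pi.basisFun_apply]
      exact h₃
    rw [hl]

/-- A versal family from the tangent conditions. -/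
lemma exists_versalPair [TangentStr F] (h0 : H0 F) (h1 : S1 F) (h2 : Heps F) (h3 : Hfin F) :
    HasVersal F := by
  obtain ⟨x₀⟩ := h0.1
  have : Module.Finite k (TangentSpace F) := h3
  let b := Module.finBasis k (TangentSpace F)
  obtain ⟨S, c, hS, hcs, -⟩ := exists_smooth_ring (Λ := Λ) (k := k) (Module.finrank k (TangentSpace F))
  obtain ⟨x, hx⟩ := exists_tangent_elt h0 h2 _ (fun i => TangentSpace.val (b i))
  obtain ⟨R, ξ, hv, -⟩ := exists_versal_of h1 h2 hS c hcs x fun y => by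
    let l : (Fin _ → k) →ₗ[k] k := (Pi.basisFun k _).constr k fun i => b.repr (TangentSpace.mk (F := F) y) i
    refine ⟨tN l, (show tangentLin x l = TangentSpace.mk (F := F) y from ?_)⟩
    rw [tangentLin_eq hx l]
    refine Eq.trans (Finset.sum_congr rfl fun i _ => ?_) (b.sum_repr _)
    rw [← Pi.basisFun_apply (R := k)]
    simp only [l, Module.Basis.constr_basis]
    rfl
  exact ⟨⟨R, ξ, hv⟩⟩

end Groth.Agent.ArtFunLib
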